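import Cfsg.Agent.Fi23Cent.Setting
import Mathlib.GroupTheory.PGroup

/-!
The hypotheses on the fusion of the centre of the radical, and first consequences.
-/

set_option autoImplicit false
set_option maxRecDepth 100000
set_option maxHeartbeats 1000000
set_option linter.style.haveILetI false
set_option linter.unusedSectionVars false

namespace CfsgLib.Fi23Cent

open CfsgLib CfsgLib.U62Cent Subgroup

variable {G : Type*} [Group G]

theorem conj_mul_conj (g a b : G) : g * a * g⁻¹ * (g * b * g⁻¹) = g * (a * b) * g⁻¹ := by group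

theorem back_conj (g a : G) : g⁻¹ * (g * a * g⁻¹) * g = a := by group

theorem commute_conj_iff {g a b : G} : Commute (g * a * g⁻¹) (g * b * g⁻¹) ↔ Commute a b := by
  constructor
  · intro h
    have := h.map (MulAut.conj g⁻¹).toMonoidHom
    simpa [mul_assoc] using this
  · exact fun h => h.map (MulAut.conj g).toMonoidHom

theorem commute_back {g a b : G} (h : Commute a (g * b * g⁻¹)) : Commute (g⁻¹ * a * g) b := by
  rw [← commute_conj_iff (g := g), show g * (g⁻¹ * a * g) * g⁻¹ = a by group]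
  exact h

/-- A commutator of odd order which has order at most two. -/
theorem eq_one_of_odd {O : Subgroup G} [Finite G] (hO : Odd (Nat.card O)) {c : G} (hc : c ∈ O) (h2 : c * c = 1) :
    c = 1 := by
  have h1 : orderOf c ∣ Nat.card O := by
    have := orderOf_dvd_natCard (⟨c, hc⟩ : O)
    rwa [← Subgroup.orderOf_coe] at this
  have h3 : orderOf c ∣ 2 := orderOf_dvd_of_pow_eq_one (by rw [pow_two]; exact h2)
  rcases (Nat.dvd_prime Nat.prime_two).1 h3 with e | e
  · exact orderOf_eq_one_iff.1 e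
  · rw [e] at h1
    exact absurd h1 hO.not_two_dvd_nat

/-- An element of two-power order in a subgroup of odd order. -/
theorem eq_one_of_odd' {O : Subgroup G} [Finite G] (hO : Odd (Nat.card O)) {c : G} (hc : c ∈ O) {n : ℕ}
    (h2 : c ^ (2 ^ n) = 1) : c = 1 := by
  induction n generalizing c with
  | zero => simpa using h2
  | succ n ih =>
    have h1 : c * c = 1 := ih (mul_mem hc hc) (by rw [← pow_two, ← pow_mul, ← pow_succ']; exact h2)
    exact eq_one_of_odd hO hc h1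

namespace Cz

variable {z : G} (D : Cz z)

/-- The normaliser of the four-group. -/
def NW : Subgroup G := Subgroup.normalizer (D.W : Set G)

theorem mem_NW [Finite G] {g : G} : g ∈ D.NW ↔ ∀ w ∈ D.W, g * w * g⁻¹ ∈ D.W := by
  constructor
  · exact fun h w hw => (mem_normalizer_iff.1 h w).1 hw
  · intro h
    refine mem_normalizer_iff.2 fun y => ⟨h y, fun hy => ?_⟩
    let f : D.W → D.W := fun w => ⟨g * w * g⁻¹, h w w.2⟩
    have hf : Function.Injective f := fun a b e => Subtype.ext (by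
      have := congrArg Subtype.val e
      simp only [f] at this
      exact mul_left_cancel (mul_right_cancel this))
    obtain ⟨w, hw⟩ := Finite.surjective_of_injective hf ⟨_, hy⟩
    have : g * w * g⁻¹ = g * y * g⁻¹ := congrArg Subtype.val hw
    rw [← mul_left_cancel (mul_right_cancel this)]
    exact w.2

theorem H_le_NW [Finite G] {h : G} (hh : Commute h z) : h ∈ D.NW := D.mem_NW.2 (D.W_norm h hh)

theorem exists_other {a : G} (ha : a ∈ D.W) (ha1 : a ≠ 1) : ∃ b ∈ D.W, b ≠ 1 ∧ b ≠ a := by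
  classical
  by_contra h
  push Not at h
  have hfin : Finite D.W := Nat.finite_of_card_ne_zero (by rw [D.W_card]; norm_num)
  let f : D.W → Bool := fun w => decide ((w : G) = 1)
  have hf : Function.Injective f := by
    intro v w e
    simp only [f, decide_eq_decide] at e
    by_cases hv : (v : G) = 1
    · exact Subtype.ext (hv.trans (e.1 hv).symm)
    · exact Subtype.ext ((h v v.2 hv).trans (h w w.2 fun hw => hv (e.2 hw)).symm)
  have := Nat.card_le_card_of_injective f hf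
  rw [D.W_card, Nat.card_eq_fintype_card, Fintype.card_bool] at this
  omega

theorem W_cases {a b : G} (ha : a ∈ D.W) (ha1 : a ≠ 1) (hb : b ∈ D.W) (hb1 : b ≠ 1) (hab : a ≠ b) {v : G}
    (hv : v ∈ D.W) : v = 1 ∨ v = a ∨ v = b ∨ v = a * b := by
  classical
  have hfin : Finite D.W := Nat.finite_of_card_ne_zero (by rw [D.W_card]; norm_num)
  have habne : a * b ≠ 1 := fun e => hab (by rw [eq_inv_of_mul_eq_one_left e, D.W_inv hb])
  let f : Fin 4 → D.W := ![1, ⟨a, ha⟩, ⟨b, hb⟩, ⟨a * b, mul_mem ha hb⟩]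
  have hf : Function.Injective f := by
    intro i j e
    have e' := congrArg Subtype.val e
    fin_cases i <;> fin_cases j <;> simp [f, ha1, hb1, habne, hab, ha1.symm, hb1.symm, habne.symm, hab.symm]
      at e' ⊢
  have hb' := (Nat.bijective_iff_injective_and_card f).2 ⟨hf, by rw [D.W_card, Nat.card_fin]⟩
  obtain ⟨i, hi⟩ := hb'.2 ⟨v, hv⟩
  have e := congrArg Subtype.val hi
  fin_cases i <;> simp [f] at e <;> simp [← e]

theorem trans_W {a b : G} (ha : a ∈ D.W) (ha1 : a ≠ 1) (hb : b ∈ D.W) (hb1 : b ≠ 1) :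
    ∃ h, Commute h z ∧ h * a * h⁻¹ = b := by
  obtain ⟨a2, ha2, ha21, hne⟩ := D.exists_other ha ha1
  obtain ⟨b2, hb2, hb21, hne'⟩ := D.exists_other hb hb1
  obtain ⟨h, hh, e, -⟩ := D.full a ha ha1 a2 ha2 ha21 hne.symm b hb hb1 b2 hb2 hb21 hne'.symm
  exact ⟨h, hh, e⟩

/-- A two-group normalising the four-group fixes one of its involutions. -/
theorem fixed_W [Finite G] (P : Subgroup G) (hP : IsPGroup 2 P) (hn : P ≤ D.NW) :
    ∃ e ∈ D.W, e ≠ 1 ∧ ∀ p ∈ P, Commute p e := by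
  classical
  haveI : Fact (Nat.Prime 2) := ⟨Nat.prime_two⟩
  let S := {w : D.W // (w : G) ≠ 1}
  let act : MulAction P S :=
    { smul := fun p w => ⟨⟨(p : G) * (w.1 : G) * (p : G)⁻¹, D.mem_NW.1 (hn p.2) _ w.1.2⟩,
        fun e => w.2 (conj_eq_one_iff.1 e)⟩
      one_smul := fun w => Subtype.ext (Subtype.ext (by
        show (1 : G) * (w.1 : G) * (1 : G)⁻¹ = w.1
        group))
      mul_smul := fun p q w => Subtype.ext (Subtype.ext (by
        show (p : G) * q * (w.1 : G) * ((p : G) * q)⁻¹ = p * (q * (w.1 : G) * (q : G)⁻¹) * (p : G)⁻¹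
        group)) }
  have hS : Nat.card S = 3 := by
    haveI : Fintype D.W := Fintype.ofFinite _
    rw [Nat.card_eq_fintype_card, Fintype.card_subtype]
    rw [show (Finset.univ.filter fun w : D.W => (w : G) ≠ 1) = Finset.univ.erase 1 by ext w; simp]
    rw [Finset.card_erase_of_mem (Finset.mem_univ _), Finset.card_univ, ← Nat.card_eq_fintype_card, D.W_card]
  have h := hP.card_modEq_card_fixedPoints S
  rw [hS] at h
  obtain ⟨⟨w, hw⟩⟩ : Nonempty (MulAction.fixedPoints P S) := by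
    by_contra hn'
    rw [not_nonempty_iff] at hn'
    rw [Nat.card_of_isEmpty (α := MulAction.fixedPoints P S)] at h
    exact absurd h (by decide)
  refine ⟨w.1, w.1.2, w.2, fun p hp => ?_⟩
  have e : ((((⟨p, hp⟩ : P) • w : S).1 : D.W) : G) = (w.1 : G) := congrArg (fun s : S => ((s.1 : D.W) : G)) (hw ⟨p, hp⟩)
  exact mul_inv_eq_iff_eq_mul.1 e

/-- Two commuting elements of the centraliser moving the four-group have a product centralising it. -/
theorem two_move {a b : G} (ha : Commute a z) (hb : Commute b z) (hab : Commute a b) (ha2 : a * a = 1)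
    (hna : ¬ ∀ w ∈ D.W, Commute a w) (hnb : ¬ ∀ w ∈ D.W, Commute b w) (hb2 : b * b = 1) :
    ∀ w ∈ D.W, Commute (a * b) w := by
  push Not at hna
  obtain ⟨w, hw, hna⟩ := hna
  have hw1 : w ≠ 1 := fun e => hna (e ▸ Commute.one_right a)
  set v := a * w * a⁻¹ with hv
  have hvW : v ∈ D.W := D.W_norm a ha w hw
  have hv1 : v ≠ 1 := fun e => hw1 (conj_eq_one_iff.1 e)
  have hvw : v ≠ w := fun e => hna (mul_inv_eq_iff_eq_mul.1 e)
  have hai : a⁻¹ = a := inv_eq_of_mul_eq_one_right ha2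
  have hav : a * v * a⁻¹ = w := by
    rw [hv, show a * (a * w * a⁻¹) * a⁻¹ = a * a * w * (a * a)⁻¹ by group, ha2]; group
  clear_value v
  have hfix : ∀ u ∈ D.W, a * u * a⁻¹ = u → u = 1 ∨ u = w * v := by
    intro u hu e
    rcases D.W_cases hw hw1 hvW hv1 hvw.symm hu with r | r | r | r
    · exact Or.inl r
    · exact absurd (by rw [r] at e; exact e) (fun e' : a * w * a⁻¹ = w => hvw (hv.trans e'))
    · exact absurd (by rw [r, hav] at e; exact e) hvw.symm
    · exact Or.inr r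
  have hwv1 : w * v ≠ 1 := fun e => hvw.symm (by rw [eq_inv_of_mul_eq_one_left e, D.W_inv hvW])
  have hawv : a * (w * v) * a⁻¹ = w * v := by
    rw [← conj_mul_conj, ← hv, hav]
    exact D.W_comm_W hvW hw
  have hbwv : b * (w * v) * b⁻¹ = w * v := by
    refine (hfix _ (D.W_norm b hb _ (mul_mem hw hvW)) ?_).resolve_left fun e => hwv1 (conj_eq_one_iff.1 e)
    calc a * (b * (w * v) * b⁻¹) * a⁻¹ = (a * b) * (w * v) * (a * b)⁻¹ := by group
      _ = b * (a * (w * v) * a⁻¹) * b⁻¹ := by rw [hab.eq]; group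
      _ = _ := by rw [hawv]
  have hbw : b * w * b⁻¹ = v := by
    rcases D.W_cases hw hw1 hvW hv1 hvw.symm (D.W_norm b hb w hw) with r | r | r | r
    · exact absurd r fun e => hw1 (conj_eq_one_iff.1 e)
    · refine absurd ?_ hnb
      have hbv : b * v * b⁻¹ = v := by
        have h := hbwv
        rw [← conj_mul_conj, r] at h
        exact mul_left_cancel h
      intro u hu
      rcases D.W_cases hw hw1 hvW hv1 hvw.symm hu with r' | r' | r' | r' <;> rw [r']
      · exact Commute.one_right b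
      · exact mul_inv_eq_iff_eq_mul.1 r
      · exact mul_inv_eq_iff_eq_mul.1 hbv
      · exact mul_inv_eq_iff_eq_mul.1 hbwv
    · exact r
    · refine absurd (r.trans hbwv.symm) fun e => hv1 ?_
      exact mul_eq_left.1 (mul_left_cancel (mul_right_cancel e)).symm
  have hw' : a * b * w * (a * b)⁻¹ = w := by
    rw [show a * b * w * (a * b)⁻¹ = a * (b * w * b⁻¹) * a⁻¹ by group, hbw, hav]
  have hwv' : a * b * (w * v) * (a * b)⁻¹ = w * v := by
    rw [show a * b * (w * v) * (a * b)⁻¹ = a * (b * (w * v) * b⁻¹) * a⁻¹ by group, hbwv, hawv]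
  intro u hu
  refine mul_inv_eq_iff_eq_mul.1 ?_
  have hv' : a * b * v * (a * b)⁻¹ = v := by
    rw [← conj_mul_conj, hw'] at hwv'
    exact mul_left_cancel hwv'
  rcases D.W_cases hw hw1 hvW hv1 hvw.symm hu with r' | r' | r' | r' <;> rw [r']
  · group
  · exact hw'
  · exact hv'
  · rw [← conj_mul_conj, hw', hv']

/-- The hypotheses on the fusion. -/
structure Fus (D : Cz z) where
  not_Az : ∀ a, InZ D.W z a → a ≠ z → ∀ g, g * a * g⁻¹ ≠ z
  not_AB : ∀ a ∈ D.W, a ≠ 1 → ∀ b, b * z ∈ D.W → b ≠ z → ∀ g, g * a * g⁻¹ ≠ b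
  hA : ∀ a ∈ D.W, a ≠ 1 → ∀ g, Commute g a → Commute (g * z * g⁻¹) z → g ∈ D.NW
  hB : ∀ f, f * z ∈ D.W → f ≠ z → ∃ O : Subgroup G, Odd (Nat.card O) ∧
    ∀ g, Commute g f → (∀ o ∈ O, g * o * g⁻¹ ∈ O) ∧ ∃ h o, Commute h z ∧ Commute h f ∧ o ∈ O ∧ g = h * o
  /-- A distinguished involution. -/
  a0 : G
  a0_mem : a0 ∈ D.W
  a0_ne : a0 ≠ 1
  /-- A Sylow two-subgroup. -/
  T : Subgroup G
  T_two : IsPGroup 2 T
  T_odd : Odd T.index
  T_comm : ∀ t ∈ T, Commute t z ∧ Commute t a0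

variable {D} (F : Fus D) [Finite G]
include F

theorem ne_z_conj {a : G} (h : InZ D.W z a) (hz : a ≠ z) (g : G) : g * a * g⁻¹ ≠ z := F.not_Az a h hz g

theorem B_ne {f : G} (h : f * z ∈ D.W) (hne : f ≠ z) : f ≠ 1 ∧ InZ D.W z f ∧ f * z ≠ 1 :=
  ⟨fun e => D.z_notW (by rwa [e, one_mul] at h), Or.inr h,
    fun e => hne (by rw [eq_inv_of_mul_eq_one_left e, D.z_inv])⟩

/-- A common involution of the centres puts the conjugating element in the normaliser. -/
theorem key {g w : G} (hx : Commute (g * z * g⁻¹) z) (hw : InZ D.W z w) (h1 : w ≠ 1) (hwz : w ≠ z) {w0 : G}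
    (hw0 : InZ D.W z w0) (e : g * w0 * g⁻¹ = w) : g ∈ D.NW := by
  have hw0z : w0 ≠ z := by
    rintro rfl
    refine ne_z_conj F hw hwz g⁻¹ ?_
    rw [← e]; group
  have hw01 : w0 ≠ 1 := fun e' => h1 (by rw [← e, e']; group)
  suffices h : ∃ h, Commute h z ∧ h * w * h⁻¹ = w0 ∧ (∀ g', Commute g' w → Commute (g' * z * g'⁻¹) z → g' ∈ D.NW) by
    obtain ⟨h, hh, he, hgood⟩ := h
    have hzh : h * z * h⁻¹ = z := by rw [hh.eq, mul_inv_cancel_right]
    have hg' : Commute (g * h) w := mul_inv_eq_iff_eq_mul.1 (by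
      rw [show g * h * w * (g * h)⁻¹ = g * (h * w * h⁻¹) * g⁻¹ by group, he, e])
    have hcz : Commute (g * h * z * (g * h)⁻¹) z := by
      rwa [show g * h * z * (g * h)⁻¹ = g * (h * z * h⁻¹) * g⁻¹ by group, hzh]
    have := mul_mem (hgood _ hg' hcz) (inv_mem (D.H_le_NW hh))
    rwa [mul_inv_cancel_right] at this
  rcases hw with hwW | hwW <;> rcases hw0 with hw0W | hw0W
  · obtain ⟨h, hh, he⟩ := D.trans_W hwW h1 hw0W hw01
    exact ⟨h, hh, he, F.hA w hwW h1⟩
  · refine absurd ?_ (F.not_AB w hwW h1 w0 hw0W hw0z g⁻¹)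
    rw [← e]; group
  · exact absurd e (F.not_AB w0 hw0W hw01 w hwW hwz g)
  · obtain ⟨h, hh, he⟩ := D.trans_W hwW (B_ne F hwW hwz).2.2 hw0W (B_ne F hw0W hw0z).2.2
    refine ⟨h, hh, ?_, fun g' hg' hx' => ?_⟩
    · have hzh : h * z * h⁻¹ = z := by rw [hh.eq, mul_inv_cancel_right]
      rw [← conj_mul_conj, hzh] at he
      exact mul_right_cancel he
    obtain ⟨O, hO, hOc⟩ := F.hB w hwW hwz
    obtain ⟨-, h', o, hh', -, ho, rfl⟩ := hOc g' hg'
    have hzw : Commute z w := (D.J_comm w (D.inZ_mem (Or.inr hwW))).symm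
    have hzo : z * o * z⁻¹ ∈ O := (hOc z hzw).1 o ho
    have hx'' : Commute (o * z * o⁻¹) z := by
      have h2 := (commute_conj_iff (g := h') (a := o * z * o⁻¹) (b := z)).1
      refine h2 ?_
      rw [hh'.eq, mul_inv_cancel_right]
      rwa [show h' * (o * z * o⁻¹) * h'⁻¹ = h' * o * z * (h' * o)⁻¹ by group]
    have hc : o * z * o⁻¹ * z ∈ O := by
      have := mul_mem ho (inv_mem hzo)
      rwa [show o * (z * o * z⁻¹)⁻¹ = o * z * o⁻¹ * z⁻¹ by group, D.z_inv] at this
    have hc2 : o * z * o⁻¹ * z * (o * z * o⁻¹ * z) = 1 := by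
      rw [show o * z * o⁻¹ * z * (o * z * o⁻¹ * z) = o * z * o⁻¹ * (z * (o * z * o⁻¹)) * z by group, ← hx''.eq,
        show o * z * o⁻¹ * (o * z * o⁻¹ * z) * z = o * (z * z) * o⁻¹ * (z * z) by group, D.z_sq]
      group
    have := eq_one_of_odd hO hc hc2
    rw [mul_eq_one_iff_eq_inv, D.z_inv] at this
    exact D.H_le_NW (hh'.mul_left (mul_inv_eq_iff_eq_mul.1 this))

/-- The radical part of the centraliser of a conjugate of an involution of the second class. -/
theorem olemma {g f0 u : G} (hx : Commute (g * z * g⁻¹) z) (hf : f0 * z ∈ D.W) (hne : f0 ≠ z) (hu : u ∈ D.J)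
    (huf : Commute u (g * f0 * g⁻¹)) : Commute u (g * z * g⁻¹) := by
  obtain ⟨O, hO, hOc⟩ := F.hB f0 hf hne
  obtain ⟨hnorm, h, o, hh, hh', ho, he⟩ := hOc _ (commute_back huf)
  set v := g⁻¹ * u * g with hv
  have hzw : Commute z f0 := (D.J_comm f0 (D.inZ_mem (Or.inr hf))).symm
  have hzo : z * o⁻¹ * z⁻¹ ∈ O := (hOc z hzw).1 _ (inv_mem ho)
  set x := g * z * g⁻¹ with hxd
  have hxx : x * x = 1 := by rw [hxd, conj_mul_conj, D.z_sq]; group
  have hc : u * x * u⁻¹ * x⁻¹ ∈ D.J := by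
    have := mul_mem hu (D.conj_mem hx (inv_mem hu))
    rwa [show u * (x * u⁻¹ * x⁻¹) = u * x * u⁻¹ * x⁻¹ by group] at this
  have hmem : g⁻¹ * (u * x * u⁻¹ * x⁻¹) * g ∈ O := by
    have hoO : o * (z * o⁻¹ * z⁻¹) ∈ O := mul_mem ho hzo
    have := (hOc h hh').1 _ hoO
    rw [show g⁻¹ * (u * x * u⁻¹ * x⁻¹) * g = v * z * v⁻¹ * z⁻¹ by rw [hv, hxd]; group, he,
      show h * o * z * (h * o)⁻¹ * z⁻¹ = h * (o * (z * o⁻¹ * z⁻¹)) * h⁻¹ * (h * z * h⁻¹ * z⁻¹) by group, hh.eq,
      mul_inv_cancel_right, mul_inv_cancel, mul_one]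
    exact this
  have h4 : (g⁻¹ * (u * x * u⁻¹ * x⁻¹) * g) ^ (2 ^ 2) = 1 := by
    have e1 : (u * x * u⁻¹ * x⁻¹) ^ (2 ^ 2) = 1 := by
      rw [show (2 : ℕ) ^ 2 = 2 * 2 by norm_num, pow_mul, pow_two (u * x * u⁻¹ * x⁻¹)]
      rcases D.sq_cases hc with e | e <;> rw [e, pow_two]
      · rw [one_mul]
      · exact D.z_sq
    have := congrArg (MulAut.conj g⁻¹) e1
    rw [map_pow, map_one] at this
    simpa using this
  have h5 := eq_one_of_odd' hO hmem h4
  rw [show g⁻¹ * (u * x * u⁻¹ * x⁻¹) * g = g⁻¹ * (u * x * u⁻¹ * x⁻¹) * g⁻¹⁻¹ by rw [inv_inv],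
    conj_eq_one_iff] at h5
  exact mul_inv_eq_iff_eq_mul.1 (mul_inv_eq_one.1 h5)

/-- A conjugate of the distinguished involution with a conjugate of the central one commuting with a two-group. -/
theorem exists_central {e0 g : G} (he : e0 ∈ D.W) (he1 : e0 ≠ 1) (P : Subgroup G) (hP : IsPGroup 2 P)
    (hPc : ∀ p ∈ P, Commute p (g * e0 * g⁻¹)) :
    ∃ g', g' * F.a0 * g'⁻¹ = g * e0 * g⁻¹ ∧ ∀ p ∈ P, Commute (g' * z * g'⁻¹) p := by
  classical
  haveI : Fact (Nat.Prime 2) := ⟨Nat.prime_two⟩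
  obtain ⟨h, hh, hhe⟩ := D.trans_W F.a0_mem F.a0_ne he he1
  set k := g * h with hk
  have hka : k * F.a0 * k⁻¹ = g * e0 * g⁻¹ := by rw [hk, ← hhe]; group
  set C := centralizer ({F.a0} : Set G)
  have hTC : F.T ≤ C := fun t ht => mem_centralizer_singleton_iff.2 (F.T_comm t ht).2.eq
  have hidx : ¬ 2 ∣ (F.T.subgroupOf C).index := fun h =>
    F.T_odd.not_two_dvd_nat (h.trans (Subgroup.relIndex_dvd_index_of_le hTC))
  let P' : Subgroup C := P.comap ((MulAut.conj k).toMonoidHom.comp C.subtype)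
  have hP' : IsPGroup 2 P' := hP.comap_of_injective _ ((MulAut.conj k).injective.comp C.subtype_injective)
  obtain ⟨Q, hQ⟩ := hP'.exists_le_sylow
  obtain ⟨c, hc⟩ := MulAction.exists_smul_eq C
    ((F.T_two.comap_of_injective _ C.subtype_injective : IsPGroup 2 (F.T.subgroupOf C)).toSylow hidx) Q
  refine ⟨k * c, ?_, fun p hp => ?_⟩
  · have hca : Commute (c : G) F.a0 := mem_centralizer_singleton_iff.1 c.2
    rw [show k * (c : G) * F.a0 * (k * c)⁻¹ = k * ((c : G) * F.a0 * (c : G)⁻¹) * k⁻¹ by group, hca.eq,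
      mul_inv_cancel_right, hka]
  · have hpc : k⁻¹ * p * k ∈ C := mem_centralizer_singleton_iff.2 (commute_back (hka ▸ hPc p hp)).eq
    have hpQ : (⟨_, hpc⟩ : C) ∈ (Q : Subgroup C) := hQ (show k * (k⁻¹ * p * k) * k⁻¹ ∈ P by
      rwa [show k * (k⁻¹ * p * k) * k⁻¹ = p by group])
    rw [← hc, Sylow.coe_subgroup_smul] at hpQ
    obtain ⟨t, ht, e⟩ := hpQ
    have e' : (c : G) * t * (c : G)⁻¹ = k⁻¹ * p * k := congrArg Subtype.val e
    rw [show p = k * c * (t : G) * (k * c)⁻¹ by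
      rw [show k * c * (t : G) * (k * c)⁻¹ = k * ((c : G) * t * (c : G)⁻¹) * k⁻¹ by group, e']; group]
    exact commute_conj_iff.2 (F.T_comm t ht).1.symm

end Cz

end CfsgLib.Fi23Cent
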