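import Cfsg.Agent.Fi23Cent.Pre
import Cfsg.Agent.Fi23Cent.Fusion

/-!
The four-group, the part centralising it, and its image.
-/

set_option autoImplicit false
set_option maxRecDepth 100000
set_option maxHeartbeats 1000000
set_option linter.style.haveILetI false
set_option linter.unusedSectionVars false
set_option linter.unusedVariables false

namespace CfsgLib.Fi23Cent

open CfsgLib CfsgLib.U62Cent Subgroup

theorem conj_psp_inj {F : Type*} [Field F] [Fintype F] (hF : Fintype.card F = 3) :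
    Function.Injective (MulAut.conj : Cfsg.PSp 2 F →* MulAut (Cfsg.PSp 2 F)) := by
  obtain ⟨φ⟩ := nonempty_psp_iso hF
  refine (injective_iff_map_eq_one _).2 fun x hx => φ.symm.injective ?_
  rw [map_one]
  have hc : φ.symm x ∈ Subgroup.center U4 := mem_center_iff.2 fun y => φ.injective (by
    have h1 := DFunLike.congr_fun hx (φ y)
    rw [MulAut.conj_apply, MulAut.one_apply, mul_inv_eq_iff_eq_mul] at h1
    simp [h1])
  rwa [center_SU4, mem_bot] at hc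

theorem conj_aut {P : Type*} [Group P] (α : MulAut P) (p : P) : α * MulAut.conj p * α⁻¹ = MulAut.conj (α p) :=
  MulEquiv.ext fun x => by simp [MulAut.mul_apply, map_mul, map_inv]

theorem cent_inn {P : Type*} [Group P] (hi : Function.Injective (MulAut.conj : P →* MulAut P)) (α : MulAut P)
    (h : ∀ p, α * MulAut.conj p = MulAut.conj p * α) : α = 1 := MulEquiv.ext fun p => hi (by
  rw [← conj_aut, h, mul_inv_cancel_right]; rfl)

theorem inn_le_normal {P : Type*} [Group P] [IsSimpleGroup P]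
    (hi : Function.Injective (MulAut.conj : P →* MulAut P)) (A : Subgroup (MulAut P)) [A.Normal] (hA : A ≠ ⊥)
    (p : P) : MulAut.conj p ∈ A := by
  obtain ⟨α, hα, hα1⟩ := (Subgroup.ne_bot_iff_exists_ne_one.1 hA).elim fun a ha =>
    (⟨a, a.2, fun e => ha (Subtype.ext e)⟩ : ∃ α, α ∈ A ∧ α ≠ 1)
  obtain ⟨q, hq⟩ : ∃ q, α * MulAut.conj q ≠ MulAut.conj q * α := by
    by_contra h
    push Not at h
    exact hα1 (cent_inn hi α h)
  have htop : A.comap (MulAut.conj : P →* MulAut P) = ⊤ := by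
    refine (inferInstance : (A.comap (MulAut.conj : P →* MulAut P)).Normal).eq_bot_or_eq_top.resolve_left fun h => ?_
    have h1 : α q * q⁻¹ ∈ A.comap (MulAut.conj : P →* MulAut P) := by
      rw [mem_comap, map_mul, map_inv, ← conj_aut]
      rw [show α * MulAut.conj q * α⁻¹ * (MulAut.conj q)⁻¹ = α * (MulAut.conj q * α⁻¹ * (MulAut.conj q)⁻¹) by group]
      exact mul_mem hα (Subgroup.Normal.conj_mem inferInstance _ (inv_mem hα) _)
    rw [h, mem_bot, mul_inv_eq_one] at h1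
    refine hq ?_
    conv_rhs => rw [← h1, ← conj_aut, inv_mul_cancel_right]
  exact mem_comap.1 (htop ▸ mem_top p)

namespace Pre

variable {G : Type*} [Group G] {z : G} {F : Type*} [Field F] [Fintype F] (P : Pre z F)

include P

theorem cinv : P.c⁻¹ = P.c ^ 2 := inv_eq_of_mul_eq_one_right (by rw [← pow_succ']; exact P.c3)

theorem z_inv : z⁻¹ = z := inv_eq_of_mul_eq_one_right P.z_sq

theorem Z_inv {w : G} (hw : w ∈ P.Z) : w⁻¹ = w := inv_eq_of_mul_eq_one_right (P.Z_sq w hw)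

theorem Z_comm {v w : G} (hv : v ∈ P.Z) (hw : w ∈ P.Z) : Commute v w := P.Z_cen v (P.Z_le hv) w hw

theorem z_Z : z ∈ P.Z := P.cen_Z z P.z_mem fun j hj => (P.J_comm j hj).symm

theorem Z_norm {h w : G} (hh : Commute h z) (hw : w ∈ P.Z) : h * w * h⁻¹ ∈ P.Z := by
  refine P.cen_Z _ (P.J_norm h hh w (P.Z_le hw)) fun j hj => ?_
  have h1 := P.J_norm h⁻¹ hh.inv_left j hj
  rw [inv_inv] at h1
  have h2 := commute_conj_iff (g := h).2 (P.Z_cen _ h1 w hw).symm
  rwa [show h * (h⁻¹ * j * h) * h⁻¹ = j by group] at h2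

theorem th_c (i : ℕ) : ∀ h : centralizer ({z} : Set G), (h : G) = P.c ^ i → P.θ h = 1 :=
  fun h e => (P.θ_ker h).2 ⟨1, one_mem _, i, by rw [e, one_mul]⟩

theorem c_pow_J {i : ℕ} (h : P.c ^ i ∈ P.J) : P.c ^ i = 1 := by
  obtain ⟨k, hk⟩ := P.J_two ⟨_, h⟩
  exact two_three (congrArg Subtype.val hk) (by rw [← pow_mul, mul_comm, pow_mul, P.c3, one_pow])

theorem c_pow_cases (i : ℕ) : P.c ^ i = 1 ∨ P.c ^ i = P.c ∨ P.c ^ i = P.c⁻¹ := by
  obtain ⟨k, hk, e⟩ := zpow_mod_three P.c3 (i : ℤ)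
  rw [zpow_natCast] at e
  rw [e]
  interval_cases k
  · exact Or.inl (pow_zero _)
  · exact Or.inr (Or.inl (pow_one _))
  · exact Or.inr (Or.inr P.cinv.symm)

/-- The element of order three is sent to itself or its inverse modulo the radical. -/
theorem pm {h : G} (hh : Commute h z) :
    ∃ j ∈ P.J, h * P.c * h⁻¹ = j * P.c ∨ h * P.c * h⁻¹ = j * P.c⁻¹ := by
  have hc := (hh.mul_left P.c_comm).mul_left hh.inv_left
  let H : centralizer ({z} : Set G) := ⟨h, mem_centralizer_singleton_iff.2 hh.eq⟩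
  let C : centralizer ({z} : Set G) := ⟨P.c, mem_centralizer_singleton_iff.2 P.c_comm.eq⟩
  have h1 : P.θ (H * C * H⁻¹) = 1 := by
    rw [map_mul, map_mul, P.th_c 1 C (pow_one _).symm, mul_one, map_inv, mul_inv_cancel]
  obtain ⟨j, hj, i, e⟩ := (P.θ_ker _).1 h1
  have e' : h * P.c * h⁻¹ = j * P.c ^ i := e
  refine ⟨j, hj, ?_⟩
  rcases P.c_pow_cases i with r | r | r <;> rw [r] at e'
  · exfalso
    rw [mul_one] at e'
    obtain ⟨k, hk⟩ := P.J_two ⟨j, hj⟩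
    exact P.c_ne (conj_eq_one_iff.1 (e'.trans (two_three (congrArg Subtype.val hk)
      (by rw [← e', conj_pow, P.c3]; group))))
  · exact Or.inl e'
  · exact Or.inr e'

/-- The product over the orbit of the element of order three. -/
def N (x : G) : G := x * (P.c * x * P.c⁻¹) * (P.c⁻¹ * x * P.c)

theorem cx {x : G} (hx : x ∈ P.Z) : P.c * x * P.c⁻¹ ∈ P.Z := P.Z_norm P.c_comm hx

theorem cix {x : G} (hx : x ∈ P.Z) : P.c⁻¹ * x * P.c ∈ P.Z := by
  have := P.Z_norm P.c_comm.inv_left hx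
  rwa [inv_inv] at this

theorem N_mem {x : G} (hx : x ∈ P.Z) : P.N x ∈ P.Z := mul_mem (mul_mem hx (P.cx hx)) (P.cix hx)

theorem c_twice (x : G) : P.c * (P.c * x * P.c⁻¹) * P.c⁻¹ = P.c⁻¹ * x * P.c := by
  rw [show P.c * (P.c * x * P.c⁻¹) * P.c⁻¹ = (P.c * P.c) * x * (P.c * P.c)⁻¹ by group, ← pow_two, ← P.cinv, inv_inv]

theorem N_mul {x y : G} (hx : x ∈ P.Z) (hy : y ∈ P.Z) : P.N (x * y) = P.N x * P.N y := by
  unfold N
  rw [← conj_mul_conj, show P.c⁻¹ * (x * y) * P.c = P.c⁻¹ * x * P.c * (P.c⁻¹ * y * P.c) by group]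
  have a := P.Z_comm (P.cx hx) hy
  have b := P.Z_comm (P.cix hx) (mul_mem hy (P.cx hy))
  generalize P.c * x * P.c⁻¹ = x1 at a ⊢
  generalize P.c * y * P.c⁻¹ = y1 at b ⊢
  generalize P.c⁻¹ * x * P.c = x2 at b ⊢
  generalize P.c⁻¹ * y * P.c = y2
  calc x * y * (x1 * y1) * (x2 * y2) = x * (y * x1) * y1 * x2 * y2 := by group
    _ = x * x1 * (y * y1 * x2) * y2 := by rw [a.eq.symm]; group
    _ = _ := by rw [b.eq.symm]; group

theorem N_cases {x : G} (hx : x ∈ P.Z) : P.N x = 1 ∨ P.N x = z := by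
  refine P.cJ _ (P.Z_le (P.N_mem hx)) ?_
  have e : P.c * P.N x * P.c⁻¹ = P.c * x * P.c⁻¹ * (P.c⁻¹ * x * P.c) * x := by
    unfold N
    rw [← conj_mul_conj, ← conj_mul_conj, P.c_twice]
    group
  show P.c * P.N x = P.N x * P.c
  refine mul_inv_eq_iff_eq_mul.1 (e.trans ?_)
  rw [← (P.Z_comm hx (mul_mem (P.cx hx) (P.cix hx))).eq]
  unfold N
  group

theorem N_z : P.N z = z := by
  unfold N
  rw [P.c_comm.eq, mul_inv_cancel_right, show P.c⁻¹ * z * P.c = P.c⁻¹ * (z * P.c) by group, ← P.c_comm.eq,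
    inv_mul_cancel_left, P.z_sq, one_mul]

theorem N_one : P.N 1 = 1 := by unfold N; group

/-- The four-group. -/
def W : Subgroup G where
  carrier := {x | x ∈ P.Z ∧ P.N x = 1}
  one_mem' := ⟨one_mem _, P.N_one⟩
  mul_mem' := fun {a b} ha hb => ⟨mul_mem ha.1 hb.1, by rw [P.N_mul ha.1 hb.1, ha.2, hb.2, mul_one]⟩
  inv_mem' := fun {a} ha => by rw [P.Z_inv ha.1]; exact ha

theorem W_Z {w : G} (hw : w ∈ P.W) : w ∈ P.Z := hw.1

theorem z_notW : z ∉ P.W := fun h => P.z_ne (P.N_z.symm.trans h.2)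

theorem Z_WZ {x : G} (hx : x ∈ P.Z) : InZ P.W z x := by
  rcases P.N_cases hx with h | h
  · exact Or.inl ⟨hx, h⟩
  · exact Or.inr ⟨mul_mem hx P.z_Z, by rw [P.N_mul hx P.z_Z, h, P.N_z, P.z_sq]⟩

theorem WZ_Z {x : G} (hx : InZ P.W z x) : x ∈ P.Z := by
  rcases hx with h | h
  · exact h.1
  · have := mul_mem h.1 P.z_Z
    rwa [mul_assoc, P.z_sq, mul_one] at this

theorem W_card [Finite G] : Nat.card P.W = 4 := by
  classical
  let f : P.W × Bool → P.Z := fun p => if p.2 then ⟨(p.1 : G) * z, mul_mem p.1.2.1 P.z_Z⟩ else ⟨p.1, p.1.2.1⟩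
  have hf : Function.Bijective f := by
    constructor
    · rintro ⟨v, b⟩ ⟨w, b'⟩ h
      cases b <;> cases b' <;> simp only [f, Bool.false_eq_true, if_false, if_true] at h <;>
        have h' := congrArg Subtype.val h <;> simp only at h'
      · rw [Subtype.ext h']
      · exact absurd (mul_mem (inv_mem w.2) v.2) (by rw [h', inv_mul_cancel_left]; exact P.z_notW)
      · exact absurd (mul_mem (inv_mem v.2) w.2) (by rw [← h', inv_mul_cancel_left]; exact P.z_notW)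
      · rw [Subtype.ext (mul_right_cancel h')]
    · rintro ⟨x, hx⟩
      rcases P.Z_WZ hx with h | h
      · exact ⟨(⟨x, h⟩, false), rfl⟩
      · exact ⟨(⟨x * z, h⟩, true), Subtype.ext (by
          show x * z * z = x
          rw [mul_assoc, P.z_sq, mul_one])⟩
  have h := Nat.card_eq_of_bijective f hf
  rw [Nat.card_prod, P.Z_card, Nat.card_eq_fintype_card (α := Bool), Fintype.card_bool] at h
  omega

theorem conj_jmul {j y x : G} (hj : j ∈ P.J) (h : y * x * y⁻¹ ∈ P.Z) :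
    j * y * x * (j * y)⁻¹ = y * x * y⁻¹ := by
  rw [show j * y * x * (j * y)⁻¹ = j * (y * x * y⁻¹) * j⁻¹ by group, (P.Z_cen j hj _ h).eq, mul_inv_cancel_right]

/-- How conjugation passes the element of order three on the centre of the radical. -/
theorem pass {h : G} (hh : Commute h z) :
    ((∃ j ∈ P.J, h * P.c * h⁻¹ = j * P.c) ∧ ∀ x ∈ P.Z,
        h * (P.c * x * P.c⁻¹) * h⁻¹ = P.c * (h * x * h⁻¹) * P.c⁻¹ ∧
        h * (P.c⁻¹ * x * P.c) * h⁻¹ = P.c⁻¹ * (h * x * h⁻¹) * P.c) ∨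
    ((∃ j ∈ P.J, h * P.c * h⁻¹ = j * P.c⁻¹) ∧ ∀ x ∈ P.Z,
        h * (P.c * x * P.c⁻¹) * h⁻¹ = P.c⁻¹ * (h * x * h⁻¹) * P.c ∧
        h * (P.c⁻¹ * x * P.c) * h⁻¹ = P.c * (h * x * h⁻¹) * P.c⁻¹) := by
  obtain ⟨j, hj, r | r⟩ := P.pm hh
  · left
    refine ⟨⟨j, hj, r⟩, fun x hx => ?_⟩
    have hx' := P.Z_norm hh hx
    have e : ∀ y ∈ P.Z, h * (P.c * y * P.c⁻¹) * h⁻¹ = P.c * (h * y * h⁻¹) * P.c⁻¹ := fun y hy => by
      rw [show h * (P.c * y * P.c⁻¹) * h⁻¹ = h * P.c * h⁻¹ * (h * y * h⁻¹) * (h * P.c * h⁻¹)⁻¹ by group, r,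
        P.conj_jmul hj (P.cx (P.Z_norm hh hy))]
    refine ⟨e x hx, ?_⟩
    rw [← P.c_twice, e _ (P.cx hx), e _ hx, P.c_twice]
  · right
    refine ⟨⟨j, hj, r⟩, fun x hx => ?_⟩
    have e : ∀ y ∈ P.Z, h * (P.c * y * P.c⁻¹) * h⁻¹ = P.c⁻¹ * (h * y * h⁻¹) * P.c := fun y hy => by
      have hy' : P.c⁻¹ * (h * y * h⁻¹) * P.c⁻¹⁻¹ ∈ P.Z := P.Z_norm P.c_comm.inv_left (P.Z_norm hh hy)
      rw [show h * (P.c * y * P.c⁻¹) * h⁻¹ = h * P.c * h⁻¹ * (h * y * h⁻¹) * (h * P.c * h⁻¹)⁻¹ by group, r,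
        P.conj_jmul hj hy', inv_inv]
    refine ⟨e x hx, ?_⟩
    rw [← P.c_twice, e _ (P.cx hx), e _ hx]
    rw [show P.c⁻¹ * (P.c⁻¹ * (h * x * h⁻¹) * P.c) * P.c = (P.c⁻¹ * P.c⁻¹) * (h * x * h⁻¹) * (P.c⁻¹ * P.c⁻¹)⁻¹ by simp [mul_assoc],
      ← pow_two,
      show P.c⁻¹ ^ 2 = P.c by rw [inv_pow, ← P.cinv, inv_inv]]

theorem W_norm {h w : G} (hh : Commute h z) (hw : w ∈ P.W) : h * w * h⁻¹ ∈ P.W := by
  refine ⟨P.Z_norm hh hw.1, ?_⟩
  have hx := P.Z_norm hh hw.1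
  have e : h * P.N w * h⁻¹ = P.N (h * w * h⁻¹) := by
    unfold N
    rw [← conj_mul_conj, ← conj_mul_conj]
    rcases P.pass hh with ⟨-, r⟩ | ⟨-, r⟩ <;> rw [(r w hw.1).1, (r w hw.1).2]
    rw [mul_assoc, (P.Z_comm (P.cix hx) (P.cx hx)).eq, ← mul_assoc]
  rw [← e, hw.2]
  group

theorem W_fix {w : G} (hw : w ∈ P.W) (h : P.c * w * P.c⁻¹ = w) : w = 1 := by
  rcases P.cJ w (P.Z_le hw.1) (mul_inv_eq_iff_eq_mul.1 h) with e | e
  · exact e
  · exact absurd (e ▸ hw) P.z_notW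

theorem exists_ne [Finite G] : ∃ a ∈ P.W, a ≠ 1 := by
  by_contra h
  push Not at h
  have : P.W = ⊥ := (Subgroup.eq_bot_iff_forall _).2 h
  have h4 := P.W_card
  rw [this, Subgroup.card_bot] at h4
  omega

theorem ci_ne {a : G} (ha : a ∈ P.W) (h : P.c⁻¹ * a * P.c = a) : a = 1 := by
  refine P.W_fix ha ?_
  conv_lhs => rw [← h]
  group

theorem c_ne_ci {a : G} (ha : a ∈ P.W) (h : P.c * a * P.c⁻¹ = P.c⁻¹ * a * P.c) : a = 1 := by
  refine P.W_fix ha ?_
  have h1 : P.c * (P.c * a * P.c⁻¹) * P.c⁻¹ = P.c * (P.c⁻¹ * a * P.c) * P.c⁻¹ := by rw [h]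
  rw [P.c_twice, show P.c * (P.c⁻¹ * a * P.c) * P.c⁻¹ = a by group, ← h] at h1
  exact h1

theorem W_orbit [Finite G] {a b : G} (ha : a ∈ P.W) (ha1 : a ≠ 1) (hb : b ∈ P.W) (hb1 : b ≠ 1) :
    b = a ∨ b = P.c * a * P.c⁻¹ ∨ b = P.c⁻¹ * a * P.c := by
  have hb' : P.c * a * P.c⁻¹ ∈ P.W := P.W_norm P.c_comm ha
  have hd' : P.c⁻¹ * a * P.c ∈ P.W := by
    have := P.W_norm P.c_comm.inv_left ha
    rwa [inv_inv] at this
  by_contra hn
  push Not at hn
  let f : Fin 5 → P.W :=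
    ![1, ⟨a, ha⟩, ⟨_, hb'⟩, ⟨_, hd'⟩, ⟨b, hb⟩]
  have hb0 : P.c * a * P.c⁻¹ ≠ 1 := fun e => ha1 (conj_eq_one_iff.1 e)
  have hd0 : P.c⁻¹ * a * P.c ≠ 1 := fun e => ha1 (by
    have := congrArg (fun g => P.c * g * P.c⁻¹) e
    simpa [mul_assoc] using this)
  have h1 : P.c * a * P.c⁻¹ ≠ a := fun e => ha1 (P.W_fix ha e)
  have h2 : P.c⁻¹ * a * P.c ≠ a := fun e => ha1 (P.ci_ne ha e)
  have h3 : P.c * a * P.c⁻¹ ≠ P.c⁻¹ * a * P.c := fun e => ha1 (P.c_ne_ci ha e)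
  have hf : Function.Injective f := by
    intro i j e
    have e' : ((f i : P.W) : G) = f j := congrArg Subtype.val e
    fin_cases i <;> fin_cases j <;> simp only [f] at e' <;> first
      | rfl
      | exact absurd e' ha1 | exact absurd e'.symm ha1
      | exact absurd e' hb1 | exact absurd e'.symm hb1
      | exact absurd e' hb0 | exact absurd e'.symm hb0
      | exact absurd e' hd0 | exact absurd e'.symm hd0
      | exact absurd e' h1 | exact absurd e'.symm h1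
      | exact absurd e' h2 | exact absurd e'.symm h2
      | exact absurd e' h3 | exact absurd e'.symm h3
      | exact absurd e' hn.1 | exact absurd e'.symm hn.1
      | exact absurd e' hn.2.1 | exact absurd e'.symm hn.2.1
      | exact absurd e' hn.2.2 | exact absurd e'.symm hn.2.2
  have h := Nat.card_le_card_of_injective f hf
  rw [P.W_card, Nat.card_fin] at h
  omega

theorem full [Finite G] {a b a' b' : G} (ha : a ∈ P.W) (ha1 : a ≠ 1) (hb : b ∈ P.W) (hb1 : b ≠ 1) (hab : a ≠ b)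
    (ha' : a' ∈ P.W) (ha1' : a' ≠ 1) (hb' : b' ∈ P.W) (hb1' : b' ≠ 1) (hab' : a' ≠ b') :
    ∃ h, Commute h z ∧ h * a * h⁻¹ = a' ∧ h * b * h⁻¹ = b' := by
  obtain ⟨g, hg, hga⟩ : ∃ g, Commute g z ∧ g * a * g⁻¹ = a' := by
    rcases P.W_orbit ha ha1 ha' ha1' with e | e | e
    · exact ⟨1, Commute.one_left z, by rw [e]; group⟩
    · exact ⟨P.c, P.c_comm, e.symm⟩
    · exact ⟨P.c⁻¹, P.c_comm.inv_left, by rw [e, inv_inv]⟩
  have hgb := P.W_norm hg hb
  have hgb1 : g * b * g⁻¹ ≠ 1 := fun e => hb1 (conj_eq_one_iff.1 e)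
  by_cases he : g * b * g⁻¹ = b'
  · exact ⟨g, hg, hga, he⟩
  obtain ⟨t, ht, j, hj, htc⟩ := P.inv
  have hcase := (P.pass ht).resolve_left fun ⟨⟨k, hk, hk'⟩, _⟩ => P.c_ne (by
    have h1 : P.c ^ 2 ∈ P.J := by
      rw [pow_two, show P.c * P.c = k⁻¹ * (k * P.c) * P.c by group, ← hk', htc]
      simpa [mul_assoc] using mul_mem (inv_mem hk) hj
    have h2 := P.c_pow_J h1
    have h3 := P.c3
    rwa [pow_succ, h2, one_mul] at h3)
  obtain ⟨s, hs, hsc, hsa⟩ : ∃ s, Commute s z ∧ Commute s P.c ∧ s * (t * a' * t⁻¹) * s⁻¹ = a' := by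
    rcases P.W_orbit (P.W_norm ht ha') (fun e => ha1' (conj_eq_one_iff.1 e)) ha' ha1' with e | e | e
    · exact ⟨1, Commute.one_left z, Commute.one_left _, by rw [← e]; group⟩
    · exact ⟨P.c, P.c_comm, Commute.refl _, e.symm⟩
    · exact ⟨P.c⁻¹, P.c_comm.inv_left, (Commute.refl P.c).inv_left, by rw [inv_inv]; exact e.symm⟩
  have hflip : s * t * (P.c * a' * P.c⁻¹) * (s * t)⁻¹ = P.c⁻¹ * a' * P.c ∧
      s * t * (P.c⁻¹ * a' * P.c) * (s * t)⁻¹ = P.c * a' * P.c⁻¹ := by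
    obtain ⟨e1, e2⟩ := hcase.2 a' ha'.1
    constructor
    · rw [show s * t * (P.c * a' * P.c⁻¹) * (s * t)⁻¹ = s * (t * (P.c * a' * P.c⁻¹) * t⁻¹) * s⁻¹ by group, e1,
        show s * (P.c⁻¹ * (t * a' * t⁻¹) * P.c) * s⁻¹ = s * P.c⁻¹ * (t * a' * t⁻¹) * (s * P.c⁻¹)⁻¹ by group,
        hsc.inv_right.eq, show P.c⁻¹ * s * (t * a' * t⁻¹) * (P.c⁻¹ * s)⁻¹ =
          P.c⁻¹ * (s * (t * a' * t⁻¹) * s⁻¹) * P.c by group, hsa]
    · rw [show s * t * (P.c⁻¹ * a' * P.c) * (s * t)⁻¹ = s * (t * (P.c⁻¹ * a' * P.c) * t⁻¹) * s⁻¹ by group, e2,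
        show s * (P.c * (t * a' * t⁻¹) * P.c⁻¹) * s⁻¹ = s * P.c * (t * a' * t⁻¹) * (s * P.c)⁻¹ by group,
        hsc.eq, show P.c * s * (t * a' * t⁻¹) * (P.c * s)⁻¹ =
          P.c * (s * (t * a' * t⁻¹) * s⁻¹) * P.c⁻¹ by group, hsa]
  have hne : g * b * g⁻¹ ≠ a' := fun e => hab (mul_left_cancel (mul_right_cancel (hga.trans e.symm)))
  refine ⟨s * t * g, (hs.mul_left ht).mul_left hg, ?_, ?_⟩
  · rw [show s * t * g * a * (s * t * g)⁻¹ = s * (t * (g * a * g⁻¹) * t⁻¹) * s⁻¹ by group, hga, hsa]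
  · rw [show s * t * g * b * (s * t * g)⁻¹ = s * t * (g * b * g⁻¹) * (s * t)⁻¹ by group]
    rcases (P.W_orbit ha' ha1' hgb hgb1).resolve_left hne with r | r <;>
      rcases (P.W_orbit ha' ha1' hb' hb1').resolve_left hab'.symm with r' | r'
    · exact absurd (r.trans r'.symm) he
    · rw [r, r', hflip.1]
    · rw [r, r', hflip.2]
    · exact absurd (r.trans r'.symm) he

theorem inner_Z {h w : G} (hh : Commute h z) (hW : ∀ v ∈ P.W, Commute h v) (hw : w ∈ P.Z) : Commute h w := by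
  rcases P.Z_WZ hw with r | r
  · exact hW w r
  · have := (hW _ r).mul_right hh
    rwa [mul_assoc, P.z_sq, mul_one] at this

/-- Conjugation by an element commuting with the four-group keeps the element of order three. -/
theorem inner_pass [Finite G] {h : G} (hh : Commute h z) (hW : ∀ v ∈ P.W, Commute h v) :
    ∃ j ∈ P.J, h * P.c * h⁻¹ = j * P.c := by
  obtain ⟨r, -⟩ | ⟨-, e⟩ := P.pass hh
  · exact r
  · obtain ⟨a, ha, ha1⟩ := P.exists_ne
    have e1 := (e a ha.1).1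
    rw [(hW _ (P.W_norm P.c_comm ha)).eq, (hW a ha).eq, mul_inv_cancel_right, mul_inv_cancel_right] at e1
    exact absurd (P.c_ne_ci ha e1) ha1

theorem c_pow_inner [Finite G] {i : ℕ} (h : ∀ v ∈ P.W, Commute (P.c ^ i) v) : P.c ^ i = 1 := by
  obtain ⟨a, ha, ha1⟩ := P.exists_ne
  rcases P.c_pow_cases i with r | r | r
  · exact r
  · rw [r] at h
    exact absurd (P.W_fix ha (by rw [(h a ha).eq, mul_inv_cancel_right])) ha1
  · rw [r] at h
    exact absurd (P.ci_ne ha (by rw [(h a ha).eq, inv_mul_cancel_right])) ha1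

/-- The part centralising the four-group. -/
def H0 : Subgroup ↥(centralizer ({z} : Set G)) where
  carrier := {h | ∀ w ∈ P.W, Commute (h : G) w}
  one_mem' := fun w _ => Commute.one_left w
  mul_mem' := fun {a b} ha hb w hw => (ha w hw).mul_left (hb w hw)
  inv_mem' := fun {a} ha w hw => (ha w hw).inv_left

theorem H0_normal : P.H0.Normal := ⟨fun x hx g w hw => by
  have hg : Commute (g : G) z := mem_centralizer_singleton_iff.1 g.2
  have h1 := P.W_norm hg.inv_left hw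
  rw [inv_inv] at h1
  have h2 := commute_conj_iff (g := (g : G)).2 (hx _ h1)
  rw [show (g : G) * ((g : G)⁻¹ * w * g) * (g : G)⁻¹ = w by group] at h2
  exact h2⟩

theorem th_H0 {h : centralizer ({z} : Set G)} (hh : h ∈ P.H0) [Finite G] (e : P.θ h = 1) : (h : G) ∈ P.J := by
  obtain ⟨j, hj, i, e'⟩ := (P.θ_ker h).1 e
  have h1 : P.c ^ i = 1 := P.c_pow_inner fun v hv => by
    have h2 : Commute (j * P.c ^ i) v := e' ▸ hh v hv
    have h3 := ((P.Z_cen j hj v hv.1).inv_left).mul_left h2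
    rwa [inv_mul_cancel_left] at h3
  rw [e', h1, mul_one]
  exact hj

/-- The image of the part centralising the four-group. -/
theorem th_range [Finite G] (hF : Fintype.card F = 3) (α : MulAut (Cfsg.PSp 2 F)) :
    (∃ h ∈ P.H0, P.θ h = α) ↔ ∃ p, MulAut.conj p = α := by
  classical
  haveI := psp_simple hF
  haveI := P.H0_normal
  haveI : (P.H0.map P.θ).Normal := Subgroup.Normal.map inferInstance _ P.θ_surj
  have hi := conj_psp_inj hF
  obtain ⟨a, ha, ha1⟩ := P.exists_ne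
  have hne : P.H0.map P.θ ≠ ⊥ := by
    intro hbot
    choose s hs using P.θ_surj
    let f : MulAut (Cfsg.PSp 2 F) → P.W × P.W := fun x =>
      (⟨(s x : G) * a * (s x : G)⁻¹, P.W_norm (mem_centralizer_singleton_iff.1 (s x).2) ha⟩,
        ⟨(s x : G) * (P.c * a * P.c⁻¹) * (s x : G)⁻¹,
          P.W_norm (mem_centralizer_singleton_iff.1 (s x).2) (P.W_norm P.c_comm ha)⟩)
    have hf : Function.Injective f := by
      intro x y e
      have e1 : (s x : G) * a * (s x : G)⁻¹ = (s y : G) * a * (s y : G)⁻¹ :=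
        congrArg (fun p : P.W × P.W => (p.1 : G)) e
      have e2 : (s x : G) * (P.c * a * P.c⁻¹) * (s x : G)⁻¹ = (s y : G) * (P.c * a * P.c⁻¹) * (s y : G)⁻¹ :=
        congrArg (fun p : P.W × P.W => (p.2 : G)) e
      have c1 : Commute ((s y : G)⁻¹ * s x) a := by
        refine mul_inv_eq_iff_eq_mul.1 ?_
        rw [show (s y : G)⁻¹ * s x * a * ((s y : G)⁻¹ * s x)⁻¹ = (s y : G)⁻¹ * ((s x : G) * a * (s x : G)⁻¹) * s y by
          group, e1]
        group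
      have c2 : Commute ((s y : G)⁻¹ * s x) (P.c * a * P.c⁻¹) := by
        refine mul_inv_eq_iff_eq_mul.1 ?_
        rw [show (s y : G)⁻¹ * s x * (P.c * a * P.c⁻¹) * ((s y : G)⁻¹ * s x)⁻¹ =
          (s y : G)⁻¹ * ((s x : G) * (P.c * a * P.c⁻¹) * (s x : G)⁻¹) * s y by group, e2]
        group
      have hd : (s y)⁻¹ * s x ∈ P.H0 := by
        intro w hw
        rcases eq_or_ne w 1 with rfl | hw1
        · exact Commute.one_right _
        rcases P.W_orbit ha ha1 hw hw1 with rfl | rfl | rfl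
        · exact c1
        · exact c2
        · have hN : a * (P.c * a * P.c⁻¹) * (P.c⁻¹ * a * P.c) = 1 := ha.2
          rw [show P.c⁻¹ * a * P.c = (a * (P.c * a * P.c⁻¹))⁻¹ from eq_inv_of_mul_eq_one_right hN]
          exact (c1.mul_right c2).inv_right
      have h1 : P.θ ((s y)⁻¹ * s x) = 1 := mem_bot.1 (hbot ▸ mem_map_of_mem P.θ hd)
      rw [map_mul, map_inv, hs, hs] at h1
      exact (eq_of_inv_mul_eq_one h1).symm
    have h := Nat.card_le_card_of_injective f hf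
    rw [Nat.card_prod, P.W_card, (card_mulAut_psp hF).1] at h
    omega
  constructor
  · rintro ⟨h, hh, rfl⟩
    by_contra hno
    have hn : P.θ h ∉ Cfsg.Inn (Cfsg.PSp 2 F) := fun ⟨p, hp⟩ => hno ⟨p, hp⟩
    obtain ⟨t, ht, j, hj, htc⟩ := P.inv
    let T : centralizer ({z} : Set G) := ⟨t, mem_centralizer_singleton_iff.2 ht.eq⟩
    obtain ⟨g, hg, e⟩ : ∃ g ∈ P.H0, P.θ g = P.θ T := by
      by_cases hT : P.θ T ∈ Cfsg.Inn (Cfsg.PSp 2 F)
      · obtain ⟨p, hp⟩ := hT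
        obtain ⟨g, hg, e⟩ := inn_le_normal hi _ hne p
        exact ⟨g, hg, e.trans hp⟩
      · obtain ⟨p, hp⟩ := (Subgroup.mul_mem_iff_of_index_two (inn_index_two hF) (a := P.θ T) (b := (P.θ h)⁻¹)).2
          (iff_of_false hT (by rwa [inv_mem_iff]))
        obtain ⟨g, hg, e⟩ := inn_le_normal hi _ hne p
        exact ⟨g * h, mul_mem hg hh, by rw [map_mul, e, hp, inv_mul_cancel_right]⟩
    obtain ⟨k, hk, i, e'⟩ := (P.θ_ker (g⁻¹ * T)).1 (by rw [map_mul, map_inv, e, inv_mul_cancel])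
    have e2 : t = (g : G) * (k * P.c ^ i) := by rw [← e']; simp [T]
    have hconj : ∀ w ∈ P.W, t * w * t⁻¹ = P.c ^ i * w * (P.c ^ i)⁻¹ := fun w hw => by
      have h1 := P.W_norm (P.c_comm.pow_left i) hw
      rw [e2, show (g : G) * (k * P.c ^ i) * w * ((g : G) * (k * P.c ^ i))⁻¹ =
        (g : G) * (k * P.c ^ i * w * (k * P.c ^ i)⁻¹) * (g : G)⁻¹ by group, P.conj_jmul hk h1.1, (hg _ h1).eq,
        mul_inv_cancel_right]
    rcases P.pass ht with ⟨⟨m, hm, hm'⟩, -⟩ | ⟨-, e3⟩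
    · refine P.c_ne ?_
      have h1 : P.c ^ 2 ∈ P.J := by
        rw [pow_two, show P.c * P.c = m⁻¹ * (m * P.c) * P.c by group, ← hm', htc]
        simpa [mul_assoc] using mul_mem (inv_mem hm) hj
      have h2 := P.c_pow_J h1
      have h3 := P.c3
      rwa [pow_succ, h2, one_mul] at h3
    · have e4 := (e3 a ha.1).1
      rw [hconj a ha, hconj _ (P.W_norm P.c_comm ha),
        show P.c ^ i * (P.c * a * P.c⁻¹) * (P.c ^ i)⁻¹ = P.c ^ i * P.c * a * (P.c ^ i * P.c)⁻¹ by group,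
        ((Commute.refl P.c).pow_left i).eq,
        show P.c * P.c ^ i * a * (P.c * P.c ^ i)⁻¹ = P.c * (P.c ^ i * a * (P.c ^ i)⁻¹) * P.c⁻¹ by group] at e4
      exact ha1 (conj_eq_one_iff.1 (P.c_ne_ci (P.W_norm (P.c_comm.pow_left i) ha) e4))
  · rintro ⟨p, rfl⟩
    exact inn_le_normal hi _ hne p

end Pre

end CfsgLib.Fi23Cent
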