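import Cfsg.Agent.Fi23Cent.QuotSetup

/-!
Reading the outcomes on the quotient.
-/

set_option autoImplicit false
set_option maxRecDepth 100000
set_option maxHeartbeats 1000000
set_option linter.style.haveILetI false
set_option linter.unusedSectionVars false
set_option linter.unusedVariables false

namespace CfsgLib.Fi23Cent

open CfsgLib CfsgLib.U62Cent Subgroup

attribute [local instance] central_normal

variable {G : Type*} [Group G] [Finite G] {z : G} (D : Cz z)

theorem pow_odd_eq {x : G} (hx : x * x = 1) {n : ℕ} (hn : Odd n) : x ^ n = x := by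
  obtain ⟨k, rfl⟩ := hn
  rw [pow_succ, pow_mul, pow_two, hx, one_pow, one_mul]

/-- The odd core. -/
theorem alpha_of_cover {a0 e : G} (he2 : e * e = 1) (he1 : e ≠ 1) (Q : QFacts (z := z) e a0)
    (h : centralizer ({Q.zq} : Set (Qt e)) ⊔ Cfsg.oddCore (Qt e) = ⊤) : IsAlpha z e := by
  classical
  haveI : Fact (Nat.Prime 2) := ⟨Nat.prime_two⟩
  set C := centralizer ({e} : Set G)
  set N := (zpowers e).subgroupOf C
  set π := QuotientGroup.mk' N
  have hπs : Function.Surjective π := QuotientGroup.mk'_surjective _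
  set O0 := Cfsg.oddCore (Qt e)
  haveI hO0n : O0.Normal := Solvable.pPrimeCore_normal 2
  have hO0 : Odd (Nat.card O0) := by
    rw [Nat.odd_iff]
    have hc : (Nat.card O0).Coprime 2 := Solvable.coprime_card_pPrimeCore 2
    exact Nat.odd_iff.1 (Nat.coprime_two_right.1 hc)
  set O1 : Subgroup C := O0.comap π
  haveI hO1n : O1.Normal := hO0n.comap π
  set N1 : Subgroup O1 := N.subgroupOf O1
  have heC : e ∈ C := mem_centralizer_singleton_iff.2 rfl
  have heO1 : (⟨e, heC⟩ : C) ∈ O1 := by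
    show π ⟨e, heC⟩ ∈ O0
    rw [show π ⟨e, heC⟩ = 1 from (QuotientGroup.eq_one_iff _).2 (mem_subgroupOf.2 (mem_zpowers e))]
    exact one_mem _
  have hpow : ∀ x : G, x ∈ zpowers e → x = 1 ∨ x = e := fun x hx => by
    obtain ⟨i, rfl⟩ := mem_zpowers_iff.1 hx
    rcases Int.even_or_odd' i with ⟨k, rfl | rfl⟩
    · left; rw [zpow_mul, zpow_two, he2, one_zpow]
    · right; rw [zpow_add, zpow_mul, zpow_two, he2, one_zpow, one_mul, zpow_one]
  let ρ : O1 →* O0 := (π.comp O1.subtype).codRestrict O0 fun x => x.2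
  have hρ : Function.Surjective ρ := fun q => by
    obtain ⟨g, hg⟩ := hπs q.1
    exact ⟨⟨g, show π g ∈ O0 from hg ▸ q.2⟩, Subtype.ext hg⟩
  have hρk : ρ.ker = N1 := by
    ext x
    refine Iff.trans ?_ ((QuotientGroup.eq_one_iff (N := N) ((x : O1) : C)).trans (Subgroup.mem_subgroupOf (H := N) (K := O1) (h := x)).symm)
    exact ⟨fun h => congrArg Subtype.val h, fun h => Subtype.ext h⟩
  haveI : N1.Normal := hρk ▸ inferInstance
  have hidx : N1.index = Nat.card O0 := by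
    rw [← hρk, Subgroup.index_ker, MonoidHom.range_eq_top.2 hρ, Subgroup.card_top]
  have hcN : Nat.card N1 = 2 := by
    rw [Nat.card_congr (Subgroup.subgroupOfEquivOfLe (show N ≤ O1 from fun x hx => by
      show π x ∈ O0
      rw [show π x = 1 from (QuotientGroup.eq_one_iff x).2 hx]
      exact one_mem _)).toEquiv, Nat.card_congr (Subgroup.subgroupOfEquivOfLe (show zpowers e ≤ C from
        zpowers_le.2 heC)).toEquiv, Nat.card_zpowers]
    exact orderOf_eq_prime (by rw [pow_two]; exact he2) he1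
  obtain ⟨T, hT⟩ := Subgroup.exists_right_complement'_of_coprime (N := N1) (by
    rw [hcN, hidx]; exact Nat.coprime_two_left.2 hO0)
  set n := Nat.card T
  have hn : Odd n := by
    have := hT.card_mul_card
    rw [hcN, ← N1.card_mul_index, hcN, hidx] at this
    rwa [show n = Nat.card O0 by omega]
  have hdec : ∀ x : O1, ∃ a : O1, a ∈ N1 ∧ ∃ t ∈ T, x = a * t := fun x => by
    obtain ⟨⟨a, t⟩, ht⟩ := hT.2 x
    exact ⟨a.1, a.2, t.1, t.2, ht.symm⟩
  have hNe : ∀ a : O1, a ∈ N1 → ((a : C) : G) = 1 ∨ ((a : C) : G) = e := fun a ha => hpow _ ha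
  have hTn : ∀ x : O1, x ∈ T ↔ x ^ n = 1 := by
    intro x
    constructor
    · intro hx
      have h := pow_card_eq_one' (x := (⟨x, hx⟩ : T))
      exact congrArg Subtype.val h
    · intro hx
      obtain ⟨a, ha, t, ht, rfl⟩ := hdec x
      have ht1 : t ^ n = 1 := by
        have h := pow_card_eq_one' (x := (⟨t, ht⟩ : T))
        exact congrArg Subtype.val h
      have hcm : Commute a t := by
        refine Subtype.ext (Subtype.ext ?_)
        show ((a : C) : G) * ((t : C) : G) = ((t : C) : G) * ((a : C) : G)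
        rcases hNe a ha with r | r <;> rw [r]
        · rw [one_mul, mul_one]
        · exact (mem_centralizer_singleton_iff.1 (t : C).2).symm
      rw [hcm.mul_pow, ht1, mul_one] at hx
      have ha2 : a * a = 1 := Subtype.ext (Subtype.ext (by
        show ((a : C) : G) * ((a : C) : G) = 1
        rcases hNe a ha with r | r <;> rw [r]
        · rw [one_mul]
        · exact he2))
      rw [pow_odd_eq ha2 hn] at hx
      rw [hx, one_mul]
      exact ht
  set O : Subgroup G := (T.map O1.subtype).map C.subtype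
  have hmemO : ∀ (x : O1), x ∈ T → ((x : C) : G) ∈ O := fun x hx =>
    mem_map_of_mem _ (mem_map_of_mem _ hx)
  refine ⟨O, ?_, Subgroup.map_subtype_le _, fun g hg => ?_⟩
  · rw [Subgroup.card_map_of_injective C.subtype_injective, Subgroup.card_map_of_injective O1.subtype_injective]
    exact hn
  let g' : C := ⟨g, mem_centralizer_singleton_iff.2 hg.eq⟩
  refine ⟨?_, ?_⟩
  · rintro _ ⟨_, ⟨t, ht, rfl⟩, rfl⟩
    have h1 : g' * (t : C) * g'⁻¹ ∈ O1 := hO1n.conj_mem _ t.2 g'
    refine hmemO ⟨_, h1⟩ ((hTn _).2 (Subtype.ext ?_))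
    show (g' * (t : C) * g'⁻¹) ^ n = 1
    rw [conj_pow, show (t : C) ^ n = 1 from congrArg Subtype.val ((hTn t).1 ht), mul_one, mul_inv_cancel]
  · have hmem : π g' ∈ centralizer ({Q.zq} : Set (Qt e)) ⊔ O0 := h ▸ mem_top _
    rw [← SetLike.mem_coe, Subgroup.mul_normal] at hmem
    obtain ⟨q, hq, o, ho, hqo⟩ := hmem
    obtain ⟨k, hk⟩ := Q.κ_surj ⟨q, hq⟩
    have hkC : (k : G) ∈ C := Q.KC k k.2
    have hq' : π ⟨k, hkC⟩ = q := (Q.κ_val k).symm.trans (congrArg Subtype.val hk)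
    have hqo' : q * o = π g' := hqo
    have h1 : (⟨k, hkC⟩ : C)⁻¹ * g' ∈ O1 := by
      show π _ ∈ O0
      rw [map_mul, map_inv, hq', ← hqo', inv_mul_cancel_left]
      exact ho
    obtain ⟨a, ha, t, ht, e1⟩ := hdec ⟨_, h1⟩
    have hgv : g = (k : G) * ((a : C) : G) * ((t : C) : G) := by
      have e2 : (k : G)⁻¹ * g = ((a : C) : G) * ((t : C) : G) :=
        congrArg (fun x : O1 => ((x : C) : G)) e1
      rw [mul_assoc, ← e2, mul_inv_cancel_left]
    have hez : Commute e z := (mem_centralizer_singleton_iff.1 Q.zC).symm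
    refine ⟨(k : G) * ((a : C) : G), ((t : C) : G), ?_, ?_, hmemO t ht, hgv⟩
    · rcases hNe a ha with r | r <;> rw [r]
      · rw [mul_one]; exact (Cz.mem_Kc.1 k.2).1
      · exact (Cz.mem_Kc.1 k.2).1.mul_left hez
    · exact (show Commute (k : G) e from mem_centralizer_singleton_iff.1 hkC).mul_left
        (mem_centralizer_singleton_iff.1 (a : C).2)

/-- The pair outcome. -/
theorem beta_of_pair {K : Type*} [Field K] [Fintype K] {a0 : G} (ha : a0 ∈ D.W) (ha1 : a0 ≠ 1) {e : G}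
    (he : e = a0 ∨ e = a0 * z) (Q : QFacts (z := z) e a0)
    (hcore : Cfsg.pCore 2 ↥(centralizer ({Q.zq} : Set (Qt e))) = ((D.J).subgroupOf (Cz.Kc z a0)).map Q.κ)
    (z₁ : Qt e) (hord : orderOf z₁ = 2) (hnz : z₁ ∉ zpowers Q.zq)
    (hcen : ∃ h₁ : z₁ ∈ centralizer ({Q.zq} : Set (Qt e)),
      (⟨z₁, h₁⟩ : ↥(centralizer ({Q.zq} : Set (Qt e)))) ∈ Cfsg.pCore 2 ↥(centralizer ({Q.zq} : Set (Qt e))) ∧
        ∀ j ∈ Cfsg.pCore 2 ↥(centralizer ({Q.zq} : Set (Qt e))), j * ⟨z₁, h₁⟩ = ⟨z₁, h₁⟩ * j)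
    (hnorm : (zpowers z₁).Normal) (G₀ : Subgroup (Qt e)) (hz₁ : z₁ ∈ G₀) (hG₀ : G₀.index = 2)
    (hn : ((zpowers z₁).subgroupOf G₀).Normal)
    (ψ : (↥G₀ ⧸ (zpowers z₁).subgroupOf G₀) ≃* Cfsg.PSU 6 K 2) : IsBeta K D.W z e := by
  classical
  obtain ⟨-, heI, he1, hez, he2⟩ := exists_qfacts (D := D) ha ha1 he
  obtain ⟨h₁, hcore1, hcomm⟩ := hcen
  rw [hcore] at hcore1
  obtain ⟨k, hk, hky⟩ := hcore1
  have hkJ : (k : G) ∈ D.J := hk
  set C := centralizer ({e} : Set G)
  let π : ↥C →* Qt e := QuotientGroup.mk' _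
  set y : G := (k : G)
  have hyC : y ∈ C := Q.KC k k.2
  have hπy : π ⟨y, hyC⟩ = z₁ := (Q.κ_val k).symm.trans (congrArg Subtype.val hky)
  have hpow : ∀ x : G, x ∈ zpowers e → x = 1 ∨ x = e := fun x hx => by
    obtain ⟨i, rfl⟩ := mem_zpowers_iff.1 hx
    rcases Int.even_or_odd' i with ⟨m, rfl | rfl⟩
    · left; rw [zpow_mul, zpow_two, he2, one_zpow]
    · right; rw [zpow_add, zpow_mul, zpow_two, he2, one_zpow, one_mul, zpow_one]
  have hπeq : ∀ x x' : C, π x = π x' ↔ (x : G) = x' ∨ (x : G) = x' * e := fun x x' => by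
    rw [← inv_mul_eq_one, ← map_inv, ← map_mul]
    refine (QuotientGroup.eq_one_iff _).trans ?_
    rw [Subgroup.mem_subgroupOf]
    constructor
    · intro hm
      rcases hpow _ hm with r | r <;> push_cast at r
      · exact Or.inl (inv_mul_eq_one.1 r)
      · refine Or.inr ?_
        have hxe : Commute (x : G) e := mem_centralizer_singleton_iff.1 x.2
        have r2 : (x' : G) = (x : G) * e := inv_mul_eq_iff_eq_mul.1 r
        rw [r2, mul_assoc, he2, mul_one]
    · rintro (r | r) <;> push_cast <;> rw [r]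
      · rw [inv_mul_cancel]; exact one_mem _
      · rw [show ((x' : G) * e)⁻¹ * x' = e⁻¹ by group]; exact inv_mem (mem_zpowers e)
  have hyZ : InZ D.W z y := by
    refine D.cent_J (D.J_comm y hkJ) fun j hj => ?_
    have hjK : j ∈ Cz.Kc z a0 := D.J_le_Kc ha hj
    have hjm : Q.κ ⟨j, hjK⟩ ∈ Cfsg.pCore 2 ↥(centralizer ({Q.zq} : Set (Qt e))) :=
      hcore.symm ▸ mem_map_of_mem Q.κ (show (⟨j, hjK⟩ : Cz.Kc z a0) ∈ D.J.subgroupOf _ from hj)
    have h1 : Q.κ ⟨j, hjK⟩ * Q.κ k = Q.κ k * Q.κ ⟨j, hjK⟩ := by rw [hky]; exact hcomm _ hjm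
    have h2 : Q.κ (k * ⟨j, hjK⟩ * k⁻¹ * (⟨j, hjK⟩ : Cz.Kc z a0)⁻¹) = 1 := by
      rw [map_mul, map_mul, map_mul, map_inv, map_inv, ← h1]
      group
    rcases (Q.κ_one _).1 h2 with r | r <;> push_cast at r
    · exact mul_inv_eq_iff_eq_mul.1 (mul_inv_eq_one.1 r)
    · exfalso
      rcases D.comm_cases hkJ hj with q | q <;> rw [show (k : G) = y from rfl] at r <;> rw [q] at r
      exacts [he1 r.symm, hez r.symm]
  have hπe : π ⟨e, mem_centralizer_singleton_iff.2 rfl⟩ = 1 :=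
    (QuotientGroup.eq_one_iff _).2 (mem_subgroupOf.2 (mem_zpowers e))
  have hz1 : z₁ ≠ 1 := fun h => by rw [h, orderOf_one] at hord; omega
  have hzpow : ∀ q ∈ zpowers z₁, q = 1 ∨ q = z₁ := fun q hq => by
    obtain ⟨i, rfl⟩ := mem_zpowers_iff.1 hq
    have h2 : z₁ ^ (2 : ℤ) = 1 := by rw [zpow_two, ← pow_two, ← hord, pow_orderOf_eq_one]
    rcases Int.even_or_odd' i with ⟨m, rfl | rfl⟩
    · left; rw [zpow_mul, h2, one_zpow]
    · right; rw [zpow_add, zpow_mul, h2, one_zpow, one_mul, zpow_one]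
  have hy1 : y ≠ 1 := fun h => hz1 (by rw [← hπy, show (⟨y, hyC⟩ : C) = 1 from Subtype.ext h, map_one])
  have hye : y ≠ e := fun h => hz1 (by rw [← hπy, ← hπe]; exact congrArg π (Subtype.ext h))
  have hzq : π ⟨z, Q.zC⟩ = Q.zq := Q.zq_def.symm
  have hyz : y ≠ z := fun h => hnz (by
    rw [← hπy, show (⟨y, hyC⟩ : C) = ⟨z, Q.zC⟩ from Subtype.ext h, hzq]
    exact mem_zpowers _)
  have hyez : y ≠ e * z := fun h => hnz (by
    rw [← hπy, show π ⟨y, hyC⟩ = π ⟨z, Q.zC⟩ from (hπeq _ _).2 (Or.inr (h.trans (D.J_comm e (D.inZ_mem heI)).eq)),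
      hzq]
    exact mem_zpowers _)
  refine ⟨y, hyZ, hy1, hyz, hye, hyez, fun g hg => ?_, ?_⟩
  · let g' : C := ⟨g, mem_centralizer_singleton_iff.2 hg.eq⟩
    have h1 : π (g' * ⟨y, hyC⟩ * g'⁻¹) ∈ zpowers z₁ := by
      rw [map_mul, map_mul, map_inv, hπy]
      exact hnorm.conj_mem _ (mem_zpowers _) _
    rcases hzpow _ h1 with r | r
    · rw [map_mul, map_mul, map_inv, hπy, conj_eq_one_iff] at r
      exact absurd r hz1
    · rw [← hπy, hπeq] at r
      exact r
  let L : Subgroup G := (G₀.comap π).map C.subtype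
  refine ⟨L, Subgroup.map_subtype_le _, ?_, ?_, ?_, ?_⟩
  · show (((G₀.comap π).map C.subtype).subgroupOf C).index = 2
    rw [Subgroup.subgroupOf, Subgroup.comap_map_eq_self_of_injective C.subtype_injective,
      Subgroup.index_comap_of_surjective _ (QuotientGroup.mk'_surjective _), hG₀]
  · exact ⟨⟨e, mem_centralizer_singleton_iff.2 rfl⟩, show π _ ∈ G₀ from hπe ▸ one_mem _, rfl⟩
  · exact ⟨⟨y, hyC⟩, show π _ ∈ G₀ from hπy ▸ hz₁, rfl⟩
  let eL : ↥(G₀.comap π) ≃* ↥L := (G₀.comap π).equivMapOfInjective C.subtype C.subtype_injective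
  let ρ : ↥(G₀.comap π) →* ↥G₀ := (π.comp (G₀.comap π).subtype).codRestrict G₀ fun x => x.2
  have hρ : Function.Surjective ρ := fun q => by
    obtain ⟨g, hg⟩ := QuotientGroup.mk'_surjective _ q.1
    exact ⟨⟨g, show π g ∈ G₀ from (show π g = q.1 from hg) ▸ q.2⟩, Subtype.ext hg⟩
  haveI := hn
  let φ : ↥L →* Cfsg.PSU 6 K 2 :=
    ψ.toMonoidHom.comp ((QuotientGroup.mk' _).comp (ρ.comp eL.symm.toMonoidHom))
  refine ⟨φ, ψ.surjective.comp ((QuotientGroup.mk'_surjective _).comp (hρ.comp eL.symm.surjective)), fun x => ?_⟩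
  obtain ⟨w, rfl⟩ := eL.surjective x
  have hval : ((eL w : L) : G) = ((w : C) : G) := rfl
  show ψ (QuotientGroup.mk' _ (ρ (eL.symm (eL w)))) = 1 ↔ _
  rw [eL.symm_apply_apply, EmbeddingLike.map_eq_one_iff, hval]
  refine (QuotientGroup.eq_one_iff _).trans ?_
  rw [Subgroup.mem_subgroupOf]
  show π (w : C) ∈ zpowers z₁ ↔ _
  constructor
  · intro h
    rcases hzpow _ h with r | r
    · rw [← map_one π, hπeq] at r
      rcases r with r | r
      · exact Or.inl r
      · exact Or.inr (Or.inl (r.trans (one_mul e)))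
    · rw [← hπy, hπeq] at r
      rcases r with r | r
      · exact Or.inr (Or.inr (Or.inl r))
      · exact Or.inr (Or.inr (Or.inr r))
  · intro h
    have h' : π (w : C) = 1 ∨ π (w : C) = z₁ := by
      rcases h with r | r | r | r
      · exact Or.inl (by rw [← map_one π, hπeq]; exact Or.inl r)
      · exact Or.inl (by rw [← map_one π, hπeq]; exact Or.inr (r.trans (one_mul e).symm))
      · exact Or.inr (by rw [← hπy, hπeq]; exact Or.inl r)
      · exact Or.inr (by rw [← hπy, hπeq]; exact Or.inr r)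
    rcases h' with r | r <;> rw [r]
    exacts [one_mem _, mem_zpowers _]

end CfsgLib.Fi23Cent
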