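import Mathlib.GroupTheory.Sylow
import Mathlib.GroupTheory.Nilpotent
import Mathlib.GroupTheory.PGroup
import Mathlib.GroupTheory.Index

/-!
A subgroup containing a Sylow two-subgroup, in which enough involutions fix a single coset, is the whole group.
-/

set_option autoImplicit false
set_option linter.style.haveILetI false
set_option linter.unusedSectionVars false

namespace CfsgLib.Fi23Cent

open Subgroup

universe u

/-- Two involutions in a finite group are conjugate or commute with a common involution. -/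
theorem dihedral_cases {G : Type u} [Group G] [Finite G] {a m : G} (ha : a * a = 1) (hm : m * m = 1) :
    (∃ h, a = h * m * h⁻¹) ∨ ∃ v, v * v = 1 ∧ v ≠ 1 ∧ Commute v a ∧ Commute v m := by
  have hai : a⁻¹ = a := inv_eq_of_mul_eq_one_right ha
  have hmi : m⁻¹ = m := inv_eq_of_mul_eq_one_right hm
  have key : ∀ n : ℕ, a * (a * m) ^ n * a = ((a * m) ^ n)⁻¹ := fun n => by
    induction n with
    | zero => simp [ha]
    | succ n ih =>
      rw [pow_succ', _root_.mul_inv_rev (a * m), ← ih, _root_.mul_inv_rev, hai, hmi]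
      rw [← pow_succ', pow_succ]
      calc a * ((a * m) ^ n * (a * m)) * a = a * (a * m) ^ n * a * (m * a) := by
            simp only [mul_assoc]
        _ = _ := rfl
  rcases Nat.even_or_odd (orderOf (a * m)) with ⟨n, hn⟩ | ⟨n, hn⟩
  · right
    have hn0 : 0 < n := by have := orderOf_pos (a * m); omega
    have hv2 : (a * m) ^ n * (a * m) ^ n = 1 := by rw [← pow_add, ← hn, pow_orderOf_eq_one]
    have hv1 : (a * m) ^ n ≠ 1 := fun e => by
      have := Nat.le_of_dvd hn0 (orderOf_dvd_of_pow_eq_one e)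
      omega
    have hca : Commute ((a * m) ^ n) a := by
      have h := key n
      rw [inv_eq_of_mul_eq_one_right hv2] at h
      calc (a * m) ^ n * a = a * (a * m) ^ n * a * a := by rw [h]
        _ = a * (a * m) ^ n := by rw [mul_assoc (a * (a * m) ^ n), ha, mul_one]
    refine ⟨_, hv2, hv1, hca, ?_⟩
    have h := hca.mul_right (Commute.pow_self (a * m) n)
    rwa [← mul_assoc, ha, one_mul] at h
  · left
    refine ⟨((a * m) ^ n)⁻¹, ?_⟩
    rw [inv_inv]
    have h1 : (a * m) ^ n * (a * m) ^ n * (a * m) = 1 := by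
      rw [← pow_add, ← pow_succ, show n + n + 1 = 2 * n + 1 by omega, ← hn, pow_orderOf_eq_one]
    have h2 : (a * m) ^ n * (a * m) ^ n * a = m := by
      rw [← mul_inv_eq_one, hmi, mul_assoc ((a * m) ^ n * (a * m) ^ n)]
      exact h1
    have hqa : (a * m) ^ n * a = a * ((a * m) ^ n)⁻¹ := by
      rw [← key n, mul_assoc a ((a * m) ^ n) a, ← mul_assoc, ha, one_mul]
    rw [mul_assoc ((a * m) ^ n), hqa, ← mul_assoc] at h2
    generalize hq : (a * m) ^ n = q at h2
    rw [← h2]
    simp only [mul_assoc, inv_mul_cancel, mul_one, inv_mul_cancel_left]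

theorem sq_mem_coset {G : Type u} [Group G] {N : Subgroup G} {z u : G} (h2 : z * z = 1)
    (h1 : z * (z * u) * z⁻¹ ∈ N) (h : z * u ∈ N) : u * u ∈ N := by
  rw [inv_eq_of_mul_eq_one_right h2, ← mul_assoc, h2, one_mul] at h1
  have h8 := mul_mem h1 h
  rwa [mul_assoc, ← mul_assoc z, h2, one_mul] at h8

/-- A subgroup holding a Sylow two-subgroup in which the involutions of two cosets of a normal subgroup fix a
single coset is the whole group. -/
theorem fix_top_aux : ∀ (k : ℕ) (G : Type u) [Group G] [Finite G], Nat.card G = k →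
    ∀ (M N S : Subgroup G) (a z : G), N ≤ M → IsPGroup 2 S → Odd S.index → S ≤ M →
      a ∈ S → z ∈ S → (∀ s ∈ S, Commute a s) → (∀ s ∈ S, Commute z s) → a * a = 1 → a ≠ 1 → z * z = 1 →
      (∀ m ∈ M, ∀ n ∈ N, m * n * m⁻¹ ∈ N) → a ∈ N → z ∉ N →
      (∀ u : G, u * u = 1 → u ≠ 1 → u ∈ N ∨ z * u ∈ N → ∀ g : G, g * u * g⁻¹ ∈ M → g ∈ M) → M = ⊤ := by
  intro k
  induction k using Nat.strong_induction_on with
  | _ k IH =>
  intro G _ _ hk M N S a z hNM hS hSi hSM haS hzS hac hzc ha2 ha1 hz2 hN haN hzN hu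
  classical
  haveI : Fact (Nat.Prime 2) := ⟨Nat.prime_two⟩
  have hM : ∀ v : G, v * v = 1 → v ≠ 1 → v ∈ M → ∀ g : G, Commute g v → g ∈ M := by
    intro v hv2 hv1 hvM g hg
    set C := centralizer ({v} : Set G) with hC
    have hvC : v ∈ C := mem_centralizer_singleton_iff.2 rfl
    set MC := M.subgroupOf C with hMC
    obtain ⟨P⟩ : Nonempty (Sylow 2 MC) := inferInstance
    set PG : Subgroup G := (P : Subgroup MC).map (C.subtype.comp MC.subtype) with hPG
    have hPGp : IsPGroup 2 PG := P.isPGroup'.map _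
    have hPGM : PG ≤ M := by
      rintro _ ⟨⟨⟨x, hxC⟩, hxM⟩, -, rfl⟩
      exact hxM
    have hPGC : PG ≤ C := by
      rintro _ ⟨⟨⟨x, hxC⟩, hxM⟩, -, rfl⟩
      exact hxC
    have hmax : ∀ x : G, x ∈ M → x ∈ C → ∀ Q : Subgroup G, IsPGroup 2 Q → Q ≤ M → Q ≤ C → PG ≤ Q → x ∈ Q →
        x ∈ PG := by
      intro x hxM hxC Q hQ hQM hQC hPQ hxQ
      let Q' : Subgroup MC := Q.comap (C.subtype.comp MC.subtype)
      have hQ' : IsPGroup 2 Q' := hQ.comap_of_injective _ (C.subtype_injective.comp MC.subtype_injective)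
      have hle : (P : Subgroup MC) ≤ Q' := fun y hy => hPQ ⟨y, hy, rfl⟩
      exact ⟨⟨⟨x, hxC⟩, hxM⟩, (P.is_maximal' hQ' hle) ▸ (show (⟨⟨x, hxC⟩, hxM⟩ : MC) ∈ Q' from hxQ), rfl⟩
    obtain ⟨m, hmM, hPm⟩ : ∃ m ∈ M, PG ≤ S.map (MulAut.conj m).toMonoidHom := by
      have hSM' : IsPGroup 2 (S.subgroupOf M) := hS.comap_of_injective _ M.subtype_injective
      have hidx : ¬ 2 ∣ (S.subgroupOf M).index := fun h =>
        hSi.not_two_dvd_nat (h.trans (Subgroup.relIndex_dvd_index_of_le hSM))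
      obtain ⟨Q, hQ⟩ := (hPGp.comap_of_injective _ M.subtype_injective :
        IsPGroup 2 (PG.subgroupOf M)).exists_le_sylow
      obtain ⟨m, hm⟩ := MulAction.exists_smul_eq M (hSM'.toSylow hidx) Q
      refine ⟨m, m.2, fun x hx => ?_⟩
      have hxQ : (⟨x, hPGM hx⟩ : M) ∈ (Q : Subgroup M) := hQ hx
      rw [← hm, Sylow.coe_subgroup_smul] at hxQ
      obtain ⟨y, hy, e⟩ := hxQ
      exact ⟨y, hy, congrArg Subtype.val e⟩
    have hvP : v ∈ PG := by
      refine hmax v hvM hvC (PG ⊔ zpowers v) ?_ (sup_le hPGM (zpowers_le.2 hvM)) (sup_le hPGC (zpowers_le.2 hvC))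
        le_sup_left (mem_sup_right (mem_zpowers v))
      refine hPGp.to_sup_of_normal_right' (IsPGroup.of_card (n := 1) ?_) ?_
      · rw [Nat.card_zpowers, pow_one]
        exact orderOf_eq_prime (by rw [pow_two]; exact hv2) hv1
      · intro x hx
        refine mem_normalizer_iff.2 fun y => ⟨fun hy => ?_, fun hy => ?_⟩
        · obtain ⟨i, rfl⟩ := mem_zpowers_iff.1 hy
          rw [((Commute.zpow_right (mem_centralizer_singleton_iff.1 (hPGC hx)) i)).eq, mul_inv_cancel_right]
          exact zpow_mem (mem_zpowers v) i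
        · obtain ⟨i, hi⟩ := mem_zpowers_iff.1 hy
          rw [show y = x⁻¹ * (x * y * x⁻¹) * x by group, ← hi,
            ((Commute.zpow_right (mem_centralizer_singleton_iff.1 (hPGC hx)) i).inv_left).eq, inv_mul_cancel_right]
          exact zpow_mem (mem_zpowers v) i
    set a' := m * a * m⁻¹ with ha'
    set z' := m * z * m⁻¹ with hz'
    have hcen : ∀ b : G, b ∈ S → (∀ s ∈ S, Commute b s) → m * b * m⁻¹ ∈ PG ∧ ∀ x ∈ PG, Commute (m * b * m⁻¹) x := by
      intro b hb hbc
      have hcomm : ∀ x ∈ PG, Commute (m * b * m⁻¹) x := by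
        intro x hx
        obtain ⟨s, hs, rfl⟩ := hPm hx
        exact (hbc s hs).map (MulAut.conj m).toMonoidHom
      have hbC : m * b * m⁻¹ ∈ C := mem_centralizer_singleton_iff.2 (hcomm v hvP).eq
      have hbM : m * b * m⁻¹ ∈ M := mul_mem (mul_mem hmM (hSM hb)) (inv_mem hmM)
      refine ⟨hmax _ hbM hbC (PG ⊔ zpowers (m * b * m⁻¹)) ?_ (sup_le hPGM (zpowers_le.2 hbM))
        (sup_le hPGC (zpowers_le.2 hbC)) le_sup_left (mem_sup_right (mem_zpowers _)), hcomm⟩
      refine hPGp.to_sup_of_normal_right' (((hS.map (MulAut.conj m).toMonoidHom)).to_le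
        (zpowers_le.2 ⟨b, hb, rfl⟩)) ?_
      intro x hx
      refine mem_normalizer_iff.2 fun y => ⟨fun hy => ?_, fun hy => ?_⟩
      · obtain ⟨i, rfl⟩ := mem_zpowers_iff.1 hy
        rw [((hcomm x hx).symm.zpow_right i).eq, mul_inv_cancel_right]
        exact zpow_mem (mem_zpowers _) i
      · obtain ⟨i, hi⟩ := mem_zpowers_iff.1 hy
        rw [show y = x⁻¹ * (x * y * x⁻¹) * x by group, ← hi, ((hcomm x hx).symm.zpow_right i).inv_left.eq,
          inv_mul_cancel_right]
        exact zpow_mem (mem_zpowers _) i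
    obtain ⟨haP, hacP⟩ := hcen a haS hac
    obtain ⟨hzP, hzcP⟩ := hcen z hzS hzc
    have ha'N : a' ∈ N := hN m hmM a haN
    have conjz : ∀ n, n ∈ N → m⁻¹ * n * m ∈ N := fun n hn => by
      simpa using hN m⁻¹ (inv_mem hmM) n hn
    have conju : ∀ u : G, u * u = 1 → u ≠ 1 → u ∈ N ∨ z' * u ∈ N → ∀ h : G, h * u * h⁻¹ ∈ M → h ∈ M := by
      intro u h2 h1 hor h hh
      have h3 : m⁻¹ * u * m * (m⁻¹ * u * m) = 1 := by
        calc _ = m⁻¹ * (u * u) * m := by group
          _ = 1 := by rw [h2]; group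
      have h4 : m⁻¹ * u * m ≠ 1 := fun e => h1 (by rw [show u = m * (m⁻¹ * u * m) * m⁻¹ by group, e]; group)
      have h5 : m⁻¹ * u * m ∈ N ∨ z * (m⁻¹ * u * m) ∈ N := hor.imp (conjz u) fun h => by
        have := conjz _ h
        rwa [hz', show m⁻¹ * (m * z * m⁻¹ * u) * m = z * (m⁻¹ * u * m) by group] at this
      have h6 := hu _ h3 h4 h5 (h * m)
        (by rwa [show h * m * (m⁻¹ * u * m) * (h * m)⁻¹ = h * u * h⁻¹ by group])
      simpa using mul_mem h6 (inv_mem hmM)
    by_cases hv : v ∈ N ∨ z' * v ∈ N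
    · exact conju v hv2 hv1 hv g (by rwa [hg.eq, mul_inv_cancel_right])
    push Not at hv
    set PC : Subgroup C := PG.subgroupOf C with hPC
    have hPCp : IsPGroup 2 PC := hPGp.comap_of_injective _ C.subtype_injective
    have hPCi : Odd PC.index := by
      obtain ⟨Q, hQ⟩ := hPCp.exists_le_sylow
      suffices h : (Q : Subgroup C) = PC by
        rw [← h, Nat.odd_iff, ← Nat.two_dvd_ne_zero]
        exact Q.not_dvd_index
      by_contra hne
      haveI : Group.IsNilpotent (Q : Subgroup C) := Q.isPGroup'.isNilpotent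
      have hlt : PC.subgroupOf Q < ⊤ :=
        lt_top_iff_ne_top.2 fun e => hne (le_antisymm (Subgroup.subgroupOf_eq_top.1 e) hQ)
      obtain ⟨w, hwn, hwP⟩ := SetLike.exists_of_lt
        (Group.normalizerCondition_of_isNilpotent _ hlt)
      have hwC : ((w : C) : G) ∈ C := (w : C).2
      have hwM : ((w : C) : G) ∈ M := by
        refine conju a' ?_ ?_ (Or.inl ha'N) _ (hPGM ?_)
        · calc m * a * m⁻¹ * (m * a * m⁻¹) = m * (a * a) * m⁻¹ := by group
            _ = 1 := by rw [ha2]; group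
        · exact fun e => ha1 (conj_eq_one_iff.1 e)
        · exact (mem_normalizer_iff.1 hwn ⟨⟨a', hPGC haP⟩, hQ haP⟩).1 haP
      let Q2 : Subgroup G := (Q : Subgroup C).map C.subtype ⊓ M
      refine hwP (hmax _ hwM hwC Q2 ((Q.isPGroup'.map _).to_le inf_le_left) inf_le_right ?_ ?_
        ⟨⟨(w : C), w.2, rfl⟩, hwM⟩)
      · rintro x ⟨⟨y, -, rfl⟩, -⟩; exact y.2
      · exact fun x hx => ⟨⟨⟨x, hPGC hx⟩, hQ hx, rfl⟩, hPGM hx⟩
    set vC : C := ⟨v, hvC⟩
    haveI hvn : (zpowers vC).Normal := ⟨fun x hx y => by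
      obtain ⟨i, rfl⟩ := mem_zpowers_iff.1 hx
      have hy : Commute y vC := Subtype.ext (mem_centralizer_singleton_iff.1 y.2)
      rw [(hy.zpow_right i).eq, mul_inv_cancel_right]
      exact zpow_mem (mem_zpowers _) i⟩
    set π := QuotientGroup.mk' (zpowers vC)
    have hker : ∀ x y : C, π x = π y → (y : G) = x ∨ (y : G) = x * v := by
      intro x y e
      obtain ⟨q, hq, rfl⟩ := (QuotientGroup.mk'_eq_mk' _).1 e
      obtain ⟨i, rfl⟩ := mem_zpowers_iff.1 hq
      have h2 : vC ^ (2 : ℤ) = 1 := by rw [zpow_two]; exact Subtype.ext hv2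
      rcases Int.even_or_odd' i with ⟨j, rfl | rfl⟩
      · left; simp [zpow_mul, h2]
      · right
        rw [zpow_add, zpow_mul, h2, one_zpow, one_mul, zpow_one]
        rfl
    have hcard : Nat.card (C ⧸ zpowers vC) < k := by
      have h1 := Subgroup.card_eq_card_quotient_mul_card_subgroup (zpowers vC)
      rw [Nat.card_zpowers, orderOf_eq_prime (p := 2) (by rw [pow_two]; exact Subtype.ext hv2)
        (fun e => hv1 (congrArg Subtype.val e))] at h1
      have h2 : Nat.card C ≤ Nat.card G := Nat.card_le_card_of_injective _ C.subtype_injective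
      have h3 : 0 < Nat.card C := Nat.card_pos
      omega
    have hz'2 : z' * z' = 1 := by
      calc m * z * m⁻¹ * (m * z * m⁻¹) = m * (z * z) * m⁻¹ := by group
        _ = 1 := by rw [hz2]; group
    have ha'C := hPGC haP
    have hz'C := hPGC hzP
    have hmemM : ∀ x : C, π x ∈ MC.map π → (x : G) ∈ M := by
      rintro x ⟨y, hy, e⟩
      rcases hker y x e with h | h <;> rw [h]
      exacts [hy, mul_mem hy hvM]
    have hmemN : ∀ x : C, π x ∈ (N.subgroupOf C).map π → (x : G) ∈ N ∨ (x : G) * v ∈ N := by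
      rintro x ⟨y, hy, e⟩
      rcases hker y x e with h | h <;> rw [h]
      · exact Or.inl hy
      · right
        rw [mul_assoc, hv2, mul_one]
        exact hy
    have htop := IH _ hcard (C ⧸ zpowers vC) rfl (MC.map π) ((N.subgroupOf C).map π) (PC.map π)
      (π ⟨a', ha'C⟩) (π ⟨z', hz'C⟩)
      (map_mono (Subgroup.comap_mono hNM)) (hPCp.map π) ?_ (map_mono (Subgroup.comap_mono hPGM))
      ⟨_, haP, rfl⟩ ⟨_, hzP, rfl⟩
      (by rintro _ ⟨x, hx, rfl⟩; exact (show Commute (⟨a', ha'C⟩ : C) x from Subtype.ext (hacP x hx).eq).map π)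
      (by rintro _ ⟨x, hx, rfl⟩; exact (show Commute (⟨z', hz'C⟩ : C) x from Subtype.ext (hzcP x hx).eq).map π)
      ?_ ?_ ?_ ?_ ⟨_, ha'N, rfl⟩ ?_ ?_
    · refine hmemM ⟨g, mem_centralizer_singleton_iff.2 hg.eq⟩ ?_
      rw [htop]
      exact mem_top _
    · rw [Subgroup.index_map, sup_eq_left.2, MonoidHom.range_eq_top.2 (QuotientGroup.mk'_surjective _),
        index_top, mul_one]
      · exact hPCi
      · rw [QuotientGroup.ker_mk']
        exact zpowers_le.2 hvP
    · rw [← map_mul, ← map_one π]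
      exact congrArg π (Subtype.ext (by
        show m * a * m⁻¹ * (m * a * m⁻¹) = 1
        calc _ = m * (a * a) * m⁻¹ := by group
          _ = 1 := by rw [ha2]; group))
    · intro e
      rcases hker 1 ⟨a', ha'C⟩ ((map_one π).trans e.symm) with h | h
      · exact ha1 (conj_eq_one_iff.1 h)
      · exact hv.1 (by rw [← one_mul v]; exact (show a' = 1 * v from h) ▸ ha'N)
    · rw [← map_mul, ← map_one π]
      exact congrArg π (Subtype.ext hz'2)
    · rintro _ ⟨x, hx, rfl⟩ _ ⟨y, hy, rfl⟩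
      exact ⟨x * y * x⁻¹, hN x hx y hy, by rw [map_mul, map_mul, map_inv]⟩
    · intro h
      rcases hmemN _ h with h | h
      · exact hzN (by simpa [hz', mul_assoc] using conjz _ h)
      · exact hv.2 h
    · intro ub hub2 hub1 hor gb hgb
      obtain ⟨gc, rfl⟩ := QuotientGroup.mk'_surjective (zpowers vC) gb
      obtain ⟨uc, rfl, huc⟩ : ∃ uc : C, π uc = ub ∧ ((uc : G) ∈ N ∨ z' * uc ∈ N) := by
        rcases hor with ⟨y, hy, rfl⟩ | ⟨y, hy, e⟩
        · exact ⟨y, rfl, Or.inl hy⟩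
        · refine ⟨⟨z', hz'C⟩ * y, ?_, Or.inr ?_⟩
          · rw [map_mul, e, ← mul_assoc, ← map_mul,
              show (⟨z', hz'C⟩ : C) * ⟨z', hz'C⟩ = 1 from Subtype.ext hz'2, map_one, one_mul]
          · show z' * (z' * (y : G)) ∈ N
            rw [← mul_assoc, hz'2, one_mul]
            exact hy
      have hu2 : (uc : G) * uc = 1 := by
        rcases hker 1 (uc * uc) (by rw [map_one, map_mul]; exact hub2.symm) with h | h
        · exact h
        · refine absurd ?_ hv.1
          rw [← one_mul v, show (1 : G) * v = (uc : G) * uc from h.symm]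
          rcases huc with h' | h'
          · exact mul_mem h' h'
          · exact sq_mem_coset hz'2 (hN z' (hPGM hzP) _ h') h'
      have hu1 : (uc : G) ≠ 1 := fun e => hub1 (by rw [show uc = 1 from Subtype.ext e, map_one])
      refine ⟨gc, conju uc hu2 hu1 huc gc ?_, rfl⟩
      have := hmemM (gc * uc * gc⁻¹) (by rw [map_mul, map_mul, map_inv]; exact hgb)
      exact this
  refine eq_top_iff.2 fun g _ => ?_
  by_contra hg
  have hm' : g * z * g⁻¹ ∉ M := fun h =>
    hg (hu z hz2 (fun e => hzN (e ▸ one_mem N)) (Or.inr (by rw [hz2]; exact one_mem N)) g h)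
  have haM : a ∈ M := hNM haN
  rcases dihedral_cases ha2 (show g * z * g⁻¹ * (g * z * g⁻¹) = 1 by
    calc _ = g * (z * z) * g⁻¹ := by group
      _ = 1 := by rw [hz2]; group) with ⟨h, e⟩ | ⟨v, hv2, hv1, hva, hvm⟩
  · have e' : a = h * g * z * (h * g)⁻¹ := by rw [e]; group
    have hhg := hu z hz2 (fun e => hzN (e ▸ one_mem N)) (Or.inr (by rw [hz2]; exact one_mem N)) (h * g)
      (e' ▸ haM)
    refine hzN ?_
    have h9 := hN (h * g)⁻¹ (inv_mem hhg) a haN
    rwa [show (h * g)⁻¹ * a * (h * g)⁻¹⁻¹ = z by rw [e']; group] at h9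
  · have hvM := hM a ha2 ha1 haM v hva
    exact hm' (hM v hv2 hv1 hvM _ hvm.symm)

/-- The same for a single group. -/
theorem fix_top {G : Type u} [Group G] [Finite G] {M N S : Subgroup G} {a z : G} (hNM : N ≤ M) (hS : IsPGroup 2 S)
    (hSi : Odd S.index) (hSM : S ≤ M) (haS : a ∈ S) (hzS : z ∈ S) (hac : ∀ s ∈ S, Commute a s)
    (hzc : ∀ s ∈ S, Commute z s) (ha2 : a * a = 1) (ha1 : a ≠ 1) (hz2 : z * z = 1)
    (hN : ∀ m ∈ M, ∀ n ∈ N, m * n * m⁻¹ ∈ N) (haN : a ∈ N) (hzN : z ∉ N)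
    (hu : ∀ u : G, u * u = 1 → u ≠ 1 → u ∈ N ∨ z * u ∈ N → ∀ g : G, g * u * g⁻¹ ∈ M → g ∈ M) : M = ⊤ :=
  fix_top_aux (Nat.card G) G rfl M N S a z hNM hS hSi hSM haS hzS hac hzc ha2 ha1 hz2 hN haN hzN hu

end CfsgLib.Fi23Cent
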