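import Cfsg.Agent.Fi23Cent.Count
import Cfsg.Agent.Fi23Cent.UniqueFix
import Cfsg.Agent.FiLarge.Model
import Cfsg.Agent.Coset.U62.Cover
import Cfsg.Agent.S0815
import Cfsg.Agent.S1714
import Cfsg.Agent.TC23.Fi22Facts
import Cfsg.Agent.Unitary.Simple

/-!
The outcomes, given the shapes of the centralisers of the involutions of the centre of the radical.
-/

set_option autoImplicit false
set_option maxRecDepth 100000
set_option maxHeartbeats 1000000
set_option linter.style.haveILetI false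
set_option linter.unusedSectionVars false
set_option linter.unusedVariables false

namespace CfsgLib.Fi23Cent

open CfsgLib CfsgLib.U62Cent Subgroup
open scoped commutatorElement

variable {G : Type*} [Group G]

section Shapes

variable (K : Type*) [Field K] [Fintype K]

/-- The centraliser is that of the central involution times an odd normal subgroup. -/
def IsAlpha (z e : G) : Prop :=
  ∃ O : Subgroup G, Odd (Nat.card O) ∧ (O ≤ centralizer ({e} : Set G)) ∧
    ∀ g, Commute g e → (∀ o ∈ O, g * o * g⁻¹ ∈ O) ∧ ∃ h o, Commute h z ∧ Commute h e ∧ o ∈ O ∧ g = h * o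

/-- A normal four-group with the unitary group on top in a subgroup of index two. -/
def IsBeta (W : Subgroup G) (z e : G) : Prop :=
  ∃ y : G, InZ W z y ∧ y ≠ 1 ∧ y ≠ z ∧ y ≠ e ∧ y ≠ e * z ∧
    (∀ g, Commute g e → g * y * g⁻¹ = y ∨ g * y * g⁻¹ = y * e) ∧
    ∃ L : Subgroup G, L ≤ centralizer ({e} : Set G) ∧ L.relIndex (centralizer ({e} : Set G)) = 2 ∧ e ∈ L ∧ y ∈ L ∧
      ∃ φ : L →* Cfsg.PSU 6 K 2, Function.Surjective φ ∧
        ∀ x : L, φ x = 1 ↔ ((x : G) = 1 ∨ (x : G) = e ∨ (x : G) = y ∨ (x : G) = y * e)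

end Shapes

theorem central_normal (e : G) : ((zpowers e).subgroupOf (centralizer ({e} : Set G))).Normal := ⟨fun x hx g => by
  obtain ⟨i, hi⟩ := mem_zpowers_iff.1 (Subgroup.mem_subgroupOf.1 hx)
  rw [Subgroup.mem_subgroupOf]
  have hg : Commute (g : G) (e ^ i) :=
    (show Commute (g : G) e from mem_centralizer_singleton_iff.1 g.2).zpow_right i
  push_cast
  rw [← hi, hg.eq, mul_inv_cancel_right]
  exact zpow_mem (mem_zpowers e) i⟩

/-- The centraliser modulo the involution is the Fischer group. -/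
def IsGamma (e : G) : Prop :=
  letI := central_normal e
  Cfsg.Spor.IsoFi22 (↥(centralizer ({e} : Set G)) ⧸ (zpowers e).subgroupOf (centralizer ({e} : Set G)))

theorem psu_facts {K : Type*} [Field K] [Fintype K] (hK : Fintype.card K = 4) :
    IsSimpleGroup (Cfsg.PSU 6 K 2) ∧ Nat.card (Cfsg.PSU 6 K 2) = 9196830720 ∧
      Nat.card (MulAut (Cfsg.PSU 6 K 2)) = 6 * Nat.card (Cfsg.PSU 6 K 2) ∧
      Subgroup.center (Cfsg.PSU 6 K 2) = ⊥ := by
  have hs : IsSimpleGroup (Cfsg.PSU 6 K 2) :=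
    CfsgLib.Unitary.isSimpleGroup_PSU (by rw [Nat.card_eq_fintype_card, hK]; rfl) (by norm_num) (by norm_num)
  have hc : Nat.card (Cfsg.PSU 6 K 2) = 9196830720 := by
    rw [Nat.card_congr (FiLarge.psuCongr (FiniteField.ringEquivOfCardEq (hK.trans
      CfsgLib.Coset.G24.F4.card_eq.symm))).toEquiv]
    exact Coset.U62.card_PSU
  refine ⟨hs, hc, ?_, ?_⟩
  · rw [Cfsg.Agent.S0815.result (F := K) 2 1 le_rfl (q := 2) rfl (by rw [hK]; rfl) 6 (by norm_num) (by omega)]
    norm_num
  · refine (inferInstance : (Subgroup.center (Cfsg.PSU 6 K 2)).Normal).eq_bot_or_eq_top.resolve_right fun h => ?_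
    letI : CommGroup (Cfsg.PSU 6 K 2) := { (inferInstance : Group (Cfsg.PSU 6 K 2)) with
      mul_comm := fun x y => (mem_center_iff.1 (h ▸ mem_top x : x ∈ Subgroup.center (Cfsg.PSU 6 K 2)) y).symm }
    have hp := IsSimpleGroup.prime_card (α := Cfsg.PSU 6 K 2)
    rw [hc] at hp
    revert hp
    norm_num

namespace Cz

variable {z : G} (D : Cz z) [Finite G]

theorem mem_commutator_z {e : G} (he : InZ D.W z e) :
    (⟨z, mem_centralizer_singleton_iff.2 (D.J_comm e (D.inZ_mem he)).eq.symm⟩ : centralizer ({e} : Set G)) ∈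
      commutator ↥(centralizer ({e} : Set G)) := by
  obtain ⟨i, hi, e'⟩ := D.pr_surj p0
  obtain ⟨j, hj, hj0⟩ : ∃ j ∈ D.J, ¬ Commute i j := by
    by_contra hno
    push Not at hno
    refine LS_p0.2.2 (e' ▸ R4.nondeg _ fun v => ?_)
    obtain ⟨j, hj, rfl⟩ := D.pr_surj v
    exact (D.comm_iff hi hj).1 (hno j hj)
  have hz := (D.comm_cases hi hj).resolve_left fun h => hj0 (mul_inv_eq_iff_eq_mul.1 (mul_inv_eq_one.1 h))
  have hiC : i ∈ centralizer ({e} : Set G) := mem_centralizer_singleton_iff.2 (D.inZ_comm he hi).eq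
  have hjC : j ∈ centralizer ({e} : Set G) := mem_centralizer_singleton_iff.2 (D.inZ_comm he hj).eq
  rw [show (⟨z, mem_centralizer_singleton_iff.2 (D.J_comm e (D.inZ_mem he)).eq.symm⟩ : centralizer ({e} : Set G)) =
    ⁅(⟨i, hiC⟩ : centralizer ({e} : Set G)), ⟨j, hjC⟩⁆ from Subtype.ext (by simp [commutatorElement_def, hz])]
  exact commutator_mem_commutator (mem_top _) (mem_top _)

/-- The Fischer group arises. -/
theorem fi23_of_gamma {a0 : G} (ha : a0 ∈ D.W) (ha1 : a0 ≠ 1) {e : G} (he : e = a0 ∨ e = a0 * z)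
    (hγ : IsGamma e) : Cfsg.Spor.IsoFi23 G := by
  classical
  haveI := central_normal e
  have heZ : InZ D.W z e := by
    rcases he with rfl | rfl
    · exact Or.inl ha
    · exact Or.inr (by rwa [mul_assoc, D.z_sq, mul_one])
  have he1 : e ≠ 1 := by
    rcases he with rfl | rfl
    · exact ha1
    · exact fun h => D.z_notW (by rw [eq_inv_of_mul_eq_one_left h, D.z_inv] at ha; exact ha)
  have he2 : e * e = 1 := D.inZ_sq heZ
  have hord : orderOf e = 2 := orderOf_eq_prime (by rw [pow_two]; exact he2) he1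
  obtain ⟨b, hb, hb1, hba⟩ := D.exists_other ha ha1
  have hab1 : a0 * b ≠ 1 := fun h => hba (by rw [eq_inv_of_mul_eq_one_right h, D.W_inv ha])
  obtain ⟨τ, hτ, hτa, hτb⟩ := D.full a0 ha ha1 b hb hb1 hba.symm a0 ha ha1 (a0 * b) (mul_mem ha hb) hab1
    fun h => hb1 (mul_eq_left.1 h.symm)
  have hτe : Commute τ e := by
    rcases he with rfl | rfl
    · exact mul_inv_eq_iff_eq_mul.1 hτa
    · have hτa0 : Commute τ a0 := mul_inv_eq_iff_eq_mul.1 hτa
      exact hτa0.mul_right hτ
  set C := centralizer ({e} : Set G)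
  have hτC : τ ∈ C := mem_centralizer_singleton_iff.2 hτe.eq
  have hbC : b ∈ C := mem_centralizer_singleton_iff.2 (D.inZ_comm heZ (D.W_le hb)).eq
  have haC : a0 ∈ C := mem_centralizer_singleton_iff.2 (D.inZ_comm heZ (D.W_le ha)).eq
  have heC : e ∈ C := mem_centralizer_singleton_iff.2 rfl
  have haK : (⟨a0, haC⟩ : C) ∈ commutator ↥C := by
    rw [show (⟨a0, haC⟩ : C) = ⁅(⟨τ, hτC⟩ : C), ⟨b, hbC⟩⁆ from Subtype.ext (by
      simp only [commutatorElement_def, Subgroup.coe_mul, Subgroup.coe_inv]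
      rw [hτb, D.W_inv hb, mul_assoc, D.W_sq b hb, mul_one])]
    exact commutator_mem_commutator (mem_top _) (mem_top _)
  have heK : (⟨e, heC⟩ : C) ∈ commutator ↥C := by
    rcases he with rfl | rfl
    · exact haK
    · exact mul_mem haK (D.mem_commutator_z heZ)
  set Z := (zpowers e).subgroupOf C
  have hZK : Z ≤ commutator ↥C := by
    intro x hx
    obtain ⟨i, hi⟩ := mem_zpowers_iff.1 (Subgroup.mem_subgroupOf.1 hx)
    rw [show x = (⟨e, heC⟩ : C) ^ i from Subtype.ext (by simp [hi])]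
    exact zpow_mem heK i
  obtain ⟨ε⟩ := id hγ
  haveI : IsSimpleGroup Cfsg.Spor.Fi22 := Coset.Fi22.isSimple
  haveI : Nontrivial (↥C ⧸ Z) := ε.toEquiv.nontrivial
  haveI hQs : IsSimpleGroup (↥C ⧸ Z) :=
    IsSimpleGroup.isSimpleGroup_of_surjective ε.symm.toMonoidHom ε.symm.surjective
  have hperfQ : commutator (↥C ⧸ Z) = ⊤ ∧ Subgroup.center (↥C ⧸ Z) = ⊥ := by
    have hp : ¬ ∀ x y : ↥C ⧸ Z, x * y = y * x := by
      intro hcomm
      obtain ⟨g, hg, hne⟩ := TC23.fi22_nwc
      letI : CommGroup Cfsg.Spor.Fi22 := { (inferInstance : Group Cfsg.Spor.Fi22) with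
        mul_comm := fun x y => ε.symm.injective (by rw [map_mul, map_mul]; exact hcomm _ _) }
      exact hne (by rw [mul_comm g TC23.t22, mul_inv_cancel_right])
    refine ⟨(inferInstance : (commutator (↥C ⧸ Z)).Normal).eq_bot_or_eq_top.resolve_left fun h => hp fun x y => ?_,
      (inferInstance : (Subgroup.center (↥C ⧸ Z)).Normal).eq_bot_or_eq_top.resolve_right fun h => hp fun x y => ?_⟩
    · have h2 : ⁅x, y⁆ ∈ commutator (↥C ⧸ Z) := commutator_mem_commutator (mem_top x) (mem_top y)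
      rwa [h, Subgroup.mem_bot, commutatorElement_eq_one_iff_mul_comm] at h2
    · exact (mem_center_iff.1 (h ▸ mem_top x : x ∈ Subgroup.center (↥C ⧸ Z)) y).symm
  have hperf : commutator ↥C = ⊤ := by
    refine eq_top_iff.2 fun x _ => ?_
    have h1 : QuotientGroup.mk' Z x ∈ (commutator ↥C).map (QuotientGroup.mk' Z) := by
      rw [_root_.commutator_def, Subgroup.map_commutator,
        Subgroup.map_top_of_surjective _ (QuotientGroup.mk'_surjective Z), ← _root_.commutator_def, hperfQ.1]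
      exact mem_top _
    obtain ⟨y, hy, hxy⟩ := h1
    obtain ⟨w, hw, rfl⟩ := (QuotientGroup.mk'_eq_mk' Z).1 hxy
    exact mul_mem hy (hZK hw)
  have hcen : Subgroup.center ↥C = Z := by
    refine le_antisymm (fun x hx => ?_) fun x hx => ?_
    · have h1 : QuotientGroup.mk' Z x ∈ Subgroup.center (↥C ⧸ Z) := mem_center_iff.2 fun q => by
        obtain ⟨y, rfl⟩ := QuotientGroup.mk'_surjective Z q
        rw [← map_mul, ← map_mul, mem_center_iff.1 hx y]
      rw [hperfQ.2, Subgroup.mem_bot] at h1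
      exact (QuotientGroup.eq_one_iff x).1 h1
    · obtain ⟨i, hi⟩ := mem_zpowers_iff.1 (Subgroup.mem_subgroupOf.1 hx)
      refine mem_center_iff.2 fun y => Subtype.ext ?_
      push_cast
      rw [← hi]
      exact ((show Commute (y : G) e from mem_centralizer_singleton_iff.1 y.2).zpow_right i).eq
  have hq : Cfsg.IsQuasisimple ↥C := by
    refine ⟨⟨hperf⟩, ?_⟩
    haveI : Nontrivial (↥C ⧸ Subgroup.center ↥C) :=
      (QuotientGroup.quotientMulEquivOfEq hcen).toEquiv.nontrivial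
    exact IsSimpleGroup.isSimpleGroup_of_surjective (QuotientGroup.quotientMulEquivOfEq hcen).symm.toMonoidHom
      (QuotientGroup.quotientMulEquivOfEq hcen).symm.surjective
  refine Cfsg.Agent.S1714.result e hord hq ⟨ε⟩ ?_
  obtain ⟨h, hh, hha⟩ := D.trans_W ha ha1 hb hb1
  refine ⟨h, ?_, ?_⟩
  · refine mem_centralizer_singleton_iff.2 (D.inZ_comm heZ (D.conj_mem hh (D.inZ_mem heZ))).eq
  · intro heq
    rcases he with rfl | rfl
    · exact hba (hha.symm.trans heq)
    · rw [← conj_mul_conj, hha, hh.eq, mul_inv_cancel_right] at heq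
      exact hba (mul_right_cancel heq)

/-- The pair of a centraliser with a normal four-group. -/
theorem beta_pair {K : Type*} [Field K] [Fintype K] {a0 : G} (ha : a0 ∈ D.W) (ha1 : a0 ≠ 1) {e : G}
    (he : e = a0 ∨ e = a0 * z) (hβ : IsBeta K D.W z e) : e = a0 := by
  obtain ⟨y, hy, hy1, hyz, hye, hyez, hconj, -⟩ := hβ
  rcases he with he | he
  · exact he
  exfalso
  obtain ⟨b, hb, hb1, hba⟩ := D.exists_other ha ha1
  have hab1 : a0 * b ≠ 1 := fun h => hba (by rw [eq_inv_of_mul_eq_one_right h, D.W_inv ha])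
  obtain ⟨τ, hτ, hτa, hτb⟩ := D.full a0 ha ha1 b hb hb1 hba.symm a0 ha ha1 (a0 * b) (mul_mem ha hb) hab1
    fun h => hb1 (mul_eq_left.1 h.symm)
  have hτz : τ * z * τ⁻¹ = z := by rw [hτ.eq, mul_inv_cancel_right]
  have hτa0 : Commute τ a0 := mul_inv_eq_iff_eq_mul.1 hτa
  have hτe : Commute τ e := he ▸ hτa0.mul_right hτ
  have key : ∀ w ∈ D.W, (y = w ∨ y = w * z) → w ≠ 1 → w ≠ a0 → False := by
    intro w hw hyw hw1 hwa
    have hτw : τ * w * τ⁻¹ = a0 * w := by
      rcases D.W_cases ha ha1 hb hb1 hba.symm hw with r | r | r | r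
      · exact absurd r hw1
      · exact absurd r hwa
      · rw [r]; exact hτb
      · rw [r, ← conj_mul_conj, hτa, hτb]
    have hne : ∀ v, τ * v * τ⁻¹ = a0 * v → τ * v * τ⁻¹ ≠ v ∧ τ * v * τ⁻¹ ≠ v * (a0 * z) ∨ ¬ Commute a0 v := by
      intro v hv
      by_cases hc : Commute a0 v
      · left
        refine ⟨fun h => ha1 (mul_eq_right.1 (hv.symm.trans h)), fun h => D.z_ne ?_⟩
        rw [hv, hc.eq] at h
        exact mul_eq_left.1 (mul_left_cancel h).symm
      · exact Or.inr hc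
    have hy' : τ * y * τ⁻¹ = a0 * y := by
      rcases hyw with rfl | rfl
      · exact hτw
      · rw [← conj_mul_conj, hτw, hτz, mul_assoc]
    have hc : Commute a0 y := D.inZ_comm hy (D.W_le ha)
    rcases hne y hy' with ⟨h1, h2⟩ | h
    · rcases hconj τ hτe with h' | h'
      · exact h1 h'
      · exact h2 (he ▸ h')
    · exact h hc
  rcases hy with h | h
  · refine key y h (Or.inl rfl) hy1 fun h' => hyez ?_
    rw [h', he, mul_assoc, D.z_sq, mul_one]
  · refine key (y * z) h (Or.inr (by rw [mul_assoc, D.z_sq, mul_one])) (fun h' => hyz ?_) fun h' => hye ?_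
    · rw [eq_inv_of_mul_eq_one_left h', D.z_inv]
    · rw [he, ← h', mul_assoc, D.z_sq, mul_one]

end Cz

end CfsgLib.Fi23Cent
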