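import Cfsg.Agent.Fi23Cent.BuildAct

/-!
The coordinates.
-/

set_option autoImplicit false
set_option maxRecDepth 100000
set_option maxHeartbeats 1000000
set_option linter.style.haveILetI false
set_option linter.unusedSectionVars false
set_option linter.unusedVariables false

open scoped Matrix

namespace CfsgLib.Fi23Cent

open CfsgLib CfsgLib.U62Cent Subgroup
open CfsgLib.FiLarge (F4 om omp)
open CfsgLib.Unitary (suMat suMat_mul suMat_one su_ext su_preserves)

/-- A permutation of the coordinates negating a character. -/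
def perm4 : Equiv.Perm (Fin 4) := Equiv.swap 0 2 * Equiv.swap 1 3

theorem swap_pair : ∀ l : LT, pair4 (chs 4) ⟨fun i => l.1 (perm4 i), lt_sum l _⟩ = 2 * pair4 (chs 4) l ∧
    (pair4 (chs 4) l = 0 ↔ ∑ i, chs 4 i * l.1 (perm4 i) = 0) := by decide +kernel

/-- An action commuting with the group and fixing only zero excludes the reducible shape. -/
theorem not_tri {V : Type*} [AddCommGroup V] [Module (ZMod 2) V] (R : Rep V) (hT : R.IsTri)
    (f : V ≃ₗ[ZMod 2] V) (hf : ∀ u, f * R.r u = R.r u * f) (fpf : ∀ v, f v = v → v = 0) : False := by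
  classical
  haveI := R.finite
  have hc : Nat.card (R.X 4) = 4 := hT.1 0
  obtain ⟨x, hx, hx0⟩ := Submodule.exists_mem_ne_zero_of_ne_bot (p := R.X 4) fun h => by
    rw [h] at hc
    simp at hc
  have hfl : ∀ l v, R.act l (f v) = f (R.act l v) := fun l v => (LinearEquiv.congr_fun (hf (dE l.1)) v).symm
  have hrot3 : ∀ y ∈ R.X 4, R.rot 4 (R.rot 4 (R.rot 4 y)) = y := fun y hy => by
    have h1 := R.orb_sum hy
    have h2 := congrArg (R.rot 4) h1
    rw [map_add, map_add, map_zero] at h2
    have h3 : y + (R.rot 4 y + R.rot 4 (R.rot 4 y)) = 0 := by rw [← add_assoc]; exact h1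
    exact (eq_of_sum_zero h2).symm.trans (eq_of_sum_zero h3).symm
  have hfX : ∀ y ∈ R.X 4, f y ∈ R.X 4 := fun y hy => ⟨fun l hl => by rw [hfl, R.act_X_zero hy hl], by
    have h := hy.2
    simp only [Rep.e0, LinearMap.sum_apply] at h ⊢
    rw [Finset.sum_congr rfl fun l _ => hfl l y, ← map_sum, h, map_zero]⟩
  have hcases : ∀ y ∈ R.X 4, y = 0 ∨ y = x ∨ y = R.rot 4 x ∨ y = R.rot 4 (R.rot 4 x) := by
    intro y hy
    by_contra hn
    push Not at hn
    have h := R.orb_sum hx
    have h1 : R.rot 4 x ≠ x := fun e => hx0 (R.rot_ne hx e)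
    have h2 : R.rot 4 x ≠ 0 := fun e => hx0 (by rwa [e, map_zero, add_zero, add_zero] at h)
    have h3 : R.rot 4 (R.rot 4 x) = x + R.rot 4 x := (eq_of_sum_zero h).symm
    have h4 : R.rot 4 (R.rot 4 x) ≠ 0 := fun e => h1 (eq_of_sum_zero (h3.symm.trans e)).symm
    have h5 : R.rot 4 (R.rot 4 x) ≠ x := fun e => h2 (add_eq_left.1 (h3.symm.trans e))
    have h6 : R.rot 4 (R.rot 4 x) ≠ R.rot 4 x := fun e => hx0 (add_eq_right.1 (h3.symm.trans e))
    let g : Fin 5 → R.X 4 := ![0, ⟨x, hx⟩, ⟨R.rot 4 x, R.rot_mem hx⟩,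
      ⟨R.rot 4 (R.rot 4 x), R.rot_mem (R.rot_mem hx)⟩, ⟨y, hy⟩]
    have hg : Function.Injective g := by
      intro i j e
      have e' : ((g i : R.X 4) : V) = g j := congrArg Subtype.val e
      fin_cases i <;> fin_cases j <;> simp [g, hx0, h1, h2, h4, h5, h6, hx0.symm, h1.symm, h2.symm, h4.symm,
        h5.symm, h6.symm, hn.1, hn.2.1, hn.2.2.1, hn.2.2.2, hn.1.symm, hn.2.1.symm, hn.2.2.1.symm,
        hn.2.2.2.symm] at e' ⊢
    have := Nat.card_le_card_of_injective g hg
    rw [hc, Nat.card_fin] at this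
    omega
  set y := R.r (pE perm4) x
  have hyX : y ∈ R.X 4 := R.perm_X (fun l => (swap_pair l).2) hx
  have hy0 : y ≠ 0 := fun e => hx0 ((R.r (pE perm4)).map_eq_zero_iff.1 e)
  have hP : ∀ w ∈ R.X 4, R.r (pE perm4) (R.rot 4 w) = R.rot 4 (R.rot 4 (R.r (pE perm4) w)) := fun w hw => by
    rw [Rep.rot, R.perm_act]
    exact R.act_X_two (R.perm_X (fun l => (swap_pair l).2) hw) (by rw [(swap_pair _).1, Rep.gen_spec 4]; rfl)
  have hfr : ∀ w, f (R.rot 4 w) = R.rot 4 (f w) := fun w => (hfl _ w).symm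
  have hfP : ∀ w, f (R.r (pE perm4) w) = R.r (pE perm4) (f w) := fun w => LinearEquiv.congr_fun (hf (pE perm4)) w
  have key : R.rot 4 y = R.rot 4 (R.rot 4 y) → False := fun e => by
    have h1 := R.rot_ne (R.rot_mem hyX) e.symm
    exact hy0 (by have := hrot3 y hyX; rwa [h1, map_zero, map_zero, eq_comm] at this)
  rcases hcases _ (hfX x hx) with e | e | e | e
  · exact hx0 (f.map_eq_zero_iff.1 e)
  · exact hx0 (fpf x e)
  · have hfy : f y = R.rot 4 y := by
      rcases hcases y hyX with r | r | r | r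
      · exact absurd r hy0
      · rw [r, e]
      · rw [r, hfr, e]
      · rw [r, hfr, hfr, e]
    rw [show f y = R.r (pE perm4) (f x) from hfP x, e, hP x hx] at hfy
    exact key hfy.symm
  · have hfy : f y = R.rot 4 (R.rot 4 y) := by
      rcases hcases y hyX with r | r | r | r
      · exact absurd r hy0
      · rw [r, e]
      · rw [r, hfr, e]
      · rw [r, hfr, hfr, e]
    rw [show f y = R.r (pE perm4) (f x) from hfP x, e, hP _ (R.rot_mem hx), hP x hx] at hfy
    rw [hrot3 _ (R.rot_mem hyX)] at hfy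
    exact key hfy

theorem smul_pow_apply {T : V4 ≃ₗ[ZMod 2] V4} {c : F4} (h : ∀ v, T v = c • v) :
    ∀ (i : ℕ) (v : V4), (T ^ i) v = c ^ i • v := by
  intro i
  induction i with
  | zero => intro v; rw [pow_zero, pow_zero, one_smul]; rfl
  | succ n ih => intro v; rw [pow_succ, pow_succ, LinearEquiv.mul_apply, h, ih, smul_smul]

/-- A square root of a scalar of order three is that scalar. -/
theorem scalar_elt {μ : F4} {u : U4} (h : ∀ v : V4, suMat u *ᵥ v = μ • v) : μ = 1 := by
  have hu : u = 1 := by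
    have : u ∈ Subgroup.center U4 := mem_center_iff.2 fun w => R4.inj (LinearEquiv.ext fun v => by
      rw [map_mul, map_mul, LinearEquiv.mul_apply, LinearEquiv.mul_apply, R4_r, R4_r, R4_r, R4_r, h, h,
        Matrix.mulVec_smul])
    rwa [center_SU4, mem_bot] at this
  have h1 := congrFun (h ![1, 0, 0, 0]) 0
  rw [hu, suMat_one, Matrix.one_mulVec, Pi.smul_apply, smul_eq_mul] at h1
  simpa using h1.symm

theorem f4_cube : ∀ c : F4, c ≠ 0 → c ≠ 1 → c * c * c = 1 ∧ c * c ≠ c ∧
    (c = om ∨ c = 1 + om) := by decide +kernel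

/-- The coordinates of the centraliser. -/
theorem Pre.exists_cz {G : Type*} [Group G] [Finite G] {z : G} {F : Type*} [Field F] [Fintype F] (P : Pre z F)
    (hF : Fintype.card F = 3) : ∃ D' : Cz z, D'.J = P.J := by
  classical
  obtain ⟨V, _, _, ⟨D⟩⟩ := Geo.ExtraOut.exists_data P.E_extra
  obtain ⟨φ⟩ := nonempty_psp_iso hF
  haveI := psp_simple hF
  have hi := conj_psp_inj hF
  obtain ⟨hfin, hV⟩ := D.card_V (n := 4) (by rw [P.E_card])
  have hcz : ∀ x : centralizer ({z} : Set G), Commute (x : G) z := fun x => mem_centralizer_singleton_iff.1 x.2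
  choose s hsW hsθ using fun u : U4 => (P.th_range hF (MulAut.conj (φ u))).2 ⟨_, rfl⟩
  -- a lift is unique modulo the radical
  have huniq : ∀ h : centralizer ({z} : Set G), h ∈ P.H0 → ∀ u, P.θ h = MulAut.conj (φ u) →
      P.act D h = P.act D (s u) := by
    intro h hh u e
    have h1 : ((s u)⁻¹ * h : centralizer ({z} : Set G)).1 ∈ P.J :=
      P.th_H0 (mul_mem (inv_mem (hsW u)) hh) (by rw [map_mul, map_inv, hsθ, e, inv_mul_cancel])
    have h2 := P.act_mul D (hcz (s u)) (hcz ((s u)⁻¹ * h))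
    rw [P.act_of_J D h1, mul_one] at h2
    rw [← h2]
    congr 1
    simp
  let r : U4 →* (V ≃ₗ[ZMod 2] V) :=
    { toFun := fun u => P.act D (s u)
      map_one' := (huniq 1 (one_mem _) 1 (by simp)).symm.trans (P.act_one D)
      map_mul' := fun u v => by
        refine (huniq (s u * s v) (mul_mem (hsW u) (hsW v)) (u * v) ?_).symm.trans ?_
        · rw [map_mul, hsθ, hsθ, map_mul, map_mul]
        · exact P.act_mul D (hcz (s u)) (hcz (s v)) }
  have hr : ∀ u, r u = P.act D (s u) := fun _ => rfl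
  have hrinj : Function.Injective r := (injective_iff_map_eq_one _).2 fun u hu => by
    have h1 : P.θ (s u) = 1 := (P.θ_ker _).2 ⟨_, (P.act_eq_one D hF (hcz (s u))).1 hu, 0, by simp⟩
    rw [hsθ, ← map_one (MulAut.conj : Cfsg.PSp 2 F →* MulAut (Cfsg.PSp 2 F))] at h1
    exact φ.injective ((hi h1).trans (map_one φ).symm)
  let R : Rep V :=
    { r := r
      inj := hrinj
      card := by rw [hV]; norm_num
      q := D.form
      inv := fun g v => P.act_q D (hcz (s g)) v
      nondeg := fun v hv => D.nondeg.1 v hv }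
  have hinner : ∀ a, Commute a z → ((∀ w ∈ P.W, Commute a w) ↔ ∃ u, P.act D a = r u) := by
    intro a ha
    let A : centralizer ({z} : Set G) := ⟨a, mem_centralizer_singleton_iff.2 ha.eq⟩
    constructor
    · intro hW
      obtain ⟨p, hp⟩ := (P.th_range hF (P.θ A)).1 ⟨A, hW, rfl⟩
      refine ⟨φ.symm p, huniq A hW _ ?_⟩
      rw [MulEquiv.apply_symm_apply, hp]
    · rintro ⟨u, e⟩ w hw
      have h1 : (s u : G)⁻¹ * a ∈ P.J := (P.act_eq_one D hF ((hcz (s u)).inv_left.mul_left ha)).1 (by
        rw [P.act_mul D (hcz (s u)).inv_left ha, P.act_inv D (hcz (s u)), e, hr, inv_mul_cancel])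
      have h2 := (hsW u w hw).mul_left (P.Z_cen _ h1 w hw.1)
      rwa [mul_inv_cancel_left] at h2
  have hcr : ∀ u, P.act D P.c * r u = r u * P.act D P.c := by
    intro u
    obtain ⟨j, hj, e⟩ := P.inner_pass (hcz (s u)) (hsW u)
    have e1 := congrArg (P.act D) (show (s u : G) * P.c = j * P.c * (s u : G) by rw [← e]; group)
    rw [P.act_mul D (hcz (s u)) P.c_comm, P.act_mul D ((P.J_comm j hj).mul_left P.c_comm) (hcz (s u)),
      P.act_mul D (P.J_comm j hj) P.c_comm, P.act_of_J D hj, one_mul] at e1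
    exact e1.symm
  have hN : R.IsNat := R.shapes.resolve_right fun hT => not_tri R hT _ hcr fun v => P.act_fpf D
  obtain ⟨Φ, α, hq, hrΦ⟩ := Rep.natural (R := R) hN
  let cj : (V ≃ₗ[ZMod 2] V) → (V4 ≃ₗ[ZMod 2] V4) := fun T => (Φ.symm.trans T).trans Φ
  have cj_apply : ∀ T v, cj T (Φ v) = Φ (T v) := fun T v => by simp [cj]
  have cj_mul : ∀ S T, cj (S * T) = cj S * cj T := fun S T => LinearEquiv.ext fun v => by
    obtain ⟨w, rfl⟩ := Φ.surjective v
    rw [LinearEquiv.mul_apply, cj_apply, cj_apply, cj_apply]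
    rfl
  have cj_one : cj 1 = 1 := LinearEquiv.ext fun v => Φ.apply_symm_apply v
  have cj_inj : Function.Injective cj := fun S T e => LinearEquiv.ext fun v => Φ.injective (by
    rw [← cj_apply, ← cj_apply, e])
  have cj_r : ∀ u, cj (r u) = R4.r (α u) := fun u => LinearEquiv.ext fun v => by
    obtain ⟨w, rfl⟩ := Φ.surjective v
    rw [cj_apply, R4_r]
    exact hrΦ u w
  obtain ⟨lam, hl0, hlam⟩ := cent_natural (cj (P.act D P.c)) fun u v => by
    have e := congrArg cj (hcr (α.symm u))
    rw [cj_mul, cj_mul, cj_r, MulEquiv.apply_symm_apply] at e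
    exact LinearEquiv.congr_fun e v
  have hl1 : lam ≠ 1 := fun e => by
    have h : P.act D P.c (Φ.symm ![1, 0, 0, 0]) = Φ.symm ![1, 0, 0, 0] := Φ.injective (by
      rw [← cj_apply, LinearEquiv.apply_symm_apply, hlam, e, one_smul])
    have h1 := congrArg Φ (P.act_fpf D h)
    rw [LinearEquiv.apply_symm_apply, map_zero] at h1
    exact absurd (congrFun h1 0) (by decide +kernel)
  obtain ⟨hl3, hl2, hlom⟩ := f4_cube lam hl0 hl1
  have hinvol : ∀ a, Commute a z → cj (P.act D a) * cj (P.act D a) = 1 →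
      (∃ u, cj (P.act D a) = R4.r u) ∨ Semi (cj (P.act D a)) := by
    intro a ha hsq
    rcases P.pass ha with ⟨⟨j, hj, e⟩, hp⟩ | ⟨⟨j, hj, e⟩, hp⟩
    · left
      obtain ⟨a0, ha0, ha1⟩ := P.exists_ne
      obtain ⟨i, hi0⟩ : ∃ i : ℕ, a * a0 * a⁻¹ = P.c ^ i * a0 * (P.c ^ i)⁻¹ := by
        rcases P.W_orbit ha0 ha1 (P.W_norm ha ha0) (fun r => ha1 (conj_eq_one_iff.1 r)) with r | r | r
        · exact ⟨0, by rw [r]; group⟩
        · exact ⟨1, by rw [r, pow_one]⟩
        · exact ⟨2, by rw [r, ← P.cinv, inv_inv]⟩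
      have hcomm : ∀ x ∈ P.W, a * x * a⁻¹ = P.c ^ i * x * (P.c ^ i)⁻¹ := by
        intro x hx
        rcases eq_or_ne x 1 with rfl | hx1
        · group
        rcases P.W_orbit ha0 ha1 hx hx1 with rfl | rfl | rfl
        · exact hi0
        · rw [(hp a0 ha0.1).1, hi0]
          simp only [← zpow_natCast]
          group
        · rw [(hp a0 ha0.1).2, hi0]
          simp only [← zpow_natCast]
          group
      have hci : Commute (P.c ^ i) z := P.c_comm.pow_left i
      obtain ⟨u, hu⟩ := (hinner ((P.c ^ i)⁻¹ * a) (hci.inv_left.mul_left ha)).1 fun w hw =>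
        mul_inv_eq_iff_eq_mul.1 (by
          rw [show (P.c ^ i)⁻¹ * a * w * ((P.c ^ i)⁻¹ * a)⁻¹ = (P.c ^ i)⁻¹ * (a * w * a⁻¹) * P.c ^ i by group,
            hcomm w hw]
          group)
      have hav : ∀ v, cj (P.act D a) v = lam ^ i • (suMat (α u) *ᵥ v) := fun v => by
        have e1 : a = P.c ^ i * ((P.c ^ i)⁻¹ * a) := (mul_inv_cancel_left _ _).symm
        have e2 : ∀ n, cj (P.act D (P.c ^ n)) = cj (P.act D P.c) ^ n := by
          intro n
          induction n with
          | zero => rw [pow_zero, pow_zero, P.act_one D, cj_one]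
          | succ n ih => rw [pow_succ, pow_succ, P.act_mul D (P.c_comm.pow_left n) P.c_comm, cj_mul, ih]
        rw [e1, P.act_mul D hci (hci.inv_left.mul_left ha), hu, cj_mul, cj_r, LinearEquiv.mul_apply, e2,
          smul_pow_apply hlam, R4_r]
      have h3 : lam ^ i * lam ^ i * lam ^ i = 1 := by
        rw [← mul_pow, ← mul_pow, hl3, one_pow]
      have hμ := scalar_elt (μ := lam ^ i) (u := α u * α u) fun v => by
        have h := LinearEquiv.congr_fun hsq v
        rw [LinearEquiv.mul_apply, hav, hav, Matrix.mulVec_smul, smul_smul, Matrix.mulVec_mulVec, ← suMat_mul] at h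
        have h' := congrArg (fun w => lam ^ i • w) h
        simp only [smul_smul, ← mul_assoc, h3, one_smul] at h'
        exact h'
      exact ⟨α u, LinearEquiv.ext fun v => by rw [hav, hμ, one_smul]; rfl⟩
    · right
      intro v hv hov
      set f := cj (P.act D a)
      have hff : ∀ w, f (lam • w) = (lam * lam) • f w := by
        intro w
        have e1 := congrArg (fun g => cj (P.act D g)) (show a * P.c = j * P.c⁻¹ * a by rw [← e]; group)
        simp only [P.act_mul D ha P.c_comm, P.act_mul D ((P.J_comm j hj).mul_left P.c_comm.inv_left) ha,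
          P.act_mul D (P.J_comm j hj) P.c_comm.inv_left, P.act_of_J D hj, one_mul, cj_mul] at e1
        have e2 : ∀ w, cj (P.act D P.c⁻¹) w = (lam * lam) • w := fun w => by
          have h := cj_mul (P.act D P.c) (P.act D P.c⁻¹)
          rw [← P.act_mul D P.c_comm P.c_comm.inv_left, mul_inv_cancel, P.act_one D, cj_one] at h
          have h1 := LinearEquiv.congr_fun h w
          rw [LinearEquiv.mul_apply, hlam] at h1
          change w = lam • _ at h1
          conv_rhs => rw [h1, smul_smul, hl3, one_smul]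
        have h := LinearEquiv.congr_fun e1 w
        rw [LinearEquiv.mul_apply, LinearEquiv.mul_apply, hlam, e2] at h
        exact h
      have hfix : f (lam • v) = lam • v := by
        rcases hlom with r | r <;> rw [r]
        · exact hov
        · rw [add_smul, one_smul, map_add, hv, hov]
      rw [hff, hv, mul_smul] at hfix
      by_contra hv0
      have h4 : (lam * lam - lam) • v = 0 := by rw [sub_smul, mul_smul, hfix, sub_self]
      exact hv0 ((smul_eq_zero.1 h4).resolve_left (sub_ne_zero.2 hl2))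
  have hB : ∀ v w, QuadraticMap.polar D.form v w = R4.B (Φ v) (Φ w) := fun v w => by
    simp only [Rep.B, QuadraticMap.polar, R4_q, ← map_add, ← hq]
    rfl
  refine ⟨{
    z_sq := P.z_sq, z_ne := P.z_ne, J := P.J, J_comm := P.J_comm, z_mem := P.z_mem
    W := P.W
    W_le := fun w hw => P.Z_le hw.1
    W_card := P.W_card
    W_sq := fun w hw => P.Z_sq w hw.1
    z_notW := P.z_notW
    W_cen := fun j hj w hw => P.Z_cen j hj w hw.1
    W_norm := fun h hh w hw => P.W_norm hh hw
    full := fun a ha ha1 b hb hb1 hab a' ha' ha1' b' hb' hb1' hab' =>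
      P.full ha ha1 hb hb1 hab ha' ha1' hb' hb1' hab'
    act := fun a => cj (P.act D a)
    act_mul := fun a b ha hb => by rw [P.act_mul D ha hb, cj_mul]
    act_J := fun a ha => by rw [← P.act_eq_one D hF ha, ← cj_one]; exact cj_inj.eq_iff
    act_inner := fun a ha => by
      rw [hinner a ha]
      exact ⟨fun ⟨u, e⟩ => ⟨α u, by rw [e, cj_r]⟩, fun ⟨u, e⟩ =>
        ⟨α.symm u, cj_inj (by rw [e, cj_r, MulEquiv.apply_symm_apply])⟩⟩
    act_invol := hinvol
    act_surj := fun u => ⟨s (α.symm u), hcz _, by rw [← hr, cj_r, MulEquiv.apply_symm_apply]⟩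
    pr := fun x => Φ (P.pr D x)
    pr_mul := fun a ha b hb => by rw [P.pr_mul D ha hb, map_add]
    pr_zero := fun a ha => by
      rw [LinearEquiv.map_eq_zero_iff, P.pr_zero D ha]
      exact ⟨P.Z_WZ, P.WZ_Z⟩
    pr_surj := fun v => by
      obtain ⟨x, hx, e⟩ := P.pr_surj D (Φ.symm v)
      exact ⟨x, hx, by rw [e, LinearEquiv.apply_symm_apply]⟩
    sq := fun a ha => by
      rw [P.sq_eq D ha, R4_q, ← hq]
    comm := fun a ha b hb => by rw [P.comm_eq D ha hb, hB]
    pr_act := fun a ha b hb => by rw [cj_apply, P.act_pr D ha hb] }, rfl⟩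

end CfsgLib.Fi23Cent
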