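import Cfsg.Agent.Fi23Cent.Outer
import Cfsg.Agent.Recog.OddInvolution

/-!
The Sylow two-subgroup and the fusion of the centre of the radical.
-/

set_option autoImplicit false
set_option maxRecDepth 100000
set_option maxHeartbeats 1000000
set_option linter.style.haveILetI false
set_option linter.unusedSectionVars false
set_option linter.unusedVariables false

open scoped Matrix

namespace CfsgLib.Fi23Cent

open CfsgLib CfsgLib.U62Cent Subgroup
open CfsgLib.FiLarge (F4 om omp)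
open CfsgLib.Unitary (suMat suMat_mul suMat_one su_ext su_preserves)

variable {G : Type*} [Group G]

/-- A normal two-subgroup lies in every subgroup of odd index. -/
theorem normal_two_le [Finite G] (P K : Subgroup G) [P.Normal] (hP : IsPGroup 2 P) (hK : Odd K.index) : P ≤ K := by
  haveI : Fact (Nat.Prime 2) := ⟨Nat.prime_two⟩
  obtain ⟨S⟩ : Nonempty (Sylow 2 K) := inferInstance
  have hidx : ¬ 2 ∣ ((S : Subgroup K).map K.subtype).index := by
    rw [Subgroup.index_map_subtype]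
    intro h
    rcases (Nat.Prime.dvd_mul Nat.prime_two).1 h with h | h
    · exact S.not_dvd_index h
    · exact hK.not_two_dvd_nat h
  have h := IsPGroup.le_sylow_of_normal (p := 2) hP ((S.isPGroup'.map _).toSylow hidx)
  exact h.trans (Subgroup.map_subtype_le _)

namespace Cz

variable {z : G} (D : Cz z)

/-- The centraliser of the central involution and of another element. -/
def Kc (z w : G) : Subgroup G := centralizer ({z} : Set G) ⊓ centralizer ({w} : Set G)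

theorem mem_Kc {w g : G} : g ∈ Kc z w ↔ Commute g z ∧ Commute g w := by
  rw [Kc, Subgroup.mem_inf, mem_centralizer_singleton_iff, mem_centralizer_singleton_iff]
  rfl

theorem J_le_Kc {w : G} (hw : w ∈ D.W) : D.J ≤ Kc z w :=
  fun j hj => mem_Kc.2 ⟨D.J_comm j hj, D.W_cen j hj w hw⟩

/-- The images of an element fixing an involution of the four-group. -/
theorem step_W {f0 f1 q : G} (h0 : f0 ∈ D.W) (h01 : f0 ≠ 1) (h1 : f1 ∈ D.W) (h11 : f1 ≠ 1) (hne : f1 ≠ f0)
    (hq : Commute q z) (hqf : Commute q f0) : q * f1 * q⁻¹ = f1 ∨ q * f1 * q⁻¹ = f0 * f1 := by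
  rcases D.W_cases h0 h01 h1 h11 hne.symm (D.W_norm q hq f1 h1) with r | r | r | r
  · exact absurd (conj_eq_one_iff.1 r) h11
  · exact absurd (mul_left_cancel (mul_right_cancel (r.trans (by rw [hqf.eq, mul_inv_cancel_right] :
      f0 = q * f0 * q⁻¹)))) hne
  · exact Or.inl r
  · exact Or.inr r

theorem sq_inner {f0 q : G} (h0 : f0 ∈ D.W) (h01 : f0 ≠ 1) (hq : Commute q z) (hqf : Commute q f0) :
    ∀ w ∈ D.W, Commute (q * q) w := by
  obtain ⟨f1, h1, h11, hne⟩ := D.exists_other h0 h01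
  intro w hw
  have hf1 : Commute (q * q) f1 := by
    refine mul_inv_eq_iff_eq_mul.1 ?_
    rw [show q * q * f1 * (q * q)⁻¹ = q * (q * f1 * q⁻¹) * q⁻¹ by group]
    rcases D.step_W h0 h01 h1 h11 hne hq hqf with e | e
    · rw [e, e]
    · rw [e, ← conj_mul_conj, hqf.eq, mul_inv_cancel_right, e, ← mul_assoc, D.W_sq f0 h0, one_mul]
  rcases D.W_cases h0 h01 h1 h11 hne.symm hw with r | r | r | r <;> rw [r]
  exacts [Commute.one_right _, hqf.mul_left hqf, hf1, (hqf.mul_left hqf).mul_right hf1]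

/-- Two-subgroups normalised by the centraliser of an involution of the four-group. -/
theorem two_core [Finite G] {f0 : G} (h0 : f0 ∈ D.W) (h01 : f0 ≠ 1) (P : Subgroup G) (hP : IsPGroup 2 P)
    (hle : P ≤ Kc z f0) (hn : ∀ h ∈ Kc z f0, ∀ p ∈ P, h * p * h⁻¹ ∈ P) : P ≤ D.J := by
  classical
  haveI : Fact (Nat.Prime 2) := ⟨Nat.prime_two⟩
  have lift : ∀ u : U4, ∃ h ∈ Kc z f0, D.act h = R4.r u := fun u => by
    obtain ⟨h, hh, e⟩ := D.act_surj u
    exact ⟨h, mem_Kc.2 ⟨hh, (D.act_inner h hh).2 ⟨u, e⟩ f0 h0⟩, e⟩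
  let S : Subgroup U4 :=
    { carrier := {u | ∃ p ∈ P, D.act p = R4.r u}
      one_mem' := ⟨1, one_mem _, by rw [D.act_one, map_one]⟩
      mul_mem' := by
        rintro a b ⟨p, hp, ep⟩ ⟨q, hq, eq⟩
        exact ⟨p * q, mul_mem hp hq, by
          rw [D.act_mul _ _ (mem_Kc.1 (hle hp)).1 (mem_Kc.1 (hle hq)).1, ep, eq, map_mul]⟩
      inv_mem' := by
        rintro a ⟨p, hp, ep⟩
        exact ⟨p⁻¹, inv_mem hp, by rw [D.act_inv (mem_Kc.1 (hle hp)).1, ep, map_inv]⟩ }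
  haveI : S.Normal := ⟨fun a ⟨p, hp, ep⟩ u => by
    obtain ⟨h, hh, eh⟩ := lift u
    exact ⟨h * p * h⁻¹, hn h hh p hp, by
      rw [D.act_conj (mem_Kc.1 hh).1 (mem_Kc.1 (hle hp)).1, eh, ep, ← map_inv, ← map_mul, ← map_mul]⟩⟩
  have hS : IsPGroup 2 S := fun ⟨a, p, hp, ep⟩ => by
    obtain ⟨n, hn'⟩ := hP ⟨p, hp⟩
    refine ⟨n, Subtype.ext (R4.inj ?_)⟩
    have hpow : ∀ m : ℕ, D.act (p ^ m) = R4.r (a ^ m) := fun m => by
      induction m with
      | zero => rw [pow_zero, pow_zero, D.act_one, map_one]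
      | succ m ih => rw [pow_succ, pow_succ, D.act_mul _ _ ((mem_Kc.1 (hle hp)).1.pow_left m) (mem_Kc.1 (hle hp)).1,
          ih, ep, map_mul]
    show R4.r (a ^ 2 ^ n) = R4.r 1
    rw [← hpow, show p ^ 2 ^ n = 1 from congrArg Subtype.val hn', D.act_one, map_one]
  have hSbot : S = ⊥ := by
    haveI : IsSimpleGroup U4 := simple_SU4
    refine (‹S.Normal›.eq_bot_or_eq_top).resolve_right fun e => ?_
    obtain ⟨n, hn'⟩ := IsPGroup.iff_card.1 hS
    rw [e, Subgroup.card_top, card_SU4] at hn'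
    have h5 : 5 ∣ 2 ^ n := hn' ▸ by norm_num
    exact absurd (Nat.Prime.dvd_of_dvd_pow (by norm_num) h5) (by norm_num)
  have hinner : ∀ p ∈ P, (∀ w ∈ D.W, Commute p w) → p ∈ D.J := by
    intro p hp hW
    obtain ⟨u, hu⟩ := (D.act_inner p (mem_Kc.1 (hle hp)).1).1 hW
    have : u ∈ S := ⟨p, hp, hu⟩
    rw [hSbot, Subgroup.mem_bot] at this
    rw [this, map_one] at hu
    exact (D.act_J p (mem_Kc.1 (hle hp)).1).1 hu
  intro p hp
  by_contra hpJ
  obtain ⟨hpz, hpf⟩ := mem_Kc.1 (hle hp)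
  have hact2 : D.act p * D.act p = 1 := by
    rw [← D.act_mul _ _ hpz hpz]
    exact D.act_of_J (hinner _ (mul_mem hp hp) (D.sq_inner h0 h01 hpz hpf))
  have hcomm : ∀ u, D.act p * R4.r u = R4.r u * D.act p := fun u => by
    obtain ⟨h, hh, eh⟩ := lift u
    obtain ⟨hhz, hhf⟩ := mem_Kc.1 hh
    have hc : p * (h * p⁻¹ * h⁻¹) ∈ P := mul_mem hp (hn h hh _ (inv_mem hp))
    have hW : ∀ w ∈ D.W, Commute (p * (h * p⁻¹ * h⁻¹)) w := fun w hw => by
      have h1 : ∀ v ∈ D.W, Commute h v := (D.act_inner h hhz).2 ⟨u, eh⟩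
      have h2 := (h1 _ (D.W_norm p⁻¹ hpz.inv_left w hw)).map (MulAut.conj p).toMonoidHom
      have h3 : Commute (p * h * p⁻¹) w := by simpa [mul_assoc] using h2
      rw [show p * (h * p⁻¹ * h⁻¹) = p * h * p⁻¹ * h⁻¹ by group]
      exact h3.mul_left (h1 w hw).inv_left
    have := D.act_of_J (hinner _ hc hW)
    rw [D.act_mul _ _ hpz ((hhz.mul_left hpz.inv_left).mul_left hhz.inv_left), D.act_conj hhz hpz.inv_left,
      D.act_inv hpz, inv_eq_of_mul_eq_one_right hact2, eh] at this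
    calc D.act p * R4.r u = D.act p * (R4.r u * D.act p * (R4.r u)⁻¹) * (R4.r u * (D.act p)⁻¹) := by group
      _ = R4.r u * D.act p := by rw [this, one_mul, inv_eq_of_mul_eq_one_right hact2]
  rcases D.act_invol p hpz hact2 with ⟨u, hu⟩ | hsemi
  · exact hpJ (hinner p hp ((D.act_inner p hpz).2 ⟨u, hu⟩))
  obtain ⟨v, hv0, hv⟩ : ∃ v, v ≠ 0 ∧ D.act p v = v := by
    by_contra hno
    push Not at hno
    refine hpJ ((D.act_J p hpz).1 (LinearEquiv.ext fun v => ?_))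
    show D.act p v = v
    by_contra hne
    refine hne (eq_of_sum_zero (not_not.1 fun h0 => hno _ h0 ?_))
    rw [map_add, show D.act p (D.act p v) = v from DFunLike.congr_fun hact2 v, add_comm]
  have hfix : ∀ (u : U4) (x : V4), D.act p x = x → D.act p (suMat u *ᵥ x) = suMat u *ᵥ x := fun u x hx => by
    have h1 : D.act p (R4.r u x) = R4.r u (D.act p x) := DFunLike.congr_fun (hcomm u) x
    rwa [hx, R4_r] at h1
  obtain ⟨q, hq, hvq⟩ : ∃ q, IsPt4 q ∧ h4 v q ≠ 0 := by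
    by_contra hno
    push Not at hno
    exact hv0 (perp_all v hno)
  have hcq : D.act p (h4 v q • q) = h4 v q • q := by
    have := hfix (tvp q) v hv
    rw [tvp_apply hq, map_add, hv] at this
    exact add_left_cancel this
  obtain ⟨g, hg⟩ := to_p0 (pt_smul hq hvq)
  have h1 : D.act p p0 = p0 := hg ▸ hfix g _ hcq
  have h2 := hfix d1 p0 h1
  rw [d1_p0] at h2
  exact LS_p0.2.2 (hsemi p0 h1 h2)

/-- An element centralising the radical. -/
theorem cent_J {x : G} (hx : Commute x z) (h : ∀ j ∈ D.J, Commute x j) : InZ D.W z x := by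
  have hxJ : x ∈ D.J := (D.act_J x hx).1 (LinearEquiv.ext fun v => by
    obtain ⟨j, hj, rfl⟩ := D.pr_surj v
    exact D.pr_fix hx hj (h j hj))
  refine (D.pr_zero x hxJ).1 (R4.nondeg _ fun w => ?_)
  obtain ⟨j, hj, rfl⟩ := D.pr_surj w
  exact (D.comm_iff hxJ hj).1 (h j hj)

variable [Finite G]

theorem Kc_index {a : G} (ha : a ∈ D.W) (ha1 : a ≠ 1) :
    Nat.card (centralizer ({z} : Set G)) = 3 * Nat.card (Kc z a) := by
  classical
  haveI : Fintype D.W := Fintype.ofFinite _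
  set H := centralizer ({z} : Set G)
  let f : H ⧸ (Kc z a).subgroupOf H → {w : D.W // (w : G) ≠ 1} :=
    Quotient.lift (fun h : H => (⟨⟨(h : G) * a * (h : G)⁻¹,
        D.W_norm h (mem_centralizer_singleton_iff.1 h.2) a ha⟩, fun e => ha1 (conj_eq_one_iff.1 e)⟩ :
          {w : D.W // (w : G) ≠ 1})) (by
      intro h k hhk
      replace hhk := QuotientGroup.leftRel_apply.1 hhk
      rw [Subgroup.mem_subgroupOf] at hhk
      refine Subtype.ext (Subtype.ext ?_)
      have := (mem_Kc.1 hhk).2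
      show (h : G) * a * (h : G)⁻¹ = (k : G) * a * (k : G)⁻¹
      calc (h : G) * a * (h : G)⁻¹ = (h : G) * (((h⁻¹ * k : H) : G) * a * ((h⁻¹ * k : H) : G)⁻¹) * (h : G)⁻¹ := by
            rw [this.eq, mul_inv_cancel_right]
        _ = _ := by push_cast; group)
  have hf : Function.Bijective f := by
    constructor
    · intro x y
      refine Quotient.inductionOn₂ x y fun h k e => Quotient.sound ?_
      have e' : (h : G) * a * (h : G)⁻¹ = (k : G) * a * (k : G)⁻¹ :=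
        congrArg (fun w : {w : D.W // (w : G) ≠ 1} => ((w : D.W) : G)) e
      show QuotientGroup.leftRel _ h k
      rw [QuotientGroup.leftRel_apply, Subgroup.mem_subgroupOf]
      refine mem_Kc.2 ⟨mem_centralizer_singleton_iff.1 (h⁻¹ * k : H).2, mul_inv_eq_iff_eq_mul.1 ?_⟩
      push_cast
      rw [show (h : G)⁻¹ * k * a * ((h : G)⁻¹ * k)⁻¹ = (h : G)⁻¹ * (k * a * (k : G)⁻¹) * h by group, ← e']
      group
    · rintro ⟨⟨w, hw⟩, hw1⟩
      obtain ⟨h, hh, e⟩ := D.trans_W ha ha1 hw hw1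
      exact ⟨Quotient.mk _ ⟨h, mem_centralizer_singleton_iff.2 hh.eq⟩, Subtype.ext (Subtype.ext e)⟩
  have h3 := Nat.card_eq_of_bijective f hf
  rw [Nat.card_eq_fintype_card (α := {w : D.W // (w : G) ≠ 1}), Fintype.card_subtype,
    show (Finset.univ.filter fun w : D.W => (w : G) ≠ 1) = Finset.univ.erase 1 by ext w; simp,
    Finset.card_erase_of_mem (Finset.mem_univ _), Finset.card_univ, ← Nat.card_eq_fintype_card (α := D.W),
    D.W_card] at h3
  have h4 := Subgroup.card_eq_card_quotient_mul_card_subgroup ((Kc z a).subgroupOf H)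
  have h5 : Kc z a ≤ H := inf_le_left
  rw [h3, Nat.card_congr (Subgroup.subgroupOfEquivOfLe h5).toEquiv] at h4
  exact h4

theorem Kc_zw {w : G} (hw : InZ D.W z w) : ∀ g, Commute g z → (Commute g w ↔ Commute g (w * z)) := fun g hg =>
  ⟨fun h => h.mul_right hg, fun h => by
    have := h.mul_right hg
    rwa [mul_assoc, D.z_sq, mul_one] at this⟩

theorem not_Az' {e : G} (he : InZ D.W z e) (hez : e ≠ z) (g : G) : g * e * g⁻¹ ≠ z := by
  classical
  intro heq
  have he1 : e ≠ 1 := fun h => D.z_ne (by rw [← heq, h]; group)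
  obtain ⟨w, hwW, hw1, hwe⟩ : ∃ w ∈ D.W, w ≠ 1 ∧ ∀ g, Commute g z → (Commute g w ↔ Commute g e) := by
    rcases he with h | h
    · exact ⟨e, h, he1, fun g _ => Iff.rfl⟩
    · exact ⟨e * z, h, fun h' => hez (by rw [eq_inv_of_mul_eq_one_left h', D.z_inv]),
        fun g hg => (D.Kc_zw (Or.inr h) g hg).symm⟩
  set C := centralizer ({e} : Set G)
  set P := D.J.map (MulAut.conj g⁻¹).toMonoidHom with hPd
  have hCmem : ∀ x, x ∈ C ↔ Commute (g * x * g⁻¹) z := fun x => by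
    rw [mem_centralizer_singleton_iff, ← heq, commute_conj_iff]
    rfl
  have hPC : P ≤ C := by
    rintro _ ⟨j, hj, rfl⟩
    refine (hCmem _).2 ?_
    show Commute (g * (g⁻¹ * j * g⁻¹⁻¹) * g⁻¹) z
    rw [show g * (g⁻¹ * j * g⁻¹⁻¹) * g⁻¹ = j by group]
    exact D.J_comm j hj
  have hKC : Kc z w ≤ C := fun k hk => mem_centralizer_singleton_iff.2
    ((hwe k (mem_Kc.1 hk).1).1 (mem_Kc.1 hk).2).eq
  have hnorm : ∀ x ∈ C, ∀ p ∈ P, x * p * x⁻¹ ∈ P := by
    rintro x hx _ ⟨j, hj, rfl⟩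
    refine ⟨g * x * g⁻¹ * j * (g * x * g⁻¹)⁻¹, D.conj_mem ((hCmem x).1 hx) hj, ?_⟩
    show g⁻¹ * (g * x * g⁻¹ * j * (g * x * g⁻¹)⁻¹) * g⁻¹⁻¹ = x * (g⁻¹ * j * g⁻¹⁻¹) * x⁻¹
    group
  haveI : (P.subgroupOf C).Normal := ⟨fun p hp x => hnorm x x.2 p hp⟩
  have hP2 : IsPGroup 2 P := D.two_J.map _
  have hcardC : Nat.card C = Nat.card (centralizer ({z} : Set G)) := by
    refine Nat.card_congr ⟨fun x => ⟨g * x * g⁻¹, mem_centralizer_singleton_iff.2 ((hCmem x).1 x.2).eq⟩,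
      fun y => ⟨g⁻¹ * y * g, (hCmem _).2 ?_⟩, fun x => Subtype.ext ?_, fun y => Subtype.ext ?_⟩
    · rw [show g * (g⁻¹ * (y : G) * g) * g⁻¹ = y by group]
      exact mem_centralizer_singleton_iff.1 y.2
    · show g⁻¹ * (g * (x : G) * g⁻¹) * g = x
      group
    · show g * (g⁻¹ * (y : G) * g) * g⁻¹ = y
      group
  have hidx : ((Kc z w).subgroupOf C).index = 3 := by
    have h1 := Subgroup.card_mul_index ((Kc z w).subgroupOf C)
    rw [Nat.card_congr (Subgroup.subgroupOfEquivOfLe hKC).toEquiv, hcardC, D.Kc_index hwW hw1, mul_comm 3] at h1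
    exact Nat.eq_of_mul_eq_mul_left Nat.card_pos h1
  have hle : P ≤ Kc z w := fun p hp => normal_two_le (P.subgroupOf C) ((Kc z w).subgroupOf C)
    (hP2.comap_of_injective _ C.subtype_injective) (by rw [hidx]; decide)
    (show (⟨p, hPC hp⟩ : C) ∈ P.subgroupOf C from hp)
  have hPJ : P ≤ D.J := D.two_core hwW hw1 P hP2 hle fun h hh => hnorm h (hKC hh)
  have hEq : P = D.J := Subgroup.eq_of_le_of_card_ge hPJ
    (by rw [hPd, Subgroup.card_map_of_injective (MulAut.conj g⁻¹).injective])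
  obtain ⟨i, hi, hi0⟩ : ∃ i ∈ D.J, D.pr i ≠ 0 := by
    obtain ⟨i, hi, e'⟩ := D.pr_surj p0
    exact ⟨i, hi, by rw [e']; exact LS_p0.2.2⟩
  obtain ⟨j, hj, hj0⟩ : ∃ j ∈ D.J, ¬ Commute i j := by
    by_contra hno
    push Not at hno
    exact hi0 (R4.nondeg _ fun v => by
      obtain ⟨j, hj, rfl⟩ := D.pr_surj v
      exact (D.comm_iff hi hj).1 (hno j hj))
  have hz' := (D.comm_cases hi hj).resolve_left fun e' =>
    hj0 (mul_inv_eq_iff_eq_mul.1 (mul_inv_eq_one.1 e'))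
  rw [← hEq] at hi hj
  obtain ⟨i', hi', rfl⟩ := hi
  obtain ⟨j', hj', rfl⟩ := hj
  rcases D.comm_cases hi' hj' with e' | e'
  · have hc : Commute i' j' := mul_inv_eq_iff_eq_mul.1 (mul_inv_eq_one.1 e')
    exact hj0 (hc.map (MulAut.conj g⁻¹).toMonoidHom)
  · refine hez ?_
    rw [← hz']
    have hge : e = g⁻¹ * z * g := by rw [← heq]; group
    rw [hge, ← e']
    show _ = g⁻¹ * i' * g⁻¹⁻¹ * (g⁻¹ * j' * g⁻¹⁻¹) * (g⁻¹ * i' * g⁻¹⁻¹)⁻¹ * (g⁻¹ * j' * g⁻¹⁻¹)⁻¹
    group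

/-- A Sylow two-subgroup in the centraliser of the pair. -/
structure Syl (D : Cz z) (a0 : G) where
  T : Subgroup G
  two : IsPGroup 2 T
  odd : Odd T.index
  comm : ∀ t ∈ T, Commute t z ∧ Commute t a0
  J_le : D.J ≤ T
  centre : ∀ x, (∀ t ∈ T, Commute x t) → x = 1 ∨ x = z ∨ x = a0 ∨ x = a0 * z

theorem exists_syl {a0 : G} (ha : a0 ∈ D.W) (ha1 : a0 ≠ 1) : Nonempty (Syl D a0) := by
  classical
  haveI : Fact (Nat.Prime 2) := ⟨Nat.prime_two⟩
  obtain ⟨b, hb, hb1, hba⟩ := D.exists_other ha ha1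
  have hab1 : a0 * b ≠ 1 := fun e => hba (by rw [eq_inv_of_mul_eq_one_right e, D.W_inv ha])
  obtain ⟨τ, hτ, hτa, hτb⟩ := D.full a0 ha ha1 b hb hb1 hba.symm a0 ha ha1 (a0 * b) (mul_mem ha hb) hab1
    fun e => hb1 (mul_eq_left.1 e.symm)
  have hτa' : Commute τ a0 := mul_inv_eq_iff_eq_mul.1 hτa
  obtain ⟨k, m, hm, hn⟩ : ∃ k m, Odd m ∧ orderOf τ = 2 ^ k * m := by
    obtain ⟨k, m, hm, hn⟩ := Nat.exists_eq_two_pow_mul_odd (orderOf_pos τ).ne'
    exact ⟨k, m, hm, hn⟩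
  set s := τ ^ m with hs
  have hsz : Commute s z := hτ.pow_left m
  have hsa : Commute s a0 := hτa'.pow_left m
  have hsb : ¬ Commute s b := by
    obtain ⟨i, rfl⟩ := hm
    intro hc
    have he : ∀ w ∈ D.W, Commute (τ ^ (2 * i)) w := fun w hw => by
      rw [pow_mul, pow_two]
      exact (D.sq_inner ha ha1 hτ hτa' w hw).pow_left i
    have h1 : Commute τ b := by
      have h2 := (he b hb).inv_left.mul_left hc
      rwa [hs, pow_succ, inv_mul_cancel_left] at h2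
    rw [h1.eq, mul_inv_cancel_right] at hτb
    exact ha1 (mul_eq_right.1 hτb.symm)
  have hspow : s ^ (2 ^ k) = 1 := by rw [hs, ← pow_mul, mul_comm, ← hn, pow_orderOf_eq_one]
  have hsK : s ∈ Kc z a0 := mem_Kc.2 ⟨hsz, hsa⟩
  haveI hJn : (D.J.subgroupOf (Kc z a0)).Normal := ⟨fun j hj x => D.conj_mem (mem_Kc.1 x.2).1 hj⟩
  have hP0 : IsPGroup 2 (D.J.subgroupOf (Kc z a0) ⊔ zpowers (⟨s, hsK⟩ : Kc z a0) : Subgroup (Kc z a0)) := by
    refine IsPGroup.to_sup_of_normal_left (D.two_J.comap_of_injective _ (Kc z a0).subtype_injective) ?_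
    obtain ⟨j, -, hj⟩ := (Nat.dvd_prime_pow Nat.prime_two).1 (orderOf_dvd_of_pow_eq_one
      (show (⟨s, hsK⟩ : Kc z a0) ^ (2 ^ k) = 1 from Subtype.ext hspow))
    exact IsPGroup.of_card (n := j) (by rw [Nat.card_zpowers, hj])
  obtain ⟨P, hP⟩ := hP0.exists_le_sylow
  set T := (P : Subgroup (Kc z a0)).map (Kc z a0).subtype with hT
  have hcomm : ∀ t ∈ T, Commute t z ∧ Commute t a0 := by
    rintro _ ⟨⟨t, ht⟩, -, rfl⟩
    exact mem_Kc.1 ht
  have hJT : D.J ≤ T := fun j hj =>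
    ⟨⟨j, D.J_le_Kc ha hj⟩, hP (mem_sup_left (show (⟨j, D.J_le_Kc ha hj⟩ : Kc z a0) ∈ D.J.subgroupOf _ from hj)), rfl⟩
  have hsT : s ∈ T := ⟨⟨s, hsK⟩, hP (mem_sup_right (mem_zpowers _)), rfl⟩
  have hcentre : ∀ x, (∀ t ∈ T, Commute x t) → x = 1 ∨ x = z ∨ x = a0 ∨ x = a0 * z := by
    intro x hx
    have hxz : Commute x z := hx z (hJT D.z_mem)
    have hZ := D.cent_J hxz fun j hj => hx j (hJT hj)
    have key : ∀ w ∈ D.W, Commute w s → w = 1 ∨ w = a0 := by
      intro w hw hc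
      rcases D.W_cases ha ha1 hb hb1 hba.symm hw with r | r | r | r
      · exact Or.inl r
      · exact Or.inr r
      · exact absurd (r ▸ hc).symm hsb
      · refine absurd ?_ hsb
        have h3 := (r ▸ hc : Commute (a0 * b) s).symm
        have h4 := hsa.mul_right h3
        rwa [← mul_assoc, D.W_sq a0 ha, one_mul] at h4
    rcases hZ with h | h
    · rcases key x h (hx s hsT) with e | e
      · exact Or.inl e
      · exact Or.inr (Or.inr (Or.inl e))
    · rcases key _ h ((hx s hsT).mul_left hsz.symm) with e | e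
      · exact Or.inr (Or.inl (by rw [eq_inv_of_mul_eq_one_left e, D.z_inv]))
      · exact Or.inr (Or.inr (Or.inr (by rw [← e, mul_assoc, D.z_sq, mul_one])))
  have hT2 : IsPGroup 2 T := P.isPGroup'.map _
  refine ⟨⟨T, hT2, ?_, hcomm, hJT, hcentre⟩⟩
  obtain ⟨Q, hQ⟩ := hT2.exists_le_sylow
  suffices h : (Q : Subgroup G) = T by
    rw [← h, Nat.odd_iff, ← Nat.two_dvd_ne_zero]
    exact Q.not_dvd_index
  by_contra hne
  haveI : Group.IsNilpotent (Q : Subgroup G) := Q.isPGroup'.isNilpotent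
  have hlt : T.subgroupOf Q < ⊤ :=
    lt_top_iff_ne_top.2 fun e => hne (le_antisymm (Subgroup.subgroupOf_eq_top.1 e) hQ)
  obtain ⟨n, hnn, hnT⟩ := SetLike.exists_of_lt (Group.normalizerCondition_of_isNilpotent _ hlt)
  have hnorm : ∀ t ∈ T, (n : G)⁻¹ * t * n ∈ T := fun t ht => by
    have h := (mem_normalizer_iff.1 (inv_mem hnn) ⟨t, hQ ht⟩).1 ht
    simpa [Subgroup.mem_subgroupOf] using h
  have hcz : ∀ c, (∀ t ∈ T, Commute c t) → ∀ t ∈ T, Commute ((n : G) * c * (n : G)⁻¹) t := fun c hc t ht => by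
    have h := (hc _ (hnorm t ht)).map (MulAut.conj (n : G)).toMonoidHom
    simpa [mul_assoc] using h
  have hz' : (n : G) * z * (n : G)⁻¹ = z := by
    rcases hcentre _ (hcz z fun t ht => (hcomm t ht).1.symm) with e | e | e | e
    · exact absurd (conj_eq_one_iff.1 e) D.z_ne
    · exact e
    · refine absurd (show (n : G)⁻¹ * a0 * (n : G)⁻¹⁻¹ = z by rw [← e]; group)
        (D.not_Az' (Or.inl ha) (fun h => D.z_notW (h ▸ ha)) _)
    · refine absurd (show (n : G)⁻¹ * (a0 * z) * (n : G)⁻¹⁻¹ = z by rw [← e]; group)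
        (D.not_Az' (Or.inr (by rw [mul_assoc, D.z_sq, mul_one]; exact ha)) (fun h => ha1 (mul_eq_right.1 h)) _)
  have hnz : Commute (n : G) z := mul_inv_eq_iff_eq_mul.1 hz'
  have hna : (n : G) * a0 * (n : G)⁻¹ = a0 := by
    have hW := D.W_norm n hnz a0 ha
    rcases hcentre _ (hcz a0 fun t ht => (hcomm t ht).2.symm) with e | e | e | e
    · exact absurd (conj_eq_one_iff.1 e) ha1
    · rw [e] at hW; exact absurd hW D.z_notW
    · exact e
    · rw [e] at hW
      have := mul_mem (inv_mem ha) hW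
      rw [inv_mul_cancel_left] at this
      exact absurd this D.z_notW
  have hnK : (n : G) ∈ Kc z a0 := mem_Kc.2 ⟨hnz, mul_inv_eq_iff_eq_mul.1 hna⟩
  have hmax := P.is_maximal' (Q := (Q : Subgroup G).subgroupOf (Kc z a0))
    (Q.isPGroup'.comap_of_injective _ (Kc z a0).subtype_injective) fun y hy => hQ ⟨y, hy, rfl⟩
  refine hnT ⟨⟨n, hnK⟩, ?_, rfl⟩
  rw [SetLike.mem_coe, ← hmax]
  exact n.2

theorem not_AB' {a0 : G} (ha : a0 ∈ D.W) (ha1 : a0 ≠ 1) (S : Syl D a0) :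
    ∀ a ∈ D.W, a ≠ 1 → ∀ b, b * z ∈ D.W → b ≠ z → ∀ g, g * a * g⁻¹ ≠ b := by
  classical
  haveI : Fact (Nat.Prime 2) := ⟨Nat.prime_two⟩
  intro a haW haW1 b hb hbz g heq
  obtain ⟨h1, hh1, e1⟩ := D.trans_W ha ha1 haW haW1
  obtain ⟨h2, hh2, e2⟩ := D.trans_W hb (fun e => hbz (by rw [eq_inv_of_mul_eq_one_left e, D.z_inv])) ha ha1
  set f0 := a0 * z with hf0
  set g' := h2 * g * h1 with hg'
  have heq' : g' * a0 * g'⁻¹ = f0 := by
    rw [hg', show h2 * g * h1 * a0 * (h2 * g * h1)⁻¹ = h2 * (g * (h1 * a0 * h1⁻¹) * g⁻¹) * h2⁻¹ by group, e1, heq,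
      hf0, ← e2]
    rw [← conj_mul_conj, show h2 * z * h2⁻¹ = z by rw [hh2.eq, mul_inv_cancel_right], mul_assoc (h2 * b * h2⁻¹),
      D.z_sq, mul_one]
  clear_value g'
  clear heq
  set C := centralizer ({f0} : Set G)
  have hT1 : S.T ≤ C := fun t ht => mem_centralizer_singleton_iff.2 ((S.comm t ht).2.mul_right (S.comm t ht).1).eq
  have hT2 : S.T.map (MulAut.conj g').toMonoidHom ≤ C := by
    rintro _ ⟨t, ht, rfl⟩
    refine mem_centralizer_singleton_iff.2 ?_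
    rw [← heq']
    exact (commute_conj_iff.2 (S.comm t ht).2).eq
  have odd : ∀ U : Subgroup G, U ≤ C → Odd U.index → ¬ 2 ∣ (U.subgroupOf C).index := fun U hU hi h =>
    hi.not_two_dvd_nat (h.trans (Subgroup.relIndex_dvd_index_of_le hU))
  have hidx2 : Odd (S.T.map (MulAut.conj g').toMonoidHom).index := by
    rw [show (S.T.map (MulAut.conj g').toMonoidHom).index = S.T.index from Subgroup.index_map_equiv S.T (MulAut.conj g')]
    exact S.odd
  obtain ⟨c, hc⟩ := MulAction.exists_smul_eq C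
    ((((S.two.map _).comap_of_injective _ C.subtype_injective :
      IsPGroup 2 ((S.T.map (MulAut.conj g').toMonoidHom).subgroupOf C))).toSylow (odd _ hT2 hidx2))
    ((S.two.comap_of_injective _ C.subtype_injective : IsPGroup 2 (S.T.subgroupOf C)).toSylow (odd _ hT1 S.odd))
  set n := (c : G) * g' with hn
  have hnT : ∀ t ∈ S.T, n * t * n⁻¹ ∈ S.T := fun t ht => by
    have h0 : (⟨g' * t * g'⁻¹, hT2 ⟨t, ht, rfl⟩⟩ : C) ∈ (S.T.map (MulAut.conj g').toMonoidHom).subgroupOf C :=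
      ⟨t, ht, rfl⟩
    have h2 := congrArg (fun P : Sylow 2 C => (P : Subgroup C)) hc
    simp only [Sylow.coe_subgroup_smul] at h2
    have h1 : c * (⟨g' * t * g'⁻¹, hT2 ⟨t, ht, rfl⟩⟩ : C) * c⁻¹ ∈ S.T.subgroupOf C :=
      h2.le ⟨_, h0, rfl⟩
    rw [hn, show (c : G) * g' * t * ((c : G) * g')⁻¹ = (c : G) * (g' * t * g'⁻¹) * (c : G)⁻¹ by group]
    exact h1
  have hna : n * a0 * n⁻¹ = f0 := by
    rw [hn, show (c : G) * g' * a0 * ((c : G) * g')⁻¹ = (c : G) * (g' * a0 * g'⁻¹) * (c : G)⁻¹ by group, heq']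
    have hcf : Commute (c : G) f0 := mem_centralizer_singleton_iff.1 c.2
    rw [hcf.eq, mul_inv_cancel_right]
  have hnz : ∀ t ∈ S.T, Commute (n * z * n⁻¹) t := fun t ht => by
    obtain ⟨u, hu⟩ := Finite.surjective_of_injective (f := fun x : S.T => (⟨n * x * n⁻¹, hnT x x.2⟩ : S.T))
      (fun x y e => Subtype.ext (mul_left_cancel (mul_right_cancel (congrArg Subtype.val e)))) ⟨t, ht⟩
    rw [← show n * (u : G) * n⁻¹ = t from congrArg Subtype.val hu]
    exact commute_conj_iff.2 (S.comm u u.2).1.symm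
  have hz : n * z * n⁻¹ = z := by
    rcases S.centre _ hnz with e | e | e | e
    · exact absurd (conj_eq_one_iff.1 e) D.z_ne
    · exact e
    · exact absurd (show n⁻¹ * a0 * n⁻¹⁻¹ = z by rw [← e]; group)
        (D.not_Az' (Or.inl ha) (fun h => D.z_notW (h ▸ ha)) _)
    · exact absurd (show n⁻¹ * f0 * n⁻¹⁻¹ = z by rw [hf0, ← e]; group)
        (D.not_Az' (Or.inr (by rw [mul_assoc, D.z_sq, mul_one]; exact ha))
          (fun h => ha1 (mul_eq_right.1 h)) _)
  have hW := D.W_norm n (mul_inv_eq_iff_eq_mul.1 hz) a0 ha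
  rw [hna, hf0] at hW
  have := mul_mem (inv_mem ha) hW
  rw [inv_mul_cancel_left] at this
  exact D.z_notW this

end Cz

end CfsgLib.Fi23Cent
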