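import Cfsg.Agent.Fi23Cent.Endgame
import Cfsg.Agent.Invol.IsolatedApps

/-!
The three outcomes.
-/

set_option autoImplicit false
set_option maxRecDepth 100000
set_option maxHeartbeats 1000000
set_option linter.style.haveILetI false
set_option linter.unusedSectionVars false
set_option linter.unusedVariables false

namespace CfsgLib.Fi23Cent

open CfsgLib CfsgLib.U62Cent Subgroup

variable {G : Type*} [Group G] [Finite G]

theorem sylow_conj_comm {z : G} (C T P : Subgroup G) (hTC : T ≤ C) (hT : IsPGroup 2 T) (hTi : Odd T.index)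
    (hTz : ∀ t ∈ T, Commute t z) (hP : IsPGroup 2 P) (hPC : P ≤ C) :
    ∃ k ∈ C, ∀ p ∈ P, Commute (k * z * k⁻¹) p := by
  haveI : Fact (Nat.Prime 2) := ⟨Nat.prime_two⟩
  have hidx : ¬ 2 ∣ (T.subgroupOf C).index := fun h =>
    hTi.not_two_dvd_nat (h.trans (Subgroup.relIndex_dvd_index_of_le hTC))
  obtain ⟨Q, hQ⟩ := (hP.comap_of_injective _ C.subtype_injective : IsPGroup 2 (P.subgroupOf C)).exists_le_sylow
  obtain ⟨k, hk⟩ := MulAction.exists_smul_eq C
    ((hT.comap_of_injective _ C.subtype_injective : IsPGroup 2 (T.subgroupOf C)).toSylow hidx) Q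
  refine ⟨k, k.2, fun p hp => ?_⟩
  have h1 : (⟨p, hPC hp⟩ : C) ∈ (Q : Subgroup C) := hQ hp
  rw [← hk, Sylow.coe_subgroup_smul] at h1
  obtain ⟨t, ht, e⟩ := h1
  have e' : (k : G) * t * (k : G)⁻¹ = p := congrArg Subtype.val e
  rw [← e']
  exact commute_conj_iff.2 (hTz t ht).symm

theorem isAlpha_conj {z e h : G} (hh : Commute h z) (hα : IsAlpha z e) : IsAlpha z (h * e * h⁻¹) := by
  obtain ⟨O, hO, hOe, hc⟩ := hα
  refine ⟨O.map (MulAut.conj h).toMonoidHom, ?_, ?_, fun g hg => ?_⟩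
  · rwa [Subgroup.card_map_of_injective (MulAut.conj h).injective]
  · rintro _ ⟨o, ho, rfl⟩
    exact mem_centralizer_singleton_iff.2
      (commute_conj_iff.2 (show Commute o e from mem_centralizer_singleton_iff.1 (hOe ho))).eq
  obtain ⟨hn, k, o, hk, hke, ho, hg'⟩ := hc _ (commute_back hg)
  refine ⟨?_, h * k * h⁻¹, h * o * h⁻¹, (hh.mul_left hk).mul_left hh.inv_left, commute_conj_iff.2 hke,
    ⟨o, ho, rfl⟩, ?_⟩
  · rintro _ ⟨q, hq, rfl⟩
    refine ⟨h⁻¹ * g * h * q * (h⁻¹ * g * h)⁻¹, hn q hq, ?_⟩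
    show h * (h⁻¹ * g * h * q * (h⁻¹ * g * h)⁻¹) * h⁻¹ = g * (h * q * h⁻¹) * g⁻¹
    group
  · rw [conj_mul_conj, ← hg']
    group

/-- An odd normal subgroup conjugating the central involution to a commuting one fixes it. -/
theorem alpha_fix {z e g : G} (hz : z * z = 1) (hze : Commute z e) (hα : IsAlpha z e) (hg : Commute g e)
    (hx : Commute (g * z * g⁻¹) z) : Commute g z := by
  obtain ⟨O, hO, -, hOc⟩ := hα
  obtain ⟨-, h, o, hh, -, ho, rfl⟩ := hOc g hg
  have hzo : z * o * z⁻¹ ∈ O := (hOc z hze).1 o ho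
  have hzi : z⁻¹ = z := inv_eq_of_mul_eq_one_right hz
  have hx' : Commute (o * z * o⁻¹) z := by
    refine (commute_conj_iff (g := h) (a := o * z * o⁻¹) (b := z)).1 ?_
    rw [hh.eq, mul_inv_cancel_right]
    rwa [show h * (o * z * o⁻¹) * h⁻¹ = h * o * z * (h * o)⁻¹ by group]
  have hc : o * z * o⁻¹ * z ∈ O := by
    have := mul_mem ho (inv_mem hzo)
    rwa [show o * (z * o * z⁻¹)⁻¹ = o * z * o⁻¹ * z⁻¹ by group, hzi] at this
  have hc2 : o * z * o⁻¹ * z * (o * z * o⁻¹ * z) = 1 := by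
    rw [show o * z * o⁻¹ * z * (o * z * o⁻¹ * z) = o * z * o⁻¹ * (z * (o * z * o⁻¹)) * z by group, ← hx'.eq,
      show o * z * o⁻¹ * (o * z * o⁻¹ * z) * z = o * (z * z) * o⁻¹ * (z * z) by group, hz]
    group
  have := eq_one_of_odd hO hc hc2
  rw [mul_eq_one_iff_eq_inv, hzi] at this
  exact hh.mul_left (mul_inv_eq_iff_eq_mul.1 this)

namespace Cz

variable {z : G} (D : Cz z) {K : Type*} [Field K] [Fintype K]

/-- The subgroup of index two centralises the pair. -/
theorem beta_cent (hK : Fintype.card K = 4) {e y : G} (he : InZ D.W z e) (hy : InZ D.W z y) {L : Subgroup G}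
    (hL : L ≤ centralizer ({e} : Set G)) (heL : e ∈ L) (hyL : y ∈ L)
    (hconj : ∀ g, Commute g e → g * y * g⁻¹ = y ∨ g * y * g⁻¹ = y * e)
    (φ : L →* Cfsg.PSU 6 K 2) (hφ : Function.Surjective φ)
    (hker : ∀ x : L, φ x = 1 ↔ ((x : G) = 1 ∨ (x : G) = e ∨ (x : G) = y ∨ (x : G) = y * e)) :
    ∀ x ∈ L, Commute x y := by
  classical
  obtain ⟨hs, hcard, -, -⟩ := psu_facts hK
  have hey : Commute e y := D.inZ_comm hy (D.inZ_mem he)
  let S : Subgroup L := (centralizer ({y} : Set G)).subgroupOf L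
  have hkS : ∀ x : L, φ x = 1 → x ∈ S := fun x hx => mem_subgroupOf.2 (mem_centralizer_singleton_iff.2 (by
    rcases (hker x).1 hx with r | r | r | r <;> rw [r]
    · exact (Commute.one_left y).eq
    · exact hey.eq
    · exact ((Commute.refl y).mul_left hey).eq))
  have hSn : S.Normal := ⟨fun x hx g => by
    refine mem_subgroupOf.2 (mem_centralizer_singleton_iff.2 (mul_inv_eq_iff_eq_mul.1 ?_))
    have hxy : Commute (x : G) y := mem_centralizer_singleton_iff.1 (mem_subgroupOf.1 hx)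
    have hxe : Commute (x : G) e := mem_centralizer_singleton_iff.1 (hL x.2)
    have hge : Commute (g : G) e := mem_centralizer_singleton_iff.1 (hL g.2)
    have hgy : ((g : G))⁻¹ * y * (g : G)⁻¹⁻¹ = y ∨ (g : G)⁻¹ * y * (g : G)⁻¹⁻¹ = y * e := hconj _ hge.inv_left
    have hx2 : Commute (x : G) ((g : G)⁻¹ * y * (g : G)⁻¹⁻¹) := by
      rcases hgy with r | r <;> rw [r]
      exacts [hxy, hxy.mul_right hxe]
    have := hx2.map (MulAut.conj (g : G)).toMonoidHom
    have h2 : Commute ((g : G) * x * (g : G)⁻¹) y := by simpa [mul_assoc] using this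
    push_cast
    rw [h2.eq, mul_inv_cancel_right]⟩
  have htwo : ∀ g h : L, g ∉ S → h ∉ S → g * h ∈ S := by
    intro g h hg hh
    have move : ∀ g : L, g ∉ S → (g : G) * y * (g : G)⁻¹ = y * e := fun g hg =>
      (hconj _ (mem_centralizer_singleton_iff.1 (hL g.2))).resolve_left fun r =>
        hg (mem_subgroupOf.2 (mem_centralizer_singleton_iff.2 (mul_inv_eq_iff_eq_mul.1 r)))
    refine mem_subgroupOf.2 (mem_centralizer_singleton_iff.2 (mul_inv_eq_iff_eq_mul.1 ?_))
    push_cast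
    rw [show (g : G) * h * y * ((g : G) * h)⁻¹ = g * (h * y * (h : G)⁻¹) * (g : G)⁻¹ by group, move h hh,
      ← conj_mul_conj, move g hg, (show Commute (g : G) e from mem_centralizer_singleton_iff.1 (hL g.2)).eq,
      mul_inv_cancel_right, mul_assoc, D.inZ_sq he, mul_one]
  have himg : S.map φ = ⊤ := by
    refine (hSn.map φ hφ).eq_bot_or_eq_top.resolve_left fun hbot => ?_
    have hS1 : ∀ x ∈ S, φ x = 1 := fun x hx => Subgroup.mem_bot.1 (hbot ▸ mem_map_of_mem φ hx)
    -- all elements outside square into the kernel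
    have hle : Nat.card (Cfsg.PSU 6 K 2) ≤ 2 := by
      by_cases hall : ∀ x : L, x ∈ S
      · have : Subsingleton (Cfsg.PSU 6 K 2) := ⟨fun a b => by
          obtain ⟨x, rfl⟩ := hφ a
          obtain ⟨x', rfl⟩ := hφ b
          rw [hS1 x (hall x), hS1 x' (hall x')]⟩
        rw [Nat.card_of_subsingleton (1 : Cfsg.PSU 6 K 2)]
        norm_num
      push Not at hall
      obtain ⟨g, hg⟩ := hall
      have hval : ∀ a : Cfsg.PSU 6 K 2, a = 1 ∨ a = φ g := fun a => by
        obtain ⟨x, rfl⟩ := hφ a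
        by_cases hx : x ∈ S
        · exact Or.inl (hS1 x hx)
        · refine Or.inr ?_
          have h1 := hS1 _ (htwo g⁻¹ x (fun h => hg (by simpa using S.inv_mem h)) hx)
          rwa [map_mul, map_inv, inv_mul_eq_one, eq_comm] at h1
      let f : Bool → Cfsg.PSU 6 K 2 := fun b => if b then φ g else 1
      have hf : Function.Surjective f := fun a => (hval a).elim (fun r => ⟨false, r.symm⟩) fun r => ⟨true, r.symm⟩
      have := Nat.card_le_card_of_surjective f hf
      rwa [Nat.card_eq_fintype_card (α := Bool), Fintype.card_bool] at this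
    rw [hcard] at hle
    norm_num at hle
  intro x hx
  have h : φ ⟨x, hx⟩ ∈ S.map φ := himg ▸ mem_top _
  obtain ⟨s, hs, e'⟩ := h
  have h1 : s⁻¹ * (⟨x, hx⟩ : L) ∈ S := hkS _ (by rw [map_mul, map_inv, e', inv_mul_cancel])
  have h2 := mul_mem (show s ∈ S from hs) h1
  rw [mul_inv_cancel_left] at h2
  exact mem_centralizer_singleton_iff.1 (mem_subgroupOf.1 h2)

include D in
/-- The second pair is impossible. -/
theorem beta_mixed (hK : Fintype.card K = 4) (h11 : ¬ 11 ∣ Nat.card (centralizer ({z} : Set G))) {e y : G}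
    (hα : IsAlpha z y) {L : Subgroup G} (hLy : ∀ x ∈ L, Commute x y) (he2 : e * e = 1) (hy2 : y * y = 1)
    (hey : Commute y e) (φ : L →* Cfsg.PSU 6 K 2) (hφ : Function.Surjective φ)
    (hker : ∀ x : L, φ x = 1 ↔ ((x : G) = 1 ∨ (x : G) = e ∨ (x : G) = y ∨ (x : G) = y * e)) : False := by
  classical
  obtain ⟨hs, hcard, -, -⟩ := psu_facts hK
  obtain ⟨O, hO, hOy, hOc⟩ := hα
  set C := centralizer ({y} : Set G)
  haveI hOn : (O.subgroupOf C).Normal := ⟨fun o ho g => (hOc g (mem_centralizer_singleton_iff.1 g.2)).1 o ho⟩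
  have hLC : L ≤ C := fun x hx => mem_centralizer_singleton_iff.2 (hLy x hx).eq
  have hSn : (O.subgroupOf L).Normal := ⟨fun o ho g => (hOc g (hLy g g.2)).1 o ho⟩
  have hbot : (O.subgroupOf L).map φ = ⊥ := by
    refine (hSn.map φ hφ).eq_bot_or_eq_top.resolve_right fun htop => ?_
    have h1 : Nat.card (Cfsg.PSU 6 K 2) ∣ Nat.card (O.subgroupOf L) := by
      rw [← Subgroup.card_top (G := Cfsg.PSU 6 K 2), ← htop]
      exact Subgroup.card_map_dvd _ φ
    have h2 : Nat.card (O.subgroupOf L) ∣ Nat.card O :=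
      Subgroup.card_comap_dvd_of_injective O L.subtype L.subtype_injective
    rw [hcard] at h1
    exact hO.not_two_dvd_nat ((by norm_num : 2 ∣ 9196830720).trans (h1.trans h2))
  have hLO : ∀ x ∈ L, x ∈ O → x = 1 := by
    intro x hxL hxO
    have h1 : φ ⟨x, hxL⟩ = 1 := Subgroup.mem_bot.1 (hbot ▸ mem_map_of_mem φ
      (show (⟨x, hxL⟩ : L) ∈ O.subgroupOf L from hxO))
    refine eq_one_of_odd hO hxO ?_
    rcases (hker _).1 h1 with r | r | r | r <;> rw [show x = _ from r]
    · rw [one_mul]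
    · exact he2
    · exact hy2
    · rw [mul_assoc y e, ← mul_assoc e y e, ← hey.eq, mul_assoc y e e, he2, mul_one, hy2]
  set π := QuotientGroup.mk' (O.subgroupOf C)
  let f : L →* C ⧸ O.subgroupOf C := π.comp (Subgroup.inclusion hLC)
  have hfi : Function.Injective f := (injective_iff_map_eq_one f).2 fun x hx =>
    Subtype.ext (hLO x x.2 ((QuotientGroup.eq_one_iff _).1 hx : (Subgroup.inclusion hLC x) ∈ O.subgroupOf C))
  set Kz := (centralizer ({z} : Set G)).subgroupOf C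
  have htop : Kz.map π = ⊤ := eq_top_iff.2 fun q _ => by
    obtain ⟨g, rfl⟩ := QuotientGroup.mk'_surjective (O.subgroupOf C) q
    obtain ⟨-, h, o, hh, hhy, ho, hg⟩ := hOc g (mem_centralizer_singleton_iff.1 g.2)
    refine ⟨⟨h, mem_centralizer_singleton_iff.2 hhy.eq⟩, mem_centralizer_singleton_iff.2 hh.eq, ?_⟩
    refine (QuotientGroup.mk'_eq_mk' _).2 ⟨⟨o, hOy ho⟩, ho, Subtype.ext hg.symm⟩
  have d1 : Nat.card L ∣ Nat.card (C ⧸ O.subgroupOf C) := by
    rw [← Nat.card_congr (MonoidHom.ofInjective hfi).symm.toEquiv]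
    exact Subgroup.card_subgroup_dvd_card _
  have d2 : Nat.card (C ⧸ O.subgroupOf C) ∣ Nat.card Kz := by
    rw [← Subgroup.card_top (G := C ⧸ O.subgroupOf C), ← htop]
    exact Subgroup.card_map_dvd _ π
  have d3 : Nat.card Kz ∣ Nat.card (centralizer ({z} : Set G)) :=
    Subgroup.card_comap_dvd_of_injective _ C.subtype C.subtype_injective
  have d4 : Nat.card (Cfsg.PSU 6 K 2) ∣ Nat.card L := Subgroup.card_dvd_of_surjective φ hφ
  rw [hcard] at d4
  exact h11 (((by norm_num : 11 ∣ 9196830720).trans d4).trans (d1.trans (d2.trans d3)))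

/-- The outcomes. -/
theorem finish (hK : Fintype.card K = 4) (h11 : ¬ 11 ∣ Nat.card (centralizer ({z} : Set G))) {a0 : G}
    (ha : a0 ∈ D.W) (ha1 : a0 ≠ 1)
    (tri : ∀ e, (e = a0 ∨ e = a0 * z) → IsAlpha z e ∨ IsBeta K D.W z e ∨ IsGamma e) :
    centralizer ({z} : Set G) ⊔ Cfsg.oddCore G = ⊤ ∨ Cfsg.Spor.IsoFi23 G ∨
      (∃ (W : Subgroup G) (hW : W.Normal), Nat.card ↥W = 4 ∧ (∀ w ∈ W, w ^ 2 = 1) ∧
        Nonempty ((G ⧸ W) ≃* MulAut (Cfsg.PSU 6 K 2))) := by
  classical
  haveI : Fact (Nat.Prime 2) := ⟨Nat.prime_two⟩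
  by_cases hγ : IsGamma a0 ∨ IsGamma (a0 * z)
  · rcases hγ with h | h
    · exact Or.inr (Or.inl (D.fi23_of_gamma ha ha1 (Or.inl rfl) h))
    · exact Or.inr (Or.inl (D.fi23_of_gamma ha ha1 (Or.inr rfl) h))
  push Not at hγ
  have hf0 : IsAlpha z (a0 * z) := by
    rcases tri _ (Or.inr rfl) with h | h | h
    · exact h
    · exact absurd (mul_eq_left.1 (D.beta_pair ha ha1 (Or.inr rfl) h)) D.z_ne
    · exact absurd h hγ.2
  have hcz : ∀ {h : G}, Commute h z → h * z * h⁻¹ = z := fun {h} hh => by rw [hh.eq, mul_inv_cancel_right]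
  have hB : ∀ f, f * z ∈ D.W → f ≠ z → IsAlpha z f := by
    intro f hf hne
    have hf1 : f * z ≠ 1 := fun e => hne (by rw [eq_inv_of_mul_eq_one_left e, D.z_inv])
    obtain ⟨h, hh, e⟩ := D.trans_W ha ha1 hf hf1
    have := isAlpha_conj hh hf0
    rwa [← conj_mul_conj, e, hcz hh, mul_assoc, D.z_sq, mul_one] at this
  have ha0 : IsAlpha z a0 ∨ ∀ g, Commute g a0 → g ∈ D.NW := by
    rcases tri _ (Or.inl rfl) with h | h | h
    · exact Or.inl h
    swap
    · exact absurd h hγ.1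
    right
    obtain ⟨y, hy, hy1, hyz, hye, hyez, hconj, L, hL, hLi, heL, hyL, φ, hφ, hker⟩ := h
    rcases hy with hyW | hyW
    · intro g hg
      refine D.mem_NW.2 fun w hw => ?_
      have hga : g * a0 * g⁻¹ = a0 := by rw [hg.eq, mul_inv_cancel_right]
      have hgy : g * y * g⁻¹ ∈ D.W := by
        rcases hconj g hg with r | r <;> rw [r]
        exacts [hyW, mul_mem hyW ha]
      rcases D.W_cases ha ha1 hyW hy1 (Ne.symm hye) hw with r | r | r | r <;> rw [r]
      · simp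
      · rw [hga]; exact ha
      · exact hgy
      · rw [← conj_mul_conj, hga]; exact mul_mem ha hgy
    · exfalso
      have hy' : InZ D.W z y := Or.inr hyW
      exact D.beta_mixed hK h11 (hB y hyW hyz) (D.beta_cent hK (Or.inl ha) hy' hL heL hyL hconj φ hφ hker)
        (D.W_sq a0 ha) (D.inZ_sq hy') (D.inZ_comm (Or.inl ha) (D.inZ_mem hy')) φ hφ hker
  have hA : ∀ a ∈ D.W, a ≠ 1 → ∀ g, Commute g a → Commute (g * z * g⁻¹) z → g ∈ D.NW := by
    intro a haW haW1 g hg hx
    rcases ha0 with h | h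
    · obtain ⟨k, hk, e⟩ := D.trans_W ha ha1 haW haW1
      have hα := isAlpha_conj hk h
      rw [e] at hα
      exact D.H_le_NW (alpha_fix D.z_sq (D.W_comm haW).symm hα hg hx)
    · obtain ⟨k, hk, e⟩ := D.trans_W haW haW1 ha ha1
      have hg' : Commute (k * g * k⁻¹) a0 := e ▸ commute_conj_iff.2 hg
      have := mul_mem (mul_mem (inv_mem (D.H_le_NW hk)) (h _ hg')) (D.H_le_NW hk)
      rwa [show k⁻¹ * (k * g * k⁻¹) * k = g by group] at this
  obtain ⟨S⟩ := D.exists_syl ha ha1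
  have F : Fus D :=
    { not_Az := fun a h1 h2 g => D.not_Az' h1 h2 g
      not_AB := D.not_AB' ha ha1 S
      hA := hA
      hB := fun f hf hne => by
        obtain ⟨O, hO, -, hOc⟩ := hB f hf hne
        exact ⟨O, hO, hOc⟩
      a0 := a0
      a0_mem := ha
      a0_ne := ha1
      T := S.T
      T_two := S.two
      T_odd := S.odd
      T_comm := S.comm }
  have hmain : ∀ g, Commute (g * z * g⁻¹) z → g ∈ D.NW := fun g hg => main F hg
  rcases tri a0 (Or.inl rfl) with hα | hβ | hγ'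
  rotate_left 2
  · exact absurd hγ' hγ.1
  · -- the central involution is isolated
    left
    have hiso : Cfsg.IsIsolatedInvolution z := by
      refine ⟨orderOf_eq_prime (by rw [pow_two]; exact D.z_sq) D.z_ne, fun g hg => ?_⟩
      have hn := D.mem_NW.1 (hmain g hg.symm) a0 ha
      obtain ⟨h, hh, e⟩ := D.trans_W hn (fun e => ha1 (conj_eq_one_iff.1 e)) ha ha1
      have hhg : Commute (h * g) a0 := mul_inv_eq_iff_eq_mul.1 (by
        rw [show h * g * a0 * (h * g)⁻¹ = h * (g * a0 * g⁻¹) * h⁻¹ by group]; exact e)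
      have h2 : Commute (h * g * z * (h * g)⁻¹) z := by
        rw [show h * g * z * (h * g)⁻¹ = h * (g * z * g⁻¹) * h⁻¹ by group]
        exact (hh.mul_left hg.symm).mul_left hh.inv_left
      have := hh.inv_left.mul_left (alpha_fix D.z_sq (D.W_comm ha).symm hα hhg h2)
      rw [inv_mul_cancel_left] at this
      exact hcz this
    refine eq_top_iff.2 fun g _ => ?_
    obtain ⟨o, ho, c, hc', rfl⟩ := IsoApps.exists_mul hiso g
    exact mul_mem (mem_sup_right ho) (mem_sup_left hc')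
  -- the four-group is normal
  right; right
  obtain ⟨y, hy, hy1, hyz, hye, hyez, hconj, L, hL, hLi, heL, hyL, φ, hφ, hker⟩ := hβ
  have hLy := D.beta_cent hK (Or.inl ha) hy hL heL hyL hconj φ hφ hker
  have hyW : y ∈ D.W := hy.resolve_right fun hyW =>
    D.beta_mixed hK h11 (hB y hyW hyz) hLy (D.W_sq a0 ha) (D.inZ_sq hy) (D.inZ_comm (Or.inl ha) (D.inZ_mem hy))
      φ hφ hker
  have hCa : ∀ g, Commute g a0 → g ∈ D.NW := fun g hg => by
    refine D.mem_NW.2 fun w hw => ?_
    have hga : g * a0 * g⁻¹ = a0 := by rw [hg.eq, mul_inv_cancel_right]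
    have hgy : g * y * g⁻¹ ∈ D.W := by
      rcases hconj g hg with r | r <;> rw [r]
      exacts [hyW, mul_mem hyW ha]
    rcases D.W_cases ha ha1 hyW hy1 (Ne.symm hye) hw with r | r | r | r <;> rw [r]
    · simp
    · rw [hga]; exact ha
    · exact hgy
    · rw [← conj_mul_conj, hga]; exact mul_mem ha hgy
  have hCW : ∀ a ∈ D.W, a ≠ 1 → ∀ g, Commute g a → g ∈ D.NW := by
    intro a haW haW1 g hg
    obtain ⟨k, hk, e⟩ := D.trans_W haW haW1 ha ha1
    have := mul_mem (mul_mem (inv_mem (D.H_le_NW hk)) (hCa _ (e ▸ commute_conj_iff.2 hg : Commute (k * g * k⁻¹) a0)))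
      (D.H_le_NW hk)
    rwa [show k⁻¹ * (k * g * k⁻¹) * k = g by group] at this
  have hCB : ∀ f, f * z ∈ D.W → f ≠ z → ∀ g, Commute g f → g ∈ D.NW := by
    intro f hf hne g hg
    obtain ⟨O, hO, hOf, hOc⟩ := hB f hf hne
    obtain ⟨-, h, o, hh, -, ho, rfl⟩ := hOc g hg
    refine mul_mem (D.H_le_NW hh) ?_
    have hf1 : f * z ≠ 1 := fun e => hne (by rw [eq_inv_of_mul_eq_one_left e, D.z_inv])
    have hfz : InZ D.W z f := Or.inr hf
    obtain ⟨b, hb, hb1, hbne⟩ := D.exists_other hf hf1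
    have hzf : Commute z f := (D.J_comm f (D.inZ_mem hfz)).symm
    have hbf : Commute b f := D.inZ_comm hfz (D.W_le hb)
    refine Recog.le_of_fourGroup (H := O) (L := D.NW) (x := z) (y := b) hO D.z_sq (D.W_sq b hb) (D.W_comm hb).eq.symm
      (fun q hq => ?_) (fun q hq => ?_) (fun q hq => ?_) (fun q hq => ?_) (fun q hq => ?_) ho
    · have := (hOc z hzf).1 q hq
      rwa [D.z_inv] at this
    · have := (hOc b hbf).1 q hq
      rwa [D.W_inv hb] at this
    · exact D.H_le_NW (mem_centralizer_singleton_iff.1 hq.2)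
    · exact hCW b hb hb1 q (mem_centralizer_singleton_iff.1 hq.2)
    · have h1 : Commute q (z * b) := mem_centralizer_singleton_iff.1 hq.2
      have h2 : Commute q f := mem_centralizer_singleton_iff.1 (hOf hq.1)
      refine hCW (f * z * b) (mul_mem hf hb) (fun e => hbne ?_) q ?_
      · rw [← D.W_inv hf, eq_inv_of_mul_eq_one_right e]
      · rw [mul_assoc]; exact h2.mul_right h1
  have hCu : ∀ u, InZ D.W z u → u ≠ 1 → ∀ g, Commute g u → g ∈ D.NW := by
    intro u hu hu1 g hg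
    by_cases huz : u = z
    · exact D.H_le_NW (huz ▸ hg)
    rcases hu with h | h
    · exact hCW u h hu1 g hg
    · exact hCB u h huz g hg
  have hTu : ∀ u, InZ D.W z u → u ≠ 1 → ∃ T : Subgroup G, IsPGroup 2 T ∧ Odd T.index ∧
      ∀ t ∈ T, Commute t z ∧ Commute t u := by
    intro u hu hu1
    by_cases huz : u = z
    · exact ⟨S.T, S.two, S.odd, fun t ht => ⟨(S.comm t ht).1, huz ▸ (S.comm t ht).1⟩⟩
    obtain ⟨w, hw, hw1, hwu⟩ : ∃ w ∈ D.W, w ≠ 1 ∧ ∀ t, Commute t z → Commute t w → Commute t u := by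
      rcases hu with h | h
      · exact ⟨u, h, hu1, fun _ _ h' => h'⟩
      · refine ⟨u * z, h, fun e => huz (by rw [eq_inv_of_mul_eq_one_left e, D.z_inv]), fun t ht h' => ?_⟩
        exact (D.Kc_zw (Or.inr h) t ht).2 h'
    obtain ⟨k, hk, e⟩ := D.trans_W ha ha1 hw hw1
    refine ⟨S.T.map (MulAut.conj k).toMonoidHom, S.two.map _, ?_, ?_⟩
    · rw [show (S.T.map (MulAut.conj k).toMonoidHom).index = S.T.index from
        Subgroup.index_map_equiv S.T (MulAut.conj k)]
      exact S.odd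
    · rintro _ ⟨t, ht, rfl⟩
      have h1 : Commute (k * t * k⁻¹) z := (hk.mul_left (S.comm t ht).1).mul_left hk.inv_left
      exact ⟨h1, hwu _ h1 (e ▸ commute_conj_iff.2 (S.comm t ht).2)⟩
  have hTN : S.T ≤ D.NW := fun t ht => D.H_le_NW (S.comm t ht).1
  have hMtop : D.NW = ⊤ := by
    refine fix_top (M := D.NW) (N := D.W) (S := S.T) (a := a0) (z := z)
      (fun w hw => D.H_le_NW (D.W_comm hw)) S.two S.odd hTN (S.J_le (D.W_le ha)) (S.J_le D.z_mem)
      (fun s hs => (S.comm s hs).2.symm) (fun s hs => (S.comm s hs).1.symm) (D.W_sq a0 ha) ha1 D.z_sq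
      (fun m hm n hn => D.mem_NW.1 hm n hn) ha D.z_notW fun u hu2 hu1 hor g hg => ?_
    have huZ : InZ D.W z u := by
      refine hor.imp id fun h => ?_
      have h3 : Commute (z * u) z := D.W_comm h
      have h4 : u = z * (z * u) := by rw [← mul_assoc, D.z_sq, one_mul]
      rwa [h4, mul_assoc, h3.eq, ← mul_assoc, D.z_sq, one_mul]
    have hpg : ∀ d : G, d * d = 1 → IsPGroup 2 (zpowers d) := fun d hd => by
      obtain ⟨j, -, hj⟩ := (Nat.dvd_prime_pow Nat.prime_two).1 (orderOf_dvd_of_pow_eq_one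
        (show d ^ (2 ^ 1) = 1 by rw [pow_one, pow_two]; exact hd))
      exact IsPGroup.of_card (n := j) (by rw [Nat.card_zpowers, hj])
    have hd2 : g * u * g⁻¹ * (g * u * g⁻¹) = 1 := by rw [conj_mul_conj, hu2]; group
    obtain ⟨m, hm, hmc⟩ := sylow_conj_comm (z := z) D.NW S.T (zpowers (g * u * g⁻¹)) hTN S.two S.odd
      (fun t ht => (S.comm t ht).1) (hpg _ hd2) (zpowers_le.2 hg)
    have hd : Commute (m⁻¹ * (g * u * g⁻¹) * m) z := commute_back (hmc _ (mem_zpowers _)).symm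
    set g' := m⁻¹ * g with hg'
    have hzu : Commute (g'⁻¹ * z * g') u := by
      refine commute_back ?_
      rw [hg', show m⁻¹ * g * u * (m⁻¹ * g)⁻¹ = m⁻¹ * (g * u * g⁻¹) * m by group]
      exact hd.symm
    have hq2 : g'⁻¹ * z * g' * (g'⁻¹ * z * g') = 1 := by
      rw [show g'⁻¹ * z * g' * (g'⁻¹ * z * g') = g'⁻¹ * (z * z) * g' by group, D.z_sq]; group
    obtain ⟨T, hT2, hTi, hTc⟩ := hTu u huZ hu1
    obtain ⟨k, hk, hkc⟩ := sylow_conj_comm (z := z) (centralizer ({u} : Set G)) T (zpowers (g'⁻¹ * z * g'))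
      (fun t ht => mem_centralizer_singleton_iff.2 (hTc t ht).2.eq) hT2 hTi (fun t ht => (hTc t ht).1)
      (hpg _ hq2) (zpowers_le.2 (mem_centralizer_singleton_iff.2 hzu.eq))
    have hc : Commute (g' * k * z * (g' * k)⁻¹) z := by
      have h1 := commute_conj_iff (g := g') |>.2 (hkc _ (mem_zpowers _))
      rwa [show g' * (k * z * k⁻¹) * g'⁻¹ = g' * k * z * (g' * k)⁻¹ by group,
        show g' * (g'⁻¹ * z * g') * g'⁻¹ = z by group] at h1
    have hk' := hCu u huZ hu1 k (mem_centralizer_singleton_iff.1 hk)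
    have := mul_mem (mul_mem hm (hmain _ hc)) (inv_mem hk')
    rwa [hg', show m * (m⁻¹ * g * k) * k⁻¹ = g by group] at this
  have hWn : D.W.Normal := ⟨fun w hw g => D.mem_NW.1 (hMtop ▸ mem_top g) w hw⟩
  haveI := hWn
  refine ⟨D.W, hWn, D.W_card, fun w hw => by rw [pow_two]; exact D.W_sq w hw, ?_⟩
  obtain ⟨hs, hcard, haut, hcen⟩ := psu_facts hK
  set C := centralizer ({a0} : Set G)
  have hLW : L ≤ centralizer (D.W : Set G) := fun x hx => mem_centralizer_iff.2 fun w hw => by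
    have hxa : Commute x a0 := mem_centralizer_singleton_iff.1 (hL hx)
    rcases D.W_cases ha ha1 hyW hy1 (Ne.symm hye) hw with r | r | r | r <;> rw [r]
    · simp
    · exact hxa.eq.symm
    · exact (hLy x hx).eq.symm
    · exact (hxa.mul_right (hLy x hx)).eq.symm
  have hay1 : a0 * y ≠ 1 := fun e => hye (by rw [eq_inv_of_mul_eq_one_right e, D.W_inv ha])
  obtain ⟨τ, hτ, hτa, hτy⟩ := D.full a0 ha ha1 y hyW hy1 (Ne.symm hye) a0 ha ha1 (a0 * y) (mul_mem ha hyW) hay1
    fun e => hy1 (mul_eq_left.1 e.symm)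
  have hτC : τ ∈ C := mem_centralizer_singleton_iff.2 (mul_inv_eq_iff_eq_mul.1 hτa)
  have hτn : τ ∉ centralizer (D.W : Set G) := fun h => by
    have h1 : Commute τ y := (mem_centralizer_iff.1 h y hyW).symm
    rw [h1.eq, mul_inv_cancel_right] at hτy
    exact ha1 (mul_eq_right.1 hτy.symm)
  have hCWC : centralizer (D.W : Set G) ≤ C := fun x hx =>
    mem_centralizer_singleton_iff.2 (mem_centralizer_iff.1 hx a0 ha).symm
  have hLeq : L = centralizer (D.W : Set G) := by
    refine le_antisymm hLW fun x hx => ?_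
    by_contra hxL
    obtain ⟨q, hq⟩ := Subgroup.index_eq_two_iff.1 (show (L.subgroupOf C).index = 2 from hLi)
    have h2 : ∀ a b : C, (a : G) ∉ L → (b : G) ∉ L → ((a * b : C) : G) ∈ L := fun a b h1 h2 => by
      have := (Subgroup.mul_mem_iff_of_index_two (show (L.subgroupOf C).index = 2 from hLi) (a := a) (b := b)).2
        ⟨fun h => absurd h h1, fun h => absurd h h2⟩
      exact this
    have hτL : τ ∉ L := fun h => hτn (hLW h)
    have h3 := hLW (h2 ⟨x, hCWC hx⟩ ⟨τ, hτC⟩ hxL hτL)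
    exact hτn (by simpa using mul_mem (inv_mem hx) h3)
  haveI hLn : L.Normal := hLeq ▸ Subgroup.normal_centralizer
  have hzL : z ∈ L := hLeq ▸ mem_centralizer_iff.2 fun w hw => (D.W_comm hw).eq
  have hJL : ∀ j ∈ D.J, j ∈ L := fun j hj => hLeq ▸ mem_centralizer_iff.2 fun w hw => (D.W_cen j hj w hw).eq.symm
  have hWL : D.W ≤ L := fun w hw => hJL w (D.W_le hw)
  have hkerW : φ.ker = D.W.subgroupOf L := by
    ext x
    rw [MonoidHom.mem_ker, hker, mem_subgroupOf]
    constructor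
    · rintro (r | r | r | r) <;> rw [r]
      exacts [one_mem _, ha, hyW, mul_mem hyW ha]
    · intro hw
      rcases D.W_cases ha ha1 hyW hy1 (Ne.symm hye) hw with r | r | r | r
      exacts [Or.inl r, Or.inr (Or.inl r), Or.inr (Or.inr (Or.inl r)),
        Or.inr (Or.inr (Or.inr (r.trans (D.W_comm_W ha hyW).eq)))]
  set π := QuotientGroup.mk' D.W
  set Kq := L.map π
  haveI : Kq.Normal := hLn.map π (QuotientGroup.mk'_surjective _)
  let Φ : L →* Kq := (π.comp L.subtype).codRestrict Kq fun x => ⟨x, x.2, rfl⟩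
  have hΦs : Function.Surjective Φ := by
    rintro ⟨_, x, hx, rfl⟩
    exact ⟨⟨x, hx⟩, rfl⟩
  have hΦk : Φ.ker = φ.ker := by
    ext x
    rw [hkerW, MonoidHom.mem_ker, mem_subgroupOf]
    exact ⟨fun h => (QuotientGroup.eq_one_iff (x : G)).1 (congrArg Subtype.val h),
      fun h => Subtype.ext ((QuotientGroup.eq_one_iff (x : G)).2 h)⟩
  let eK : Kq ≃* Cfsg.PSU 6 K 2 :=
    ((QuotientGroup.quotientMulEquivOfEq hΦk).symm.trans (QuotientGroup.quotientKerEquivOfSurjective Φ hΦs)).symm.trans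
      (QuotientGroup.quotientKerEquivOfSurjective φ hφ)
  let ρ : G ⧸ D.W →* MulAut Kq := MulAut.conjNormal
  have hρ : Function.Injective ρ := by
    rw [injective_iff_map_eq_one]
    intro q hq
    obtain ⟨x, rfl⟩ := QuotientGroup.mk'_surjective D.W q
    have hcomm : ∀ l ∈ L, x * l * x⁻¹ * l⁻¹ ∈ D.W := by
      intro l hl
      have := congrArg Subtype.val (DFunLike.congr_fun hq ⟨π l, l, hl, rfl⟩)
      rw [MulAut.conjNormal_apply, MulAut.one_apply] at this
      refine (QuotientGroup.eq_one_iff _).1 ?_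
      show π (x * l * x⁻¹ * l⁻¹) = 1
      rw [map_mul, map_mul, map_mul, map_inv, map_inv]
      exact mul_inv_eq_one.2 this
    have hxz : Commute x z := by
      have h1 := hcomm z hzL
      rw [D.z_inv] at h1
      by_contra hne
      exact D.not_Az' (Or.inr h1) (fun e => hne (mul_inv_eq_iff_eq_mul.1 e)) x⁻¹ (by group)
    have hxJ : x ∈ D.J := (D.act_J x hxz).1 (LinearEquiv.ext fun v => by
      obtain ⟨j, hj, rfl⟩ := D.pr_surj v
      have h1 : InZ D.W z (x * j * x⁻¹ * j⁻¹) := Or.inl (hcomm j (hJL j hj))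
      have h2 := (D.pr_zero _ (D.inZ_mem h1)).2 h1
      rw [D.pr_mul _ (D.conj_mem hxz hj) _ (inv_mem hj), D.pr_inv hj, D.pr_act x hxz j hj] at h2
      exact eq_of_sum_zero h2)
    refine (QuotientGroup.eq_one_iff x).2 ?_
    have hcx : φ ⟨x, hJL x hxJ⟩ ∈ Subgroup.center (Cfsg.PSU 6 K 2) := mem_center_iff.2 fun a => by
      obtain ⟨l, rfl⟩ := hφ a
      have h1 : φ (⟨x, hJL x hxJ⟩ * l * ⟨x, hJL x hxJ⟩⁻¹ * l⁻¹) = 1 := by
        rw [← MonoidHom.mem_ker, hkerW, mem_subgroupOf]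
        exact hcomm l l.2
      rw [map_mul, map_mul, map_mul, map_inv, map_inv, mul_inv_eq_one] at h1
      exact (mul_inv_eq_iff_eq_mul.1 h1).symm
    rw [hcen, Subgroup.mem_bot] at hcx
    exact (mem_subgroupOf.1 (hkerW ▸ (MonoidHom.mem_ker.2 hcx)) : x ∈ D.W)
  have hcardG : Nat.card G = 3 * Nat.card C := by
    let f : G ⧸ C → {w : D.W // (w : G) ≠ 1} :=
      Quotient.lift (fun g : G => (⟨⟨g * a0 * g⁻¹, hWn.conj_mem a0 ha g⟩, fun e => ha1 (conj_eq_one_iff.1 e)⟩ :
        {w : D.W // (w : G) ≠ 1})) (by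
        intro g k hgk
        replace hgk := QuotientGroup.leftRel_apply.1 hgk
        refine Subtype.ext (Subtype.ext ?_)
        have : Commute (g⁻¹ * k) a0 := mem_centralizer_singleton_iff.1 hgk
        show g * a0 * g⁻¹ = k * a0 * k⁻¹
        calc g * a0 * g⁻¹ = g * ((g⁻¹ * k) * a0 * (g⁻¹ * k)⁻¹) * g⁻¹ := by rw [this.eq, mul_inv_cancel_right]
          _ = _ := by group)
    have hf : Function.Bijective f := by
      constructor
      · intro x x'
        refine Quotient.inductionOn₂ x x' fun g k e => Quotient.sound ?_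
        have e' : g * a0 * g⁻¹ = k * a0 * k⁻¹ :=
          congrArg (fun w : {w : D.W // (w : G) ≠ 1} => ((w : D.W) : G)) e
        show QuotientGroup.leftRel _ g k
        rw [QuotientGroup.leftRel_apply]
        refine mem_centralizer_singleton_iff.2 (mul_inv_eq_iff_eq_mul.1 ?_)
        rw [show g⁻¹ * k * a0 * (g⁻¹ * k)⁻¹ = g⁻¹ * (k * a0 * k⁻¹) * g by group, ← e']
        group
      · rintro ⟨⟨w, hw⟩, hw1⟩
        obtain ⟨h, hh, e⟩ := D.trans_W ha ha1 hw hw1
        exact ⟨Quotient.mk _ h, Subtype.ext (Subtype.ext e)⟩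
    haveI : Fintype D.W := Fintype.ofFinite _
    have h3 := Nat.card_eq_of_bijective f hf
    rw [Nat.card_eq_fintype_card (α := {w : D.W // (w : G) ≠ 1}), Fintype.card_subtype,
      show (Finset.univ.filter fun w : D.W => (w : G) ≠ 1) = Finset.univ.erase 1 by ext w; simp,
      Finset.card_erase_of_mem (Finset.mem_univ _), Finset.card_univ, ← Nat.card_eq_fintype_card (α := D.W),
      D.W_card] at h3
    have h4 := Subgroup.card_eq_card_quotient_mul_card_subgroup C
    rw [h3] at h4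
    exact h4
  have hcardC : Nat.card C = 2 * Nat.card L := by
    have h1 := Subgroup.card_mul_index (L.subgroupOf C)
    rw [show (L.subgroupOf C).index = 2 from hLi, Nat.card_congr (Subgroup.subgroupOfEquivOfLe hL).toEquiv] at h1
    omega
  have hcardL : Nat.card L = 4 * Nat.card (Cfsg.PSU 6 K 2) := by
    rw [Subgroup.card_eq_card_quotient_mul_card_subgroup φ.ker,
      Nat.card_congr (QuotientGroup.quotientKerEquivOfSurjective φ hφ).toEquiv, hkerW,
      Nat.card_congr (Subgroup.subgroupOfEquivOfLe hWL).toEquiv, D.W_card, mul_comm]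
  have hcardQ : Nat.card (G ⧸ D.W) = Nat.card (MulAut Kq) := by
    rw [Nat.card_congr (MulAut.congr eK).toEquiv, haut]
    have h1 := Subgroup.card_eq_card_quotient_mul_card_subgroup D.W
    rw [D.W_card, hcardG, hcardC, hcardL] at h1
    omega
  exact ⟨(MulEquiv.ofBijective ρ ((Nat.bijective_iff_injective_and_card ρ).2 ⟨hρ, hcardQ⟩)).trans
    (MulAut.congr eK)⟩

end Cz

end CfsgLib.Fi23Cent
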