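import Cfsg.Agent.Fi23Cent.Fusion

/-!
Commuting conjugates of the central involution acting inside the unitary group.
-/

set_option autoImplicit false
set_option maxRecDepth 100000
set_option maxHeartbeats 1000000
set_option linter.style.haveILetI false
set_option linter.unusedSectionVars false
set_option linter.unusedVariables false

open scoped Matrix

namespace CfsgLib.Fi23Cent

open CfsgLib CfsgLib.U62Cent Subgroup
open CfsgLib.FiLarge (F4 om omp)
open CfsgLib.Unitary (suMat suMat_mul suMat_one su_ext su_preserves)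

theorem r_comm {a b : U4} (h : a * b = b * a) : R4.r a * R4.r b = R4.r b * R4.r a := by
  rw [← map_mul, h, map_mul]

theorem eq_sq_mul {G : Type*} [Group G] {x : G} (h : x * x = 1) (a : G) : a = x * (x * a) := by
  rw [← mul_assoc, h, one_mul]

theorem perp_span0 : ∀ v : V4, h4 v p0 = 0 →
    (![v 0, v 1, 0, 0] : V4) = v 0 • p0 ∧
      h4 (![0, 0, om * v 2, om * om * v 3] : V4) p0 = 0 ∧ h4 (![0, 0, v 0, 0] : V4) p0 = 0 ∧
      (![0, 0, om * (om * v 2), om * om * (om * om * v 3)] : V4) + ![0, 0, om * v 2, om * om * v 3] +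
        h4 (![0, 0, v 0, 0] : V4) (wv 1 0) • p0 = v := by decide +kernel

theorem LS_span : ∀ v : V4, LS v → LS ![om * v 0, om * v 1, om * om * v 2, om * om * v 3] ∧
    (![om * (om * v 0), om * (om * v 1), om * om * (om * om * v 2), om * om * (om * om * v 3)] : V4) +
      ![om * v 0, om * v 1, om * om * v 2, om * om * v 3] = v := by decide +kernel

theorem LS_preimage : ∀ v : V4, LS v →
    (![(![v 0, 0, v 2, 0] : V4) 1, (![v 0, 0, v 2, 0] : V4) 0, (![v 0, 0, v 2, 0] : V4) 3,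
      (![v 0, 0, v 2, 0] : V4) 2] : V4) + ![v 0, 0, v 2, 0] = v := by decide +kernel

theorem LS_p0 : LS p0 ∧ LS (om • p0) ∧ p0 ≠ 0 := by decide +kernel

namespace Cz

variable {G : Type*} [Group G] {z : G} (D : Cz z)

theorem two_J : IsPGroup 2 D.J := fun a => ⟨2, Subtype.ext (by
  rw [SubgroupClass.coe_pow, Subgroup.coe_one, show (2 : ℕ) ^ 2 = 2 * 2 by norm_num, pow_mul, pow_two (a : G)]
  rcases D.sq_cases a.2 with e | e <;> rw [e, pow_two]
  · rw [one_mul]
  · exact D.z_sq)⟩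

/-- The part of the radical commuting with an element. -/
def CJ (s : G) : Subgroup G := D.J ⊓ centralizer ({s} : Set G)

theorem mem_CJ {s x : G} : x ∈ D.CJ s ↔ x ∈ D.J ∧ Commute x s := by
  rw [CJ, Subgroup.mem_inf, mem_centralizer_singleton_iff]
  rfl

theorem two_CJ (s : G) : IsPGroup 2 (D.CJ s) := D.two_J.to_le inf_le_left

theorem z_CJ {s : G} (hs : Commute s z) : z ∈ D.CJ s := D.mem_CJ.2 ⟨D.z_mem, hs.symm⟩

theorem prC_le {s a : G} (h : ∀ p ∈ D.CJ s, Commute p a) : D.prC s ≤ D.prC a := by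
  rintro _ ⟨j, hj, hc, rfl⟩
  exact ⟨j, hj, h j (D.mem_CJ.2 ⟨hj, hc⟩), rfl⟩

theorem prC_conj_le [Finite G] {h s : G} (hh : Commute h z) :
    Nat.card (D.prC (h * s * h⁻¹)) ≤ Nat.card (D.prC s) := by
  let f : D.prC (h * s * h⁻¹) → D.prC s := fun v => ⟨(D.act h).symm v, by
    obtain ⟨v, j, hj, hc, rfl⟩ := v
    refine ⟨h⁻¹ * j * h⁻¹⁻¹, D.conj_mem hh.inv_left hj, ?_, ?_⟩
    · rw [inv_inv]; exact commute_back hc
    · rw [D.pr_act h⁻¹ hh.inv_left j hj, D.act_inv hh]
      rfl⟩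
  exact Nat.card_le_card_of_injective f fun a b e => Subtype.ext ((D.act h).symm.injective (congrArg Subtype.val e))

theorem inner_of_fix {a : G} (ha : Commute a z) (ha2 : a * a = 1) (M : AddSubgroup V4) (hM : 16 < Nat.card M)
    (h : M ≤ fixd (D.act a)) : ∃ u, D.act a = R4.r u ∧ ∀ m ∈ M, suMat u *ᵥ m = m := by
  rcases D.act_invol a ha (D.act_invol' ha ha2) with ⟨u, e⟩ | hs
  · refine ⟨u, e, fun m hm => ?_⟩
    have h1 : D.act a m = m := h hm
    rwa [e, R4_r] at h1
  · exact absurd h (hs.not_fix M hM)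

/-- An element over the transvection of the base point. -/
theorem tvp_prC {s : G} (hs : Commute s z) (e : D.act s = R4.r (tvp p0)) :
    D.prC s ≤ perp0 ∧ 32 ≤ Nat.card (D.prC s) := by
  classical
  have hW : ∀ w ∈ D.W, Commute s w := (D.act_inner s hs).2 ⟨_, e⟩
  have hfix : ∀ v, D.act s v = v ↔ h4 v p0 = 0 := fun v => by
    rw [e, R4_r, tvp_apply p0_pt, add_eq_left, smul_eq_zero, or_iff_left p0_pt.1]
  refine ⟨fun v hv => (hfix v).1 (D.prC_le_fix hs hv), ?_⟩
  have hle : perp0 ≤ D.ctrS hs hW := by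
    intro v hv
    obtain ⟨h1, h2, h3, h4'⟩ := perp_span0 v hv
    rw [← h4']
    refine add_mem ?_ ?_
    · obtain ⟨h, hh, eh⟩ := D.act_surj g3
      have := D.disp_ctrS hs hW hh ((D.act_inner h hh).2 ⟨_, eh⟩) (by
        rw [e, eh]
        refine r_comm ?_
        rw [← mul_inv_eq_iff_eq_mul, tvp_conj p0_pt, g3_p0]) ((hfix _).2 h2)
      rw [eh, R4_r, g3_apply] at this
      simpa using this
    · have hok : OkU ((1 : F4), (0 : F4), om) := by decide +kernel
      obtain ⟨h, hh, eh⟩ := D.act_surj (hE (1, 0, om))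
      have := D.disp_ctrS hs hW hh ((D.act_inner h hh).2 ⟨_, eh⟩) (by
        rw [e, eh]
        refine r_comm ?_
        rw [← mul_inv_eq_iff_eq_mul, tvp_conj p0_pt, hE_p0 hok]) ((hfix _).2 h3)
      rw [eh, R4_r, hE_apply hok, h3] at this
      simp only [zero_smul, add_zero, mul_zero] at this
      rwa [add_comm (![0, 0, v 0, 0] : V4), add_assoc, v4_self, add_zero] at this
  have := AddSubgroup.card_le_of_le hle
  have h2 := D.ctrS_le hs hW
  rw [card_perp0] at this
  omega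

theorem to_base {a : G} (ha : Commute a z) {p : V4} (hp : IsPt4 p) (e : D.act a = R4.r (tvp p)) :
    ∃ h, Commute h z ∧ D.act (h * a * h⁻¹) = R4.r (tvp p0) := by
  obtain ⟨u, hu⟩ := to_p0 hp
  obtain ⟨h, hh, eh⟩ := D.act_surj u
  exact ⟨h, hh, by rw [D.act_conj hh ha, e, eh, ← map_inv, ← map_mul, ← map_mul, tvp_conj hp, hu]⟩

variable {D} (F : Fus D) [Finite G]
include F

theorem fixed_conj {g : G} {P : Subgroup G} (hP : IsPGroup 2 P) (hc : ∀ p ∈ P, Commute p (g * z * g⁻¹)) :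
    ∃ e0 ∈ D.W, e0 ≠ 1 ∧ ∀ p ∈ P, Commute p (g * e0 * g⁻¹) := by
  obtain ⟨e0, he0, h1, hf⟩ := D.fixed_W (P.comap (MulAut.conj g).toMonoidHom)
    (hP.comap_of_injective _ (MulAut.conj g).injective) (fun q hq => D.H_le_NW (by
      have h := hc _ hq
      exact commute_conj_iff.1 h))
  refine ⟨e0, he0, h1, fun p hp => ?_⟩
  have h := hf (g⁻¹ * p * g) (show g * (g⁻¹ * p * g) * g⁻¹ ∈ P by rwa [show g * (g⁻¹ * p * g) * g⁻¹ = p by group])
  have h2 := h.map (MulAut.conj g).toMonoidHom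
  simpa [mul_assoc] using h2

/-- A conjugate in the radical. -/
theorem J_case {g : G} (hx : Commute (g * z * g⁻¹) z) (hJ : g * z * g⁻¹ ∈ D.J) : g ∈ D.NW := by
  classical
  set x := g * z * g⁻¹ with hxd
  obtain ⟨e0, he0, he01, hfix⟩ := fixed_conj F (g := g) (D.two_CJ x) fun p hp => (D.mem_CJ.1 hp).2
  set e := g * e0 * g⁻¹ with hed
  have hez : Commute e z := (hfix z (D.z_CJ hx)).symm
  have he2 : e * e = 1 := by rw [hed, conj_mul_conj, D.W_sq e0 he0]; group
  have hle := D.prC_le (a := e) hfix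
  have hcard := D.card_prC_J hJ
  obtain ⟨u, hu, hum⟩ := D.inner_of_fix hez he2 (D.prC x) (by omega) (hle.trans (D.prC_le_fix hez))
  have hu1 := fix_hyper u _ hcard hum
  rw [hu1, map_one] at hu
  have heJ := (D.act_J e hez).1 hu
  rcases R4.orth_perp (a := D.pr x) (x := D.pr e) (fun w hw => by
      rw [R4.B_comm]
      exact (D.prC_of_J heJ w).1 (hle ((D.prC_of_J hJ w).2 hw))) with h | h
  · refine key F hx ((D.pr_zero e heJ).1 h) (fun h' => he01 (conj_eq_one_iff.1 h')) ?_ (Or.inl he0) rfl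
    exact ne_z_conj F (Or.inl he0) (fun h' => D.z_notW (h' ▸ he0)) g
  · have hf : D.pr (x * e) = 0 := by rw [D.pr_mul x hJ e heJ, h, two_self]
    have hm : (z * e0) * z ∈ D.W := by
      rwa [mul_assoc, (D.W_comm he0).eq, ← mul_assoc, D.z_sq, one_mul]
    have hne : z * e0 ≠ z := fun h' => he01 (mul_eq_left.1 h')
    refine key F hx ((D.pr_zero _ (mul_mem hJ heJ)).1 hf) ?_ ?_ (Or.inr hm) (conj_mul_conj g z e0).symm
    · rw [hxd, hed, conj_mul_conj]
      exact fun h' => (B_ne F hm hne).1 (conj_eq_one_iff.1 h')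
    · rw [hxd, hed, conj_mul_conj]
      exact ne_z_conj F (Or.inr hm) hne g

/-- A conjugate of a noncentral involution of the four-group in the radical. -/
theorem A_J {g e0 : G} (he0 : e0 ∈ D.W) (he01 : e0 ≠ 1) (hJ : g * e0 * g⁻¹ ∈ D.J) : g * e0 * g⁻¹ ∈ D.W := by
  set e := g * e0 * g⁻¹ with hed
  have hez := D.J_comm e hJ
  obtain ⟨g', hg', hc⟩ := exists_central F (g := g) he0 he01 (D.CJ e) (D.two_CJ e) fun p hp => (D.mem_CJ.1 hp).2
  have hxz : Commute (g' * z * g'⁻¹) z := hc z (D.z_CJ hez)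
  have hle := D.prC_le (a := g' * z * g'⁻¹) (s := e) fun p hp => (hc p hp).symm
  have hcard := D.card_prC_J hJ
  obtain ⟨u, hu, hum⟩ := D.inner_of_fix hxz (by rw [conj_mul_conj, D.z_sq]; group) (D.prC e) (by omega)
    (hle.trans (D.prC_le_fix hxz))
  rw [fix_hyper u _ hcard hum, map_one] at hu
  rw [hed, ← hg']
  exact D.mem_NW.1 (J_case F hxz ((D.act_J _ hxz).1 hu)) _ F.a0_mem

/-- A member over the transvection of the base point. -/
theorem T_case0 {g : G} (hx : Commute (g * z * g⁻¹) z) (hT : D.act (g * z * g⁻¹) = R4.r (tvp p0)) :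
    g ∈ D.NW := by
  classical
  set x := g * z * g⁻¹ with hxd
  obtain ⟨hperp, hbig⟩ := D.tvp_prC hx hT
  obtain ⟨e0, he0, he01, hfix⟩ := fixed_conj F (g := g) (D.two_CJ x) fun p hp => (D.mem_CJ.1 hp).2
  set e := g * e0 * g⁻¹ with hed
  have hez : Commute e z := (hfix z (D.z_CJ hx)).symm
  have he2 : e * e = 1 := by rw [hed, conj_mul_conj, D.W_sq e0 he0]; group
  have hle := D.prC_le (a := e) hfix
  obtain ⟨u, hu, hum⟩ := D.inner_of_fix hez he2 (D.prC x) (by omega) (hle.trans (D.prC_le_fix hez))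
  rcases fix_perp_half u _ hperp hbig hum with hu1 | hu1
  · rw [hu1, map_one] at hu
    have heW := A_J F he0 he01 ((D.act_J e hez).1 hu)
    refine key F hx (Or.inl heW) (fun h' => he01 (conj_eq_one_iff.1 h')) ?_ (Or.inl he0) rfl
    exact fun h' => D.z_notW (h' ▸ heW)
  · exfalso
    rw [hu1] at hu
    have hfJ : x * e ∈ D.J := by
      rw [← D.act_J _ (hx.mul_left hez), D.act_mul _ _ hx hez, hT, hu, ← map_mul, tvp_sq p0_pt, map_one]
    have hm : (z * e0) * z ∈ D.W := by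
      rwa [mul_assoc, (D.W_comm he0).eq, ← mul_assoc, D.z_sq, one_mul]
    have hsub : D.prC (x * e) ≤ D.prC x := by
      rintro _ ⟨j, hj, hc, rfl⟩
      refine ⟨j, hj, olemma F hx hm (fun h' => he01 (mul_eq_left.1 h')) hj ?_, rfl⟩
      rwa [hxd, hed, conj_mul_conj] at hc
    have h1 := D.card_prC_J hfJ
    have h2 := AddSubgroup.card_le_of_le (hsub.trans hperp)
    rw [card_perp0] at h2
    omega

theorem good_conj {g h : G} (hh : Commute h z) : h * g ∈ D.NW ↔ g ∈ D.NW :=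
  Subgroup.mul_mem_cancel_left _ (D.H_le_NW hh)

theorem conj_x {g h : G} (hh : Commute h z) (hx : Commute (g * z * g⁻¹) z) :
    Commute (h * g * z * (h * g)⁻¹) z ∧ h * g * z * (h * g)⁻¹ = h * (g * z * g⁻¹) * h⁻¹ := by
  have e : h * g * z * (h * g)⁻¹ = h * (g * z * g⁻¹) * h⁻¹ := by group
  exact ⟨e ▸ (hh.mul_left hx).mul_left hh.inv_left, e⟩

/-- A member over a transvection. -/
theorem T_case {g : G} (hx : Commute (g * z * g⁻¹) z) {p : V4} (hp : IsPt4 p)
    (hT : D.act (g * z * g⁻¹) = R4.r (tvp p)) : g ∈ D.NW := by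
  obtain ⟨h, hh, e⟩ := D.to_base hx hp hT
  obtain ⟨hx', e'⟩ := conj_x F hh hx
  exact (good_conj F hh).1 (T_case0 F hx' (by rw [e', e]))

/-- No conjugate of an involution of the four-group lies over a transvection. -/
theorem A_tvp {g e0 : G} (he0 : e0 ∈ D.W) (he01 : e0 ≠ 1) (hc : Commute (g * e0 * g⁻¹) z) {p : V4}
    (hp : IsPt4 p) (hT : D.act (g * e0 * g⁻¹) = R4.r (tvp p)) : False := by
  obtain ⟨h, hh, eh⟩ := D.to_base hc hp hT
  set e := h * (g * e0 * g⁻¹) * h⁻¹ with hed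
  have hez : Commute e z := (hh.mul_left hc).mul_left hh.inv_left
  obtain ⟨hperp, hbig⟩ := D.tvp_prC hez eh
  have he' : e = h * g * e0 * (h * g)⁻¹ := by rw [hed]; group
  obtain ⟨g', hg', hcm⟩ := exists_central F (g := h * g) he0 he01 (D.CJ e) (D.two_CJ e) fun p hp =>
    he' ▸ (D.mem_CJ.1 hp).2
  have hxz : Commute (g' * z * g'⁻¹) z := hcm z (D.z_CJ hez)
  have hle := D.prC_le (a := g' * z * g'⁻¹) (s := e) fun p hp => (hcm p hp).symm
  obtain ⟨u, hu, hum⟩ := D.inner_of_fix hxz (by rw [conj_mul_conj, D.z_sq]; group) (D.prC e) (by omega)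
    (hle.trans (D.prC_le_fix hxz))
  have hgood : g' ∈ D.NW := by
    rcases fix_perp_half u _ hperp hbig hum with hu1 | hu1
    · exact J_case F hxz ((D.act_J _ hxz).1 (by rw [hu, hu1, map_one]))
    · exact T_case F hxz p0_pt (by rw [hu, hu1])
  have heW : e ∈ D.W := by
    rw [he', ← hg']
    exact D.mem_NW.1 hgood _ F.a0_mem
  rw [D.act_of_J (D.W_le heW)] at eh
  exact tvp_ne_one p0_pt (R4.inj (eh.symm.trans (map_one _).symm))

/-- The second class. -/
theorem S_case0 {g : G} (hx : Commute (g * z * g⁻¹) z) (hS : D.act (g * z * g⁻¹) = R4.r s0)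
    (hzW : ∀ w ∈ D.W, Commute z (g * w * g⁻¹)) : g ∈ D.NW := by
  classical
  set x := g * z * g⁻¹ with hxd
  have hxx : x * x = 1 := by rw [hxd, conj_mul_conj, D.z_sq]; group
  have hxi : x⁻¹ = x := inv_eq_of_mul_eq_one_right hxx
  have hxW : ∀ w ∈ D.W, Commute x w := (D.act_inner x hx).2 ⟨_, hS⟩
  have hfixLS : ∀ v, D.act x v = v ↔ LS v := fun v => by rw [hS, R4_r]; exact s0_fix v
  -- an element of order three in the centraliser of the conjugate
  obtain ⟨d, hdz, hdx, hdW, hd⟩ : ∃ d, Commute d z ∧ Commute d x ∧ (∀ w ∈ D.W, Commute d w) ∧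
      D.act d = R4.r d3 := by
    obtain ⟨d0, hd0, ed0⟩ := D.act_surj (d3 * d3)
    have hc : Commute (x * (d0 * x * d0⁻¹)) z := hx.mul_left ((hd0.mul_left hx).mul_left hd0.inv_left)
    have hjJ : x * (d0 * x * d0⁻¹) ∈ D.J := by
      rw [← D.act_J _ hc, D.act_mul _ _ hx ((hd0.mul_left hx).mul_left hd0.inv_left), D.act_conj hd0 hx, ed0, hS,
        ← map_inv, ← map_mul, ← map_mul, ← map_mul, show d3 * d3 * s0 * (d3 * d3)⁻¹ = s0 by
          rw [mul_assoc d3 d3 s0, d3_s0, ← mul_assoc d3 s0 d3, d3_s0, mul_assoc s0, mul_inv_cancel_right],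
        s0_sq, map_one]
    generalize hje : x * (d0 * x * d0⁻¹) = j at hjJ
    have hdj : d0 * x * d0⁻¹ = x * j := by rw [← hje]; exact eq_sq_mul hxx _
    have hpj : LS (D.pr j) := by
      have h1 : x * j * x⁻¹ = j⁻¹ := by
        have : x * j * (x * j) = 1 := by rw [← hdj, conj_mul_conj, hxx]; group
        rw [hxi]
        exact (inv_eq_of_mul_eq_one_left (by rwa [mul_assoc (x * j) x j])).symm
      have h2 := D.pr_act x hx j hjJ
      rw [h1, D.pr_inv hjJ] at h2
      exact (hfixLS _).1 h2.symm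
    obtain ⟨u, huJ, hu⟩ := D.pr_surj ![(D.pr j) 0, 0, (D.pr j) 2, 0]
    have hcu : x⁻¹ * u * x * u⁻¹ ∈ D.J := by
      have := mul_mem (D.conj_mem hx.inv_left huJ) (inv_mem huJ)
      rwa [inv_inv] at this
    have hpu : D.pr (x⁻¹ * u * x * u⁻¹) = D.pr j := by
      have h1 : x⁻¹ * u * x = x * u * x⁻¹ := by rw [hxi]
      rw [h1, D.pr_mul _ (D.conj_mem hx huJ) _ (inv_mem huJ), D.pr_act x hx u huJ, D.pr_inv huJ, hS, R4_r,
        s0_apply, hu]
      exact LS_preimage _ hpj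
    have hζ := D.inZ_of_pr hcu hjJ hpu
    generalize hζe : (x⁻¹ * u * x * u⁻¹)⁻¹ * j = ζ at hζ
    have hxj : x * j = u * x * u⁻¹ * ζ := by rw [← hζe]; group
    have hd1z : Commute (u⁻¹ * d0) z := (D.J_comm _ (inv_mem huJ)).mul_left hd0
    have hd1a : D.act (u⁻¹ * d0) = R4.r (d3 * d3) := by
      rw [D.act_mul _ _ (D.J_comm _ (inv_mem huJ)) hd0, D.act_of_J (inv_mem huJ), one_mul, ed0]
    have hd1W := (D.act_inner _ hd1z).2 ⟨_, hd1a⟩
    have hd1 : u⁻¹ * d0 * x * (u⁻¹ * d0)⁻¹ = x * ζ := by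
      rw [show u⁻¹ * d0 * x * (u⁻¹ * d0)⁻¹ = u⁻¹ * (d0 * x * d0⁻¹) * u by group, hdj, hxj,
        show u⁻¹ * (u * x * u⁻¹ * ζ) * u = x * u⁻¹ * (ζ * u) by group, ← (D.inZ_comm hζ huJ).eq]
      group
    have hd1ζ := D.inner_comm hd1z hd1W hζ
    generalize u⁻¹ * d0 = d1 at hd1z hd1a hd1W hd1 hd1ζ
    refine ⟨d1 * d1, hd1z.mul_left hd1z, mul_inv_eq_iff_eq_mul.1 ?_,
      fun w hw => (hd1W w hw).mul_left (hd1W w hw), ?_⟩
    · rw [show d1 * d1 * x * (d1 * d1)⁻¹ = d1 * (d1 * x * d1⁻¹) * d1⁻¹ by group, hd1, ← conj_mul_conj, hd1,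
        hd1ζ.eq, mul_inv_cancel_right, mul_assoc, D.inZ_sq hζ, mul_one]
    · rw [D.act_mul _ _ hd1z hd1z, hd1a, ← map_mul]
      congr 1
      have h3 := d3_cube
      rw [pow_succ, pow_two] at h3
      rw [← mul_assoc, h3, one_mul]
  -- the fixed line comes from the centraliser of the conjugate
  have hprC : ∀ v, LS v → v ∈ D.prC x := by
    intro v hv
    obtain ⟨hw, hsum⟩ := LS_span v hv
    obtain ⟨j, hj, hjw⟩ := D.pr_surj ![om * v 0, om * v 1, om * om * v 2, om * om * v 3]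
    have hkJ : d * j * d⁻¹ ∈ D.J := D.conj_mem hdz hj
    refine ⟨d * j * d⁻¹ * j, mul_mem hkJ hj, ?_, ?_⟩
    · have hδ := D.fix_comm hx hj (by rw [hjw]; exact (hfixLS _).2 hw)
      generalize hδe : x * j * x⁻¹ * j⁻¹ = δ at hδ
      have hdδ := D.inner_comm hdz hdW hδ
      have hkδ := D.inZ_comm hδ hkJ
      have hxj : x * j * x⁻¹ = δ * j := by rw [← hδe]; group
      refine (mul_inv_eq_iff_eq_mul.1 (?_ : x * (d * j * d⁻¹ * j) * x⁻¹ = d * j * d⁻¹ * j)).symm
      rw [show x * (d * j * d⁻¹ * j) * x⁻¹ = x * d * j * (x * d)⁻¹ * (x * j * x⁻¹) by group, ← hdx.eq,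
        show d * x * j * (d * x)⁻¹ = d * (x * j * x⁻¹) * d⁻¹ by group, hxj,
        show d * (δ * j) * d⁻¹ = d * δ * d⁻¹ * (d * j * d⁻¹) by group, hdδ.eq, mul_inv_cancel_right]
      generalize d * j * d⁻¹ = k at hkδ
      rw [← hkδ.eq, show k * δ * (δ * j) = k * (δ * δ) * j by group, D.inZ_sq hδ, mul_one]
    · rw [D.pr_mul _ hkJ _ hj, D.pr_act d hdz j hj, hd, R4_r, d3_apply, hjw]
      exact hsum
  -- every involution of the conjugate four-group fixes the line
  have hW' : ∀ e0 ∈ D.W, ∀ v, LS v → D.act (g * e0 * g⁻¹) v = v := by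
    intro e0 he0 v hv
    obtain ⟨hw, hsum⟩ := LS_span v hv
    obtain ⟨p, hp, hpx, hpw⟩ := hprC _ hw
    have hez : Commute (g * e0 * g⁻¹) z := (hzW e0 he0).symm
    have hk : d * p * d⁻¹ ∈ D.J := D.conj_mem hdz hp
    have hkx : Commute (d * p * d⁻¹) x := (hdx.mul_left hpx).mul_left hdx.inv_left
    suffices h : Commute (d * p * d⁻¹ * p) (g * e0 * g⁻¹) by
      have h1 := D.pr_fix hez (mul_mem hk hp) h.symm
      rw [D.pr_mul _ hk _ hp, D.pr_act d hdz p hp, hd, R4_r, d3_apply, hpw] at h1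
      simp only [Matrix.cons_val_zero, Matrix.cons_val_one, Matrix.cons_val] at h1
      rwa [hsum] at h1
    have hd' : g⁻¹ * d * g ∈ D.NW := D.H_le_NW (commute_back hdx)
    have hpz : Commute (g⁻¹ * p * g) z := commute_back hpx
    have hpd : Commute (g⁻¹ * (d * p * d⁻¹) * g) z := commute_back hkx
    have back : (∀ w ∈ D.W, Commute (g⁻¹ * (d * p * d⁻¹ * p) * g) w) →
        Commute (d * p * d⁻¹ * p) (g * e0 * g⁻¹) := fun h => by
      have h' := (h e0 he0).map (MulAut.conj g).toMonoidHom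
      simpa [mul_assoc] using h'
    refine back ?_
    rw [show g⁻¹ * (d * p * d⁻¹ * p) * g = g⁻¹ * (d * p * d⁻¹) * g * (g⁻¹ * p * g) by group]
    -- the group of commuting elements has a common fixed involution
    obtain ⟨f0, hf0, hf01, hf⟩ := fixed_conj F (g := g) (D.two_CJ x) fun p hp => (D.mem_CJ.1 hp).2
    have hfp : Commute (g⁻¹ * p * g) f0 := commute_back (hf p (D.mem_CJ.2 ⟨hp, hpx⟩))
    have hfk : Commute (g⁻¹ * (d * p * d⁻¹) * g) f0 := commute_back (hf _ (D.mem_CJ.2 ⟨hk, hkx⟩))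
    have ek : g⁻¹ * (d * p * d⁻¹) * g = g⁻¹ * d * g * (g⁻¹ * p * g) * (g⁻¹ * d * g)⁻¹ := by group
    generalize g⁻¹ * d * g = dd at hd' ek
    generalize g⁻¹ * (d * p * d⁻¹) * g = k' at hpd hfk ek
    generalize g⁻¹ * p * g = p' at hpz hfp ek
    obtain ⟨f1, hf1, hf11, hne⟩ := D.exists_other hf0 hf01
    have step : ∀ q, Commute q z → Commute q f0 → (q * f1 * q⁻¹ = f1 ∨ q * f1 * q⁻¹ = f0 * f1) := by
      intro q hq hqf
      rcases D.W_cases hf0 hf01 hf1 hf11 hne.symm (D.W_norm q hq f1 hf1) with r | r | r | r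
      · exact absurd (conj_eq_one_iff.1 r) hf11
      · exact absurd (mul_left_cancel (mul_right_cancel (r.trans (by rw [hqf.eq, mul_inv_cancel_right] :
          f0 = q * f0 * q⁻¹)))) hne
      · exact Or.inl r
      · exact Or.inr r
    have allW : ∀ q, Commute q f0 → q * f1 * q⁻¹ = f1 → ∀ w ∈ D.W, Commute q w := by
      intro q hqf hq1 w hw
      have hq1' : Commute q f1 := mul_inv_eq_iff_eq_mul.1 hq1
      rcases D.W_cases hf0 hf01 hf1 hf11 hne.symm hw with r | r | r | r <;> rw [r]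
      exacts [Commute.one_right q, hqf, hq1', hqf.mul_right hq1']
    have hkn : dd⁻¹ ∈ D.NW := inv_mem hd'
    have same : (∀ w ∈ D.W, Commute p' w) → ∀ w ∈ D.W, Commute k' w := by
      intro h w hw
      have h1 := (h _ (D.mem_NW.1 hkn w hw)).map (MulAut.conj dd).toMonoidHom
      rw [ek]
      simpa [mul_assoc] using h1
    have same' : (∀ w ∈ D.W, Commute k' w) → ∀ w ∈ D.W, Commute p' w := by
      intro h w hw
      have h1 := (h _ (D.mem_NW.1 hd' w hw)).map (MulAut.conj dd⁻¹).toMonoidHom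
      rw [ek] at h1
      simpa [mul_assoc] using h1
    refine allW _ (hfk.mul_left hfp) ?_
    rw [show k' * p' * f1 * (k' * p')⁻¹ = k' * (p' * f1 * p'⁻¹) * k'⁻¹ by group]
    rcases step p' hpz hfp with e1 | e1
    · rw [e1]
      exact mul_inv_eq_iff_eq_mul.2 (same (allW p' hfp e1) f1 hf1).eq
    · rw [e1, ← conj_mul_conj, hfk.eq, mul_inv_cancel_right]
      rcases step k' hpd hfk with e2 | e2
      · have := same' (allW k' hfk e2) f1 hf1
        rw [this.eq, mul_inv_cancel_right] at e1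
        exact absurd (mul_eq_right.1 e1.symm) hf01
      · rw [e2, ← mul_assoc, D.W_sq f0 hf0, one_mul]
  -- the images of the centre of the conjugate radical
  obtain ⟨hl0, hl1, hp00⟩ := LS_p0
  have hWu : ∀ e0 ∈ D.W, ∃ u, D.act (g * e0 * g⁻¹) = R4.r u := by
    intro e0 he0
    have hez : Commute (g * e0 * g⁻¹) z := (hzW e0 he0).symm
    rcases D.act_invol _ hez (D.act_invol' hez (by rw [conj_mul_conj, D.W_sq e0 he0]; group)) with h | h
    · exact h
    · exact absurd (h p0 (hW' e0 he0 p0 hl0) (hW' e0 he0 _ hl1)) hp00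
  by_contra hng
  let ζ : D.W × Bool → G := fun p => if p.2 then (p.1 : G) * z else p.1
  have hζZ : ∀ p, InZ D.W z (ζ p) := by
    rintro ⟨w, b⟩
    cases b
    · exact Or.inl w.2
    · refine Or.inr ?_
      show (w : G) * z * z ∈ D.W
      rw [mul_assoc, D.z_sq, mul_one]
      exact w.2
  have hall : ∀ a, InZ D.W z a → Commute (g * a * g⁻¹) z ∧
      ∃ u, D.act (g * a * g⁻¹) = R4.r u ∧ ∀ v, LS v → suMat u *ᵥ v = v := by
    intro a ha
    have key1 : ∀ e0 ∈ D.W, Commute (g * e0 * g⁻¹) z := fun e0 he0 => (hzW e0 he0).symm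
    rcases ha with ha | ha
    · obtain ⟨u, hu⟩ := hWu a ha
      exact ⟨key1 a ha, u, hu, fun v hv => by rw [← R4_r, ← hu]; exact hW' a ha v hv⟩
    · obtain ⟨u, hu⟩ := hWu _ ha
      have e : g * a * g⁻¹ = g * (a * z) * g⁻¹ * x := by
        rw [hxd, conj_mul_conj, mul_assoc a z z, D.z_sq, mul_one]
      refine ⟨e ▸ (key1 _ ha).mul_left hx, u * s0, ?_, fun v hv => ?_⟩
      · rw [e, D.act_mul _ _ (key1 _ ha) hx, hu, hS, map_mul]
      · rw [suMat_mul, ← Matrix.mulVec_mulVec, (s0_fix v).2 hv, ← R4_r, ← hu]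
        exact hW' _ ha v hv
  have bad : ∀ a, InZ D.W z a → a ≠ 1 → ∀ u, D.act (g * a * g⁻¹) = R4.r u →
      u ≠ 1 ∧ ∀ p, IsPt4 p → u ≠ tvp p := by
    intro a ha ha1 u hu
    have hac := (hall a ha).1
    rcases ha with ha | ha
    · refine ⟨fun h => hng ?_, fun p hp h => A_tvp F ha ha1 hac hp (h ▸ hu)⟩
      rw [h, map_one] at hu
      have heW := A_J F ha ha1 ((D.act_J _ hac).1 hu)
      exact key F hx (Or.inl heW) (fun h' => ha1 (conj_eq_one_iff.1 h'))
        (fun h' => D.z_notW (h' ▸ heW)) (Or.inl ha) rfl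
    · by_cases haz : a = z
      · subst haz
        have : u = s0 := R4.inj (hu.symm.trans hS)
        rw [this]
        refine ⟨fun h => ?_, fun p hp h => tvp_ne_s0 hp 1 (by rw [h]; group)⟩
        have := congrFun (show suMat s0 *ᵥ (![1, 0, 0, 0] : V4) = ![1, 0, 0, 0] by
          rw [h, suMat_one, Matrix.one_mulVec]) 0
        rw [s0_apply] at this
        simp at this
      have hsub : D.prC (g * a * g⁻¹) ≤ D.prC x := by
        rintro _ ⟨j, hj, hc, rfl⟩
        exact ⟨j, hj, olemma F hx ha haz hj hc, rfl⟩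
      have hsmall : Nat.card (D.prC x) ≤ 16 := by
        have h := AddSubgroup.card_le_of_le (show D.prC x ≤ LSg from
          fun v hv => (hfixLS v).1 (D.prC_le_fix hx hv))
        rwa [card_LSg] at h
      have hle := AddSubgroup.card_le_of_le hsub
      refine ⟨fun h => ?_, fun p hp h => ?_⟩
      · rw [h, map_one] at hu
        have := D.card_prC_J ((D.act_J _ hac).1 hu)
        omega
      · obtain ⟨h', hh', e'⟩ := D.to_base hac hp (h ▸ hu)
        have h1 := (D.tvp_prC ((hh'.mul_left hac).mul_left hh'.inv_left) e').2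
        have h2 := D.prC_conj_le (s := g * a * g⁻¹) hh'
        omega
  choose U hU hUfix using fun p => (hall (ζ p) (hζZ p)).2
  haveI : Fintype D.W := Fintype.ofFinite _
  have hmul : ∀ p q, ∃ r, ζ p * ζ q = ζ r := by
    rintro ⟨v, b⟩ ⟨w, c⟩
    have hvz := D.W_comm v.2
    have hwz := D.W_comm w.2
    cases b <;> cases c
    · exact ⟨(v * w, false), rfl⟩
    · exact ⟨(v * w, true), (mul_assoc _ _ _).symm⟩
    · refine ⟨(v * w, true), ?_⟩
      show (v : G) * z * w = (v : G) * w * z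
      rw [mul_assoc, hwz.symm.eq, ← mul_assoc]
    · refine ⟨(v * w, false), ?_⟩
      show (v : G) * z * (w * z) = (v : G) * w
      rw [mul_assoc, ← mul_assoc z, hwz.symm.eq, mul_assoc (w : G), D.z_sq, mul_one]
  have hUmul : ∀ p q r, ζ p * ζ q = ζ r → U p * U q = U r := fun p q r hr => R4.inj (by
    rw [map_mul, ← hU, ← hU, ← hU, ← D.act_mul _ _ (hall _ (hζZ p)).1 (hall _ (hζZ q)).1, conj_mul_conj, hr])
  have hζinj : Function.Injective ζ := by
    rintro ⟨v, b⟩ ⟨w, c⟩ h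
    cases b <;> cases c <;> simp only [ζ, Bool.false_eq_true, if_false, if_true] at h
    · rw [Subtype.ext h]
    · exact absurd (show z = (w : G)⁻¹ * v by rw [h]; group) fun h' =>
        D.z_notW ((congrArg (· ∈ D.W) h').mpr (mul_mem (inv_mem w.2) v.2))
    · exact absurd (show z = (v : G)⁻¹ * w by rw [← h]; group) fun h' =>
        D.z_notW ((congrArg (· ∈ D.W) h').mpr (mul_mem (inv_mem v.2) w.2))
    · rw [Subtype.ext (mul_right_cancel h)]
  have hUinj : Function.Injective U := by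
    intro p q h
    obtain ⟨r, hr⟩ := hmul p q
    by_contra hne
    have hr1 : ζ r ≠ 1 := fun e => hne (hζinj (by
      rw [← hr] at e
      rw [eq_inv_of_mul_eq_one_left e, inv_eq_of_mul_eq_one_right (D.inZ_sq (hζZ q))]))
    have hU1 : U q * U q = 1 := R4.inj (by
      rw [map_mul, map_one, ← hU, ← D.act_mul _ _ (hall _ (hζZ q)).1 (hall _ (hζZ q)).1, conj_mul_conj,
        D.inZ_sq (hζZ q), mul_one, mul_inv_cancel, D.act_one])
    exact (bad _ (hζZ r) hr1 _ (hU r)).1 (by rw [← hUmul p q r hr, h, hU1])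
  obtain ⟨a, ha, p, hp, hap⟩ := exists_tvp (Finset.univ.image U)
    (by rw [Finset.card_image_of_injective _ hUinj, Finset.card_univ, Fintype.card_prod, ← Nat.card_eq_fintype_card,
      D.W_card, Fintype.card_bool])
    (fun a ha b hb => by
      obtain ⟨p, -, rfl⟩ := Finset.mem_image.1 ha
      obtain ⟨q, -, rfl⟩ := Finset.mem_image.1 hb
      obtain ⟨r, hr⟩ := hmul p q
      exact Finset.mem_image.2 ⟨r, Finset.mem_univ r, (hUmul p q r hr).symm⟩)
    (fun a ha => by obtain ⟨p, -, rfl⟩ := Finset.mem_image.1 ha; exact hUfix p)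
  obtain ⟨q, -, rfl⟩ := Finset.mem_image.1 ha
  by_cases hq1 : ζ q = 1
  · have h := hU q
    rw [hq1, mul_one, mul_inv_cancel, D.act_one, hap] at h
    exact tvp_ne_one hp (R4.inj (h.symm.trans (map_one _).symm))
  · exact (bad _ (hζZ q) hq1 _ (hU q)).2 p hp hap

/-- Conjugates commuting with both four-groups. -/
theorem inner_good {g : G} (hx : Commute (g * z * g⁻¹) z) (hxW : ∀ w ∈ D.W, Commute (g * z * g⁻¹) w)
    (hzW : ∀ w ∈ D.W, Commute z (g * w * g⁻¹)) : g ∈ D.NW := by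
  obtain ⟨u, hu⟩ := (D.act_inner _ hx).1 hxW
  have hu2 : u * u = 1 := R4.inj (by
    rw [map_mul, map_one, ← hu]
    exact D.act_invol' hx (by rw [conj_mul_conj, D.z_sq]; group))
  by_cases h1 : u = 1
  · rw [h1, map_one] at hu
    exact J_case F hx ((D.act_J _ hx).1 hu)
  rcases invol_cases hu2 h1 with ⟨p, hp, rfl⟩ | ⟨k, hk⟩
  · exact T_case F hx hp hu
  · obtain ⟨h, hh, eh⟩ := D.act_surj k
    obtain ⟨hx', e'⟩ := conj_x F hh hx
    refine (good_conj F hh).1 (S_case0 F hx' ?_ fun w hw => ?_)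
    · rw [e', D.act_conj hh hx, hu, eh, ← map_inv, ← map_mul, ← map_mul, hk]
    · have h1 := (hzW w hw).map (MulAut.conj h).toMonoidHom
      have hzh : h * z * h⁻¹ = z := by rw [hh.eq, mul_inv_cancel_right]
      rw [show h * g * w * (h * g)⁻¹ = h * (g * w * g⁻¹) * h⁻¹ by group]
      have h2 : Commute (h * z * h⁻¹) (h * (g * w * g⁻¹) * h⁻¹) := h1
      rwa [hzh] at h2

end Cz

end CfsgLib.Fi23Cent
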