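import Cfsg.Agent.U62Cent.ExtBasic

/-!
Maps of the natural module of the unitary group fixing large subgroups.
-/

set_option autoImplicit false
set_option maxRecDepth 100000
set_option maxHeartbeats 1000000
set_option synthInstance.maxSize 1024
set_option linter.style.haveILetI false
set_option linter.unusedSectionVars false

open scoped Matrix

namespace CfsgLib.Fi23Cent

open CfsgLib CfsgLib.U62Cent
open CfsgLib.FiLarge (F4 om omp)
open CfsgLib.Unitary (suMat suMat_mul suMat_one su_ext su_preserves)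


instance decLS (x : V4) : Decidable (LS x) := inferInstanceAs (Decidable (x 0 = x 1 ∧ x 2 = x 3))

/-- The vectors fixed by a map. -/
def fixd (f : V4 ≃ₗ[ZMod 2] V4) : AddSubgroup V4 where
  carrier := {v | f v = v}
  zero_mem' := map_zero f
  add_mem' := fun {a b} ha hb => show f (a + b) = a + b by rw [map_add, (ha : f a = a), (hb : f b = b)]
  neg_mem' := fun {a} ha => show f (-a) = -a by rw [map_neg, (ha : f a = a)]

theorem mem_fixd {f : V4 ≃ₗ[ZMod 2] V4} {v : V4} : v ∈ fixd f ↔ f v = v := Iff.rfl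

/-- A map is not linear over the larger field: only zero is fixed with its multiple. -/
def Semi (f : V4 ≃ₗ[ZMod 2] V4) : Prop := ∀ v, f v = v → f (om • v) = om • v → v = 0

theorem card_V4 : Nat.card V4 = 256 := R4.card

theorem om_ne : om ≠ 0 := by decide +kernel

/-- A large subgroup contains a multiple of one of its vectors. -/
theorem exists_pair (M : AddSubgroup V4) (h : 16 < Nat.card M) : ∃ v, v ≠ 0 ∧ v ∈ M ∧ om • v ∈ M := by
  by_contra hc
  push Not at hc
  let f : M × M → V4 := fun p => (p.1 : V4) + om • (p.2 : V4)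
  have hf : Function.Injective f := by
    rintro ⟨a, b⟩ ⟨a', b'⟩ e
    simp only [f] at e
    have h2 : ((a : V4) + a') = om • ((b : V4) + b') := by
      rw [smul_add]
      linear_combination (norm := module) e + (v4_self ((a' : V4))) - v4_self (om • (b : V4))
    have hb : (b : V4) + b' = 0 := by
      by_contra hb
      exact hc _ hb (add_mem b.2 b'.2) (h2 ▸ add_mem a.2 a'.2)
    rw [hb, smul_zero] at h2
    exact Prod.ext (Subtype.ext (eq_of_sum_zero h2)) (Subtype.ext (eq_of_sum_zero hb))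
  have h1 := Nat.card_le_card_of_injective f hf
  rw [Nat.card_prod, card_V4] at h1
  nlinarith

/-- A map which is not linear fixes at most sixteen vectors. -/
theorem Semi.not_fix {f : V4 ≃ₗ[ZMod 2] V4} (hf : Semi f) (M : AddSubgroup V4) (h : 16 < Nat.card M) :
    ¬ M ≤ fixd f := fun hle => by
  obtain ⟨v, hv0, hv, hov⟩ := exists_pair M h
  exact hv0 (hf v (hle hv) (hle hov))

theorem card_perp : Nat.card {w : V4 // h4 w p0 = 0} = 64 := by
  rw [Nat.card_eq_fintype_card]
  decide +kernel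

/-- The orthogonal of the base point. -/
def perp0 : AddSubgroup V4 where
  carrier := {w | h4 w p0 = 0}
  zero_mem' := show h4 (0 : V4) p0 = 0 by decide +kernel
  add_mem' := fun {a b} ha hb => show h4 (a + b) p0 = 0 by
    rw [h4_add_left, (ha : h4 a p0 = 0), (hb : h4 b p0 = 0), add_zero]
  neg_mem' := fun {a} ha => by rwa [neg_eq_of_add_eq_zero_left (v4_self a)]

theorem mem_perp0 {w : V4} : w ∈ perp0 ↔ h4 w p0 = 0 := Iff.rfl

theorem card_perp0 : Nat.card perp0 = 64 := card_perp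

theorem smul_perp0 {w : V4} (c : F4) (h : w ∈ perp0) : c • w ∈ perp0 := show h4 (c • w) p0 = 0 by
  rw [h4_smul_left, (h : h4 w p0 = 0), mul_zero]

/-- A linear map fixing half of an invariant subgroup fixes all of it. -/
theorem fix_of_half (u : U4) (U M : AddSubgroup V4) (hU : ∀ w ∈ U, om • w ∈ U) (hMU : M ≤ U)
    (hc : Nat.card U ≤ 2 * Nat.card M) (hM : ∀ m ∈ M, suMat u *ᵥ m = m) {w : V4} (hw : w ∈ U) :
    suMat u *ᵥ w = w := by
  classical
  have key : ∀ (c : F4) (x : V4), c * c * c = 1 → c • x ∈ M → suMat u *ᵥ x = x := fun c x hc' hx => by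
    have h := hM _ hx
    rw [Matrix.mulVec_smul] at h
    exact smul_right_injective V4 (fun e => by rw [e, mul_zero] at hc'; exact zero_ne_one hc') h
  have two : ∀ a ∈ U, ∀ b ∈ U, a ∈ M ∨ b ∈ M ∨ a + b ∈ M := by
    intro a ha b hb
    by_contra hc'
    push Not at hc'
    obtain ⟨na, nb, nab⟩ := hc'
    let g : M × Fin 3 → U := fun p => match p.2 with
      | 0 => ⟨p.1, hMU p.1.2⟩
      | 1 => ⟨a + p.1, add_mem ha (hMU p.1.2)⟩
      | 2 => ⟨b + p.1, add_mem hb (hMU p.1.2)⟩
    have hg : Function.Injective g := by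
      rintro ⟨m, i⟩ ⟨n, j⟩ e
      have e' := congrArg Subtype.val e
      fin_cases i <;> fin_cases j <;> simp only [g] at e' <;> try dsimp at e'
      · exact Prod.ext (Subtype.ext e') rfl
      · refine absurd ?_ na
        rw [show a = (m : V4) - n by rw [e']; abel]; exact sub_mem m.2 n.2
      · refine absurd ?_ nb
        rw [show b = (m : V4) - n by rw [e']; abel]; exact sub_mem m.2 n.2
      · refine absurd ?_ na
        rw [show a = (n : V4) - m by rw [← e']; abel]; exact sub_mem n.2 m.2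
      · exact Prod.ext (Subtype.ext (add_left_cancel e')) rfl
      · refine absurd ?_ nab
        rw [show a + b = (n : V4) - m + (b + b) by rw [← sub_eq_zero]; linear_combination (norm := abel) e',
          v4_self, add_zero]
        exact sub_mem n.2 m.2
      · refine absurd ?_ nb
        rw [show b = (n : V4) - m by rw [← e']; abel]; exact sub_mem n.2 m.2
      · refine absurd ?_ nab
        rw [show a + b = (m : V4) - n + (b + b) by rw [← sub_eq_zero]; linear_combination (norm := abel) -e',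
          v4_self, add_zero]
        exact sub_mem m.2 n.2
      · exact Prod.ext (Subtype.ext (add_left_cancel e')) rfl
    have h1 := Nat.card_le_card_of_injective g hg
    rw [Nat.card_prod, Nat.card_fin] at h1
    have h2 : 0 < Nat.card M := Nat.card_pos
    omega
  have ho : om * om * om = 1 := by decide +kernel
  rcases two w hw (om • w) (hU w hw) with h | h | h
  · exact hM w h
  · exact key om w ho h
  · refine key (1 + om) w (by decide +kernel) ?_
    rwa [add_smul, one_smul]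

/-- A linear map fixing a hyperplane is trivial. -/
theorem fix_hyper (u : U4) (M : AddSubgroup V4) (hc : 128 ≤ Nat.card M) (hM : ∀ m ∈ M, suMat u *ᵥ m = m) :
    u = 1 := su_ext fun x => by
  rw [suMat_one, Matrix.one_mulVec]
  refine fix_of_half u ⊤ M (fun _ _ => trivial) le_top ?_ hM trivial
  rw [AddSubgroup.card_top, card_V4]
  omega

theorem wv_perp0 (a b : F4) : wv a b ∈ perp0 := (h4_p0_wv a b).1

/-- A linear map fixing half of the orthogonal of the base point. -/
theorem fix_perp_half (u : U4) (M : AddSubgroup V4) (hMU : M ≤ perp0) (hc : 32 ≤ Nat.card M)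
    (hM : ∀ m ∈ M, suMat u *ᵥ m = m) : u = 1 ∨ u = tvp p0 := by
  have key : ∀ w ∈ perp0, suMat u *ᵥ w = w := fun w hw =>
    fix_of_half u perp0 M (fun v hv => smul_perp0 om hv) hMU (by rw [card_perp0]; omega) hM hw
  exact fix_perp (key p0 p0_pt.2) (key _ (wv_perp0 1 0)) (key _ (wv_perp0 0 1))

/-- The fixed vectors of the standard involution as a subgroup. -/
def LSg : AddSubgroup V4 where
  carrier := {w | LS w}
  zero_mem' := ⟨rfl, rfl⟩
  add_mem' := fun {a b} ha hb => ⟨by show a 0 + b 0 = a 1 + b 1; rw [ha.1, hb.1],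
    by show a 2 + b 2 = a 3 + b 3; rw [ha.2, hb.2]⟩
  neg_mem' := fun {a} ha => by rwa [neg_eq_of_add_eq_zero_left (v4_self a)]

theorem mem_LSg {w : V4} : w ∈ LSg ↔ LS w := Iff.rfl

theorem card_LSg : Nat.card LSg = 16 := by
  rw [show Nat.card LSg = Nat.card {w : V4 // w 0 = w 1 ∧ w 2 = w 3} from rfl, Nat.card_eq_fintype_card]
  decide +kernel

theorem smul_LSg {w : V4} (c : F4) (h : w ∈ LSg) : c • w ∈ LSg :=
  ⟨by show c * w 0 = c * w 1; rw [(h : LS w).1], by show c * w 2 = c * w 3; rw [(h : LS w).2]⟩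

/-- The first and third base vectors. -/
def e0v : V4 := ![1, 0, 0, 0]
def e2v : V4 := ![0, 0, 1, 0]

/-- The coordinates of a map fixing the vectors of the standard involution. -/
noncomputable def trip (u : U4) : F4 × F4 × F4 :=
  ((suMat u *ᵥ e0v) 1, (suMat u *ᵥ e2v) 3, (suMat u *ᵥ e0v) 2)

theorem split_LS : ∀ x : V4, x = (x 0 + x 1) • e0v + (x 2 + x 3) • e2v + ![x 1, x 1, x 3, x 3] ∧
    LS ![x 1, x 1, x 3, x 3] := by decide +kernel

theorem shape_LS : ∀ y : V4, h4 y p0 = 1 → h4 y p1 = 0 → h4 y y = 1 →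
    (y 1 = 0 ∨ y 1 = 1) ∧ y = e0v + ![y 1, y 1, y 2, y 2] := by decide +kernel

theorem shape_LS' : ∀ y : V4, h4 y p0 = 0 → h4 y p1 = 1 → h4 y y = 1 →
    (y 3 = 0 ∨ y 3 = 1) ∧ y = e2v + ![y 0, y 0, y 3, y 3] := by decide +kernel

theorem cross_LS : ∀ a b c d : F4, h4 (e0v + ![a, a, b, b]) (e2v + ![c, c, d, d]) = 0 → c = b * b := by
  decide +kernel

theorem e_facts : h4 e0v p0 = 1 ∧ h4 e0v p1 = 0 ∧ h4 e0v e0v = 1 ∧ h4 e2v p0 = 0 ∧ h4 e2v p1 = 1 ∧
    h4 e2v e2v = 1 ∧ h4 e0v e2v = 0 ∧ LS p0 ∧ LS p1 := by decide +kernel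

/-- The two images are determined by the coordinates. -/
theorem fixLS_images {u : U4} (h : ∀ w, LS w → suMat u *ᵥ w = w) :
    ((trip u).1 = 0 ∨ (trip u).1 = 1) ∧ ((trip u).2.1 = 0 ∨ (trip u).2.1 = 1) ∧
      suMat u *ᵥ e0v = e0v + ![(trip u).1, (trip u).1, (trip u).2.2, (trip u).2.2] ∧
      suMat u *ᵥ e2v = e2v + ![(trip u).2.2 * (trip u).2.2, (trip u).2.2 * (trip u).2.2, (trip u).2.1, (trip u).2.1] := by
  obtain ⟨f1, f2, f3, f4, f5, f6, f7, l0, l1⟩ := e_facts
  have k := fun x y => su_h4 u x y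
  obtain ⟨a1, a2⟩ := shape_LS (suMat u *ᵥ e0v) (by rw [← h p0 l0, k, f1]) (by rw [← h p1 l1, k, f2])
    (by rw [k, f3])
  obtain ⟨b1, b2⟩ := shape_LS' (suMat u *ᵥ e2v) (by rw [← h p0 l0, k, f4]) (by rw [← h p1 l1, k, f5])
    (by rw [k, f6])
  have hc := cross_LS _ _ _ _ (by rw [← a2, ← b2, k, f7])
  refine ⟨a1, b1, a2, ?_⟩
  rw [hc] at b2
  exact b2

theorem fixLS_ext {u v : U4} (hu : ∀ w, LS w → suMat u *ᵥ w = w) (hv : ∀ w, LS w → suMat v *ᵥ w = w)
    (h : trip u = trip v) : u = v := su_ext fun x => by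
  obtain ⟨hx, hl⟩ := split_LS x
  rw [hx]
  simp only [Matrix.mulVec_add, Matrix.mulVec_smul, hu _ hl, hv _ hl, (fixLS_images hu).2.2.1,
    (fixLS_images hu).2.2.2, (fixLS_images hv).2.2.1, (fixLS_images hv).2.2.2, h]

theorem trip_mul {u v : U4} (hu : ∀ w, LS w → suMat u *ᵥ w = w) (hv : ∀ w, LS w → suMat v *ᵥ w = w) :
    trip (u * v) = trip u + trip v := by
  have l : ∀ a b : F4, LS ![a, a, b, b] := fun a b => ⟨rfl, rfl⟩
  obtain ⟨-, -, v0, v2⟩ := fixLS_images hv
  obtain ⟨-, -, u0, u2⟩ := fixLS_images hu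
  simp only [trip, suMat_mul, ← Matrix.mulVec_mulVec]
  rw [show suMat v *ᵥ e0v = _ from v0, show suMat v *ᵥ e2v = _ from v2]
  simp only [Matrix.mulVec_add, hu _ (l _ _)]
  simp [trip, e0v, e2v]

/-- The five points of the fixed line. -/
def linePts : Fin 5 → V4 := ![p0, p1, p0 + p1, p0 + om • p1, p0 + (om * om) • p1]

theorem linePts_pt : ∀ i, IsPt4 (linePts i) ∧ ∀ w, LS w → h4 w (linePts i) = 0 := by decide +kernel

theorem trip_tvp : ∀ i, ((e0v + h4 e0v (linePts i) • linePts i) 1, (e2v + h4 e2v (linePts i) • linePts i) 3,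
    (e0v + h4 e0v (linePts i) • linePts i) 2) =
      ![((1 : F4), (0 : F4), (0 : F4)), (0, 1, 0), (1, 1, 1), (1, 1, om), (1, 1, om * om)] i := by decide +kernel

theorem tvp_fixLS (i : Fin 5) {w : V4} (hw : LS w) : suMat (tvp (linePts i)) *ᵥ w = w := by
  rw [tvp_apply (linePts_pt i).1, (linePts_pt i).2 w hw, zero_smul, add_zero]

/-- The values admitted. -/
def R16 : Finset (F4 × F4 × F4) :=
  (({0, 1} : Finset F4) ×ˢ (({0, 1} : Finset F4) ×ˢ (Finset.univ : Finset F4)))

theorem five_avoid : ∀ t ∈ R16, ∀ t' ∈ R16, t + t' ∈ R16 := by decide +kernel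

/-- Eight maps closed under products fixing the line contain a transvection. -/
theorem exists_tvp (S : Finset U4) (hc : S.card = 8) (hm : ∀ a ∈ S, ∀ b ∈ S, a * b ∈ S)
    (hfix : ∀ a ∈ S, ∀ w, LS w → suMat a *ᵥ w = w) : ∃ a ∈ S, ∃ p, IsPt4 p ∧ a = tvp p := by
  classical
  by_contra hno
  push Not at hno
  set T := S.image trip with hT
  have hTc : T.card = 8 := by
    rw [hT, Finset.card_image_of_injOn fun a ha b hb e => fixLS_ext (hfix a ha) (hfix b hb) e, hc]
  have hTR : ∀ t ∈ T, t ∈ R16 := by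
    intro t ht
    obtain ⟨a, ha, rfl⟩ := Finset.mem_image.1 ht
    obtain ⟨h1, h2, -, -⟩ := fixLS_images (hfix a ha)
    simp [R16, h1, h2]
  have hTadd : ∀ s ∈ T, ∀ t ∈ T, s + t ∈ T := by
    intro s hs t ht
    obtain ⟨a, ha, rfl⟩ := Finset.mem_image.1 hs
    obtain ⟨b, hb, rfl⟩ := Finset.mem_image.1 ht
    exact Finset.mem_image.2 ⟨a * b, hm a ha b hb, trip_mul (hfix a ha) (hfix b hb)⟩
  have hv : ∀ i, ![((1 : F4), (0 : F4), (0 : F4)), (0, 1, 0), (1, 1, 1), (1, 1, om), (1, 1, om * om)] i ∉ T := by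
    intro i hi
    obtain ⟨a, ha, e⟩ := Finset.mem_image.1 hi
    refine hno a ha _ (linePts_pt i).1 (fixLS_ext (hfix a ha) (fun w hw => tvp_fixLS i hw) ?_)
    rw [e]
    simp only [trip, tvp_apply (linePts_pt i).1]
    exact (trip_tvp i).symm
  have two : ∀ a ∈ R16, ∀ b ∈ R16, a ∉ T → b ∉ T → a + b ∈ T := by
    intro a ha b hb na nb
    have hd : Disjoint T (T.image fun t => a + t) := by
      refine Finset.disjoint_left.2 fun x hx hx' => ?_
      obtain ⟨t, ht, rfl⟩ := Finset.mem_image.1 hx'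
      have h := hTadd _ hx t ht
      rw [add_assoc, show t + t = 0 from (by decide +kernel : ∀ t : F4 × F4 × F4, t + t = 0) t, add_zero] at h
      exact na h
    have hu : T ∪ (T.image fun t => a + t) = R16 := by
      refine Finset.eq_of_subset_of_card_le (Finset.union_subset hTR ?_) ?_
      · intro x hx
        obtain ⟨t, ht, rfl⟩ := Finset.mem_image.1 hx
        exact five_avoid a ha t (hTR t ht)
      · rw [Finset.card_union_of_disjoint hd, Finset.card_image_of_injective _ (add_right_injective a), hTc]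
        decide +kernel
    rcases Finset.mem_union.1 (hu.symm ▸ hb) with h | h
    · exact absurd h nb
    · obtain ⟨t, ht, rfl⟩ := Finset.mem_image.1 h
      rwa [← add_assoc, show a + a = 0 from (by decide +kernel : ∀ t : F4 × F4 × F4, t + t = 0) a, zero_add]
  have r : ∀ i, ![((1 : F4), (0 : F4), (0 : F4)), (0, 1, 0), (1, 1, 1), (1, 1, om), (1, 1, om * om)] i ∈ R16 := by
    decide +kernel
  have e01 := two _ (r 0) _ (r 1) (hv 0) (hv 1)
  have e23 := two _ (r 2) _ (r 3) (hv 2) (hv 3)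
  have h := hTadd _ e01 _ e23
  rw [(by decide +kernel : ![((1 : F4), (0 : F4), (0 : F4)), (0, 1, 0), (1, 1, 1), (1, 1, om), (1, 1, om * om)] 0 +
    ![((1 : F4), (0 : F4), (0 : F4)), (0, 1, 0), (1, 1, 1), (1, 1, om), (1, 1, om * om)] 1 +
    (![((1 : F4), (0 : F4), (0 : F4)), (0, 1, 0), (1, 1, 1), (1, 1, om), (1, 1, om * om)] 2 +
    ![((1 : F4), (0 : F4), (0 : F4)), (0, 1, 0), (1, 1, 1), (1, 1, om), (1, 1, om * om)] 3) =
    ![((1 : F4), (0 : F4), (0 : F4)), (0, 1, 0), (1, 1, 1), (1, 1, om), (1, 1, om * om)] 4)] at h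
  exact hv 4 h

end CfsgLib.Fi23Cent
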