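import Cfsg.Agent.Fi23Cent.QuotTri

/-!
The theorem, given the theorem for the quotient.
-/

set_option autoImplicit false
set_option maxRecDepth 100000
set_option maxHeartbeats 1000000
set_option linter.style.haveILetI false
set_option linter.unusedSectionVars false
set_option linter.unusedVariables false

namespace CfsgLib.Fi23Cent

open CfsgLib CfsgLib.U62Cent Subgroup

attribute [local instance] central_normal

universe u v

/-- The theorem on the centraliser with extraspecial radical times a group of order two. -/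
def Cent22 (X : Type u) [Group X] [Finite X] (x : X) (F : Type*) [Field F] [Fintype F] (K : Type v) [Field K]
    [Fintype K] : Prop :=
  orderOf x = 2 →
    (∃ A E : Subgroup ↥(centralizer ({x} : Set X)),
      Cfsg.IsInternalDirectProduct A E (Cfsg.pCore 2 ↥(centralizer ({x} : Set X))) ∧ Nat.card A = 2 ∧
        Cfsg.IsExtraspecial 2 E ∧ Nat.card E = 2 ^ 9) →
    (∀ zc : ↥(centralizer ({x} : Set X)), (zc : X) = x →
      ⁅Cfsg.pCore 2 ↥(centralizer ({x} : Set X)), Cfsg.pCore 2 ↥(centralizer ({x} : Set X))⁆ = zpowers zc) →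
    centralizer ((Cfsg.pCore 2 ↥(centralizer ({x} : Set X))) : Set ↥(centralizer ({x} : Set X))) ≤
      Cfsg.pCore 2 ↥(centralizer ({x} : Set X)) →
    (∀ [(Cfsg.pCore 2 ↥(centralizer ({x} : Set X))).Normal],
      Nonempty ((↥(centralizer ({x} : Set X)) ⧸ Cfsg.pCore 2 ↥(centralizer ({x} : Set X))) ≃*
        MulAut (Cfsg.PSp 2 F))) →
    centralizer ({x} : Set X) ⊔ Cfsg.oddCore X = ⊤ ∨
      (∃ z₁ : X, orderOf z₁ = 2 ∧ z₁ ∉ zpowers x ∧ (∃ h₁ : z₁ ∈ centralizer ({x} : Set X),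
          (⟨z₁, h₁⟩ : ↥(centralizer ({x} : Set X))) ∈ Cfsg.pCore 2 ↥(centralizer ({x} : Set X)) ∧
          ∀ j ∈ Cfsg.pCore 2 ↥(centralizer ({x} : Set X)), j * ⟨z₁, h₁⟩ = ⟨z₁, h₁⟩ * j) ∧ (zpowers z₁).Normal ∧
        ∃ (G₀ : Subgroup X) (hz₁ : z₁ ∈ G₀), G₀.index = 2 ∧
          ∃ hn : ((zpowers z₁).subgroupOf G₀).Normal,
            Nonempty ((↥G₀ ⧸ (zpowers z₁).subgroupOf G₀) ≃* Cfsg.PSU 6 K 2)) ∨
      Cfsg.Spor.IsoFi22 X

/-- The three cases. -/
theorem main {G : Type u} [Group G] [Finite G] {z : G} {F : Type*} [Field F] [Fintype F]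
    (hF : Fintype.card F = 3) {K : Type v} [Field K] [Fintype K] (hK : Fintype.card K = 4) (P : Pre z F)
    (h11 : ¬ 11 ∣ Nat.card ↥(centralizer ({z} : Set G)))
    (h22 : ∀ (X : Type u) [Group X] [Finite X] (x : X), Cent22 X x F K) :
    centralizer ({z} : Set G) ⊔ Cfsg.oddCore G = ⊤ ∨ Cfsg.Spor.IsoFi23 G ∨
      (∃ (W : Subgroup G) (hW : W.Normal), Nat.card ↥W = 4 ∧ (∀ w ∈ W, w ^ 2 = 1) ∧
        Nonempty ((G ⧸ W) ≃* MulAut (Cfsg.PSU 6 K 2))) := by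
  obtain ⟨D, hJ⟩ := P.exists_cz hF
  obtain ⟨a0, ha, ha1⟩ : ∃ a ∈ D.W, a ≠ 1 := by
    by_contra h
    push Not at h
    have h4 := D.W_card
    rw [show D.W = ⊥ from (Subgroup.eq_bot_iff_forall _).2 h, Subgroup.card_bot] at h4
    omega
  refine D.finish hK h11 ha ha1 fun e he => ?_
  obtain ⟨⟨Q⟩, -, he1, -, he2⟩ := exists_qfacts (D := D) ha ha1 he
  obtain ⟨hcore, hAE, hd, hC, hiso⟩ := quot_hyp P D hF hJ ha ha1 he Q
  rcases h22 (Qt e) Q.zq Q.zq_ord hAE hd hC hiso with h | ⟨z₁, ho, hn1, hc, hn2, G₀, hz₁, hi, hn, ⟨ψ⟩⟩ | h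
  · exact Or.inl (alpha_of_cover he2 he1 Q h)
  · refine Or.inr (Or.inl (beta_of_pair D ha ha1 he Q ?_ z₁ ho hn1 hc hn2 G₀ hz₁ hi hn ψ))
    rw [hJ]
    exact hcore
  · exact Or.inr (Or.inr h)

end CfsgLib.Fi23Cent
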