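import Cfsg.Agent.Fi23Cent.Inner
import Mathlib.GroupTheory.Perm.Sign

/-!
A conjugate commuting with the central involution centralises the four-group.
-/

set_option autoImplicit false
set_option maxRecDepth 100000
set_option maxHeartbeats 1000000
set_option linter.style.haveILetI false
set_option linter.unusedSectionVars false
set_option linter.unusedVariables false

namespace CfsgLib.Fi23Cent

open CfsgLib CfsgLib.U62Cent Subgroup

namespace Cz

variable {G : Type*} [Group G] {z : G} (D : Cz z)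

theorem conj_W_mem [Finite G] (n : D.NW) (w : D.W) : (n : G) * w * (n : G)⁻¹ ∈ D.W := D.mem_NW.1 n.2 _ w.2

/-- The permutation of the four-group induced by conjugation. -/
def rho [Finite G] : D.NW →* Equiv.Perm D.W where
  toFun n :=
    { toFun := fun w => ⟨(n : G) * w * (n : G)⁻¹, D.conj_W_mem n w⟩
      invFun := fun w => ⟨((n⁻¹ : D.NW) : G) * w * ((n⁻¹ : D.NW) : G)⁻¹, D.conj_W_mem n⁻¹ w⟩
      left_inv := fun w => Subtype.ext (by push_cast; group)
      right_inv := fun w => Subtype.ext (by push_cast; group) }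
  map_one' := Equiv.ext fun w => Subtype.ext (by
    show ((1 : D.NW) : G) * w * ((1 : D.NW) : G)⁻¹ = w
    push_cast; group)
  map_mul' m n := Equiv.ext fun w => Subtype.ext (by
    show ((m * n : D.NW) : G) * w * ((m * n : D.NW) : G)⁻¹ = (m : G) * ((n : G) * w * (n : G)⁻¹) * (m : G)⁻¹
    push_cast; group)

/-- An involution in the derived group of the normaliser centralises the four-group. -/
theorem comm_fix [Finite G] {c n1 n2 : G} (h1 : n1 ∈ D.NW) (h2 : n2 ∈ D.NW) (hc : Commute c z) (hc2 : c * c = 1)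
    (e : n1 * n2 * n1⁻¹ * n2⁻¹ = c) : ∀ w ∈ D.W, Commute c w := by
  classical
  haveI : Fintype D.W := Fintype.ofFinite _
  by_contra hn
  push Not at hn
  obtain ⟨w, hw, hn⟩ := hn
  have hw1 : w ≠ 1 := fun e => hn (e ▸ Commute.one_right c)
  have hvW : c * w * c⁻¹ ∈ D.W := D.W_norm c hc w hw
  have hv1 : c * w * c⁻¹ ≠ 1 := fun e => hw1 (conj_eq_one_iff.1 e)
  have hvw : c * w * c⁻¹ ≠ w := fun e => hn (mul_inv_eq_iff_eq_mul.1 e)
  have hcv : c * (c * w * c⁻¹) * c⁻¹ = w := by
    rw [show c * (c * w * c⁻¹) * c⁻¹ = c * c * w * (c * c)⁻¹ by group, hc2]; group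
  have hcN := D.H_le_NW hc
  have hswap : D.rho ⟨c, hcN⟩ = Equiv.swap ⟨w, hw⟩ ⟨c * w * c⁻¹, hvW⟩ := by
    refine Equiv.ext fun u => Subtype.ext ?_
    show c * (u : G) * c⁻¹ = _
    rcases D.W_cases hw hw1 hvW hv1 hvw.symm u.2 with r | r | r | r
    · rw [Equiv.swap_apply_of_ne_of_ne (fun e => hw1 ((congrArg Subtype.val e).symm.trans r))
        (fun e => hv1 ((congrArg Subtype.val e).symm.trans r)), r]
      group
    · rw [show u = ⟨w, hw⟩ from Subtype.ext r, Equiv.swap_apply_left]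
    · rw [show u = ⟨c * w * c⁻¹, hvW⟩ from Subtype.ext r, Equiv.swap_apply_right]
      exact hcv
    · have n1 : (u : G) ≠ w := fun e => hv1 (mul_eq_left.1 (r.symm.trans e))
      have n2 : (u : G) ≠ c * w * c⁻¹ := fun e => hw1 (mul_eq_right.1 (r.symm.trans e))
      rw [Equiv.swap_apply_of_ne_of_ne (fun e => n1 (congrArg Subtype.val e))
        (fun e => n2 (congrArg Subtype.val e)), r, ← conj_mul_conj, hcv]
      exact D.W_comm_W hvW hw
  have hsign : Equiv.Perm.sign (D.rho ⟨c, hcN⟩) = -1 := by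
    rw [hswap, Equiv.Perm.sign_swap]
    exact fun e => hvw (congrArg Subtype.val e).symm
  have heq : (⟨c, hcN⟩ : D.NW) = ⟨n1, h1⟩ * ⟨n2, h2⟩ * ⟨n1, h1⟩⁻¹ * ⟨n2, h2⟩⁻¹ := Subtype.ext e.symm
  rw [heq, map_mul, map_mul, map_mul, map_mul, map_mul, map_mul, map_inv, map_inv, map_inv, map_inv] at hsign
  revert hsign
  generalize Equiv.Perm.sign (D.rho ⟨n1, h1⟩) = a
  generalize Equiv.Perm.sign (D.rho ⟨n2, h2⟩) = b
  revert a b
  decide

variable {D} (F : Fus D) [Finite G]
include F

/-- The centre commutes with the conjugate four-group. -/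
theorem z_cent {g : G} (hx : Commute (g * z * g⁻¹) z) : ∀ w ∈ D.W, Commute z (g * w * g⁻¹) := by
  classical
  set x := g * z * g⁻¹ with hxd
  have hxx : x * x = 1 := by rw [hxd, conj_mul_conj, D.z_sq]; group
  have hxi : x⁻¹ = x := inv_eq_of_mul_eq_one_right hxx
  set N : V4 → V4 := fun v => v + D.act x v with hN
  have hact2 : ∀ v, D.act x (D.act x v) = v := fun v => by
    show (D.act x * D.act x) v = v
    rw [D.act_invol' hx hxx]
    rfl
  have hNadd : ∀ v v', N (v + v') = N v + N v' := fun v v' => by simp only [hN, map_add]; abel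
  have hBact : ∀ v v', R4.B (D.act x v) (D.act x v') = R4.B v v' := fun v v' => by
    have h1 := R4.q_add (D.act x v) (D.act x v')
    rw [← map_add, D.act_q hx, D.act_q hx, D.act_q hx, R4.q_add v v'] at h1
    exact add_left_cancel h1.symm
  have hiso : ∀ v v', R4.B (N v) (N v') = 0 := fun v v' => by
    have h1 := hBact v (D.act x v')
    rw [hact2] at h1
    simp only [hN, R4.B_add_left, R4.B_add_right, hBact, h1]
    exact (by decide : ∀ a b : ZMod 2, a + b + (b + a) = 0) _ _
  -- the hyperplane giving commuting conjugates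
  let K : AddSubgroup V4 :=
    { carrier := {v | R4.q (N v) = 0}
      zero_mem' := show R4.q (N 0) = 0 by simp [hN]
      add_mem' := fun {a b} ha hb => show R4.q (N (a + b)) = 0 by
        rw [hNadd, R4.q_add, (ha : R4.q (N a) = 0), (hb : R4.q (N b) = 0), hiso]
        decide
      neg_mem' := fun {a} ha => by rwa [neg_eq_of_add_eq_zero_left (two_self a)] }
  have hK : 128 ≤ Nat.card K := by
    by_cases hall : ∀ v, v ∈ K
    · rw [show K = ⊤ from eq_top_iff.2 fun v _ => hall v, AddSubgroup.card_top, card_V4]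
      norm_num
    push Not at hall
    obtain ⟨v0, hv0⟩ := hall
    let f : V4 → K × Bool := fun v =>
      if h : v ∈ K then (⟨v, h⟩, true) else (⟨v + v0, show R4.q (N (v + v0)) = 0 by
        rw [hNadd, R4.q_add, hiso, zmod2_ne _ h, zmod2_ne _ hv0]; decide⟩, false)
    have hf : Function.Injective f := by
      intro a b e
      simp only [f] at e
      split_ifs at e with h1 h2 h2
      · exact congrArg (fun p : K × Bool => (p.1 : V4)) e
      · exact absurd (congrArg Prod.snd e) (by simp)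
      · exact absurd (congrArg Prod.snd e) (by simp)
      · exact add_right_cancel (congrArg (fun p : K × Bool => (p.1 : V4)) e)
    have h1 := Nat.card_le_card_of_injective f hf
    rw [Nat.card_prod, Nat.card_eq_fintype_card (α := Bool), Fintype.card_bool, card_V4] at h1
    omega
  -- the displacement
  let U : G → G := fun k => x * (k * x * k⁻¹)
  have hU : ∀ k ∈ D.J, U k ∈ D.J ∧ D.pr (U k) = N (D.pr k) := by
    intro k hk
    have e : U k = x * k * x⁻¹ * k⁻¹ := by simp only [U, hxi]; group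
    refine ⟨e ▸ mul_mem (D.conj_mem hx hk) (inv_mem hk), ?_⟩
    rw [e, D.pr_mul _ (D.conj_mem hx hk) _ (inv_mem hk), D.pr_inv hk, D.pr_act x hx k hk, add_comm]
  have hUK : ∀ k ∈ D.J, D.pr k ∈ K → U k * U k = 1 ∧ Commute (U k) x := by
    intro k hk hv
    obtain ⟨hJ, hp⟩ := hU k hk
    have h2 : U k * U k = 1 := (D.invol_iff hJ).2 (by rw [hp]; exact hv)
    refine ⟨h2, ?_⟩
    have h3 : x * U k * x⁻¹ = (U k)⁻¹ := by
      simp only [U, _root_.mul_inv_rev, hxi, inv_inv]
      rw [← mul_assoc x x, hxx, one_mul]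
      group
    rw [inv_eq_of_mul_eq_one_right h2] at h3
    exact (mul_inv_eq_iff_eq_mul.1 h3).symm
  let Tk : Subgroup G := D.J ⊓ D.NW.map (MulAut.conj g).toMonoidHom
  let Tb : AddSubgroup V4 :=
    { carrier := {v | ∃ k ∈ Tk, D.pr k = v}
      zero_mem' := ⟨1, one_mem _, D.pr_one⟩
      add_mem' := by
        rintro _ _ ⟨i, hi, rfl⟩ ⟨j, hj, rfl⟩
        exact ⟨i * j, mul_mem hi hj, D.pr_mul i hi.1 j hj.1⟩
      neg_mem' := fun {v} hv => by rwa [neg_eq_of_add_eq_zero_left (two_self v)] }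
  have hinner : ∀ k ∈ D.J, D.pr k ∈ K → (∀ w ∈ D.W, Commute (g⁻¹ * U k * g) w) → D.pr k ∈ Tb := by
    intro k hk hv hW
    refine ⟨k, ⟨hk, g⁻¹ * k * g, ?_, show g * (g⁻¹ * k * g) * g⁻¹ = k by group⟩, rfl⟩
    have hUx := (hUK k hk hv).2
    set g2 := g⁻¹ * k * g with hg2
    have e1 : g2 * z * g2⁻¹ = z * (g⁻¹ * U k * g) := by
      rw [hg2]
      simp only [U, hxd]
      rw [show z * (g⁻¹ * (g * z * g⁻¹ * (k * (g * z * g⁻¹) * k⁻¹)) * g) =
        z * z * (g⁻¹ * k * g * z * (g⁻¹ * k * g)⁻¹) by group, D.z_sq, one_mul]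
    have hUz : Commute (g⁻¹ * U k * g) z := commute_back hUx
    have hyW : ∀ w ∈ D.W, Commute (g2 * z * g2⁻¹) w := fun w hw => e1 ▸ (D.W_comm hw).symm.mul_left (hW w hw)
    refine inner_good F (e1 ▸ (Commute.refl z).mul_left hUz) hyW fun w hw => ?_
    -- the element squares into the centre
    have hk2 : Commute (g2 * g2) z := by
      rw [hg2, show g⁻¹ * k * g * (g⁻¹ * k * g) = g⁻¹ * (k * k) * g by group]
      refine commute_back ?_
      rcases D.sq_cases hk with e | e <;> rw [e]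
      exacts [Commute.one_left _, hx.symm]
    have e2 : g2 * (g2 * z * g2⁻¹) * g2⁻¹ = z := by
      rw [show g2 * (g2 * z * g2⁻¹) * g2⁻¹ = g2 * g2 * z * (g2 * g2)⁻¹ by group, hk2.eq, mul_inv_cancel_right]
    have h2 : Commute (g2 * (g2 * z * g2⁻¹) * g2⁻¹) (g2 * w * g2⁻¹) := commute_conj_iff.2 (hyW w hw)
    rwa [e2] at h2
  -- two vectors outside
  have houter : ∀ k ∈ D.J, D.pr k ∈ K → D.pr k ∉ Tb →
      Commute (g⁻¹ * U k * g) z ∧ g⁻¹ * U k * g * (g⁻¹ * U k * g) = 1 ∧
        ¬ ∀ w ∈ D.W, Commute (g⁻¹ * U k * g) w := by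
    intro k hk hv hn
    refine ⟨commute_back (hUK k hk hv).2, ?_, fun h => hn (hinner k hk hv h)⟩
    rw [show g⁻¹ * U k * g * (g⁻¹ * U k * g) = g⁻¹ * (U k * U k) * g by group, (hUK k hk hv).1]
    group
  have hpair : ∀ v ∈ K, v ∉ Tb → ∀ v' ∈ K, v' ∉ Tb → v + v' ∉ Tb → R4.B v (N v') = 1 := by
    intro v hv hvn v' hv' hvn' hvv
    refine zmod2_ne _ fun hB => ?_
    obtain ⟨i, hi, rfl⟩ := D.pr_surj v
    obtain ⟨j, hj, rfl⟩ := D.pr_surj v'
    obtain ⟨hiJ, hip⟩ := hU i hi
    obtain ⟨hjJ, hjp⟩ := hU j hj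
    have hc : Commute (U i) (U j) := (D.comm_iff hiJ hjJ).2 (by rw [hip, hjp]; exact hiso _ _)
    have hcj : Commute i (U j) := (D.comm_iff hi hjJ).2 (by rw [hjp]; exact hB)
    obtain ⟨ai, ai2, ain⟩ := houter i hi hv hvn
    obtain ⟨aj, aj2, ajn⟩ := houter j hj hv' hvn'
    have hij : U (i * j) = U i * U j := by
      have e : U (i * j) = U i * (i * U j * i⁻¹) := by
        simp only [U]
        rw [show x * (i * x * i⁻¹) * (i * (x * (j * x * j⁻¹)) * i⁻¹) = x * (i * (x * x) * (j * x * j⁻¹) * i⁻¹) by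
          group, hxx]
        group
      rw [e, hcj.eq, mul_inv_cancel_right]
    have hvK : D.pr (i * j) ∈ K := by rw [D.pr_mul i hi j hj]; exact add_mem hv hv'
    obtain ⟨-, -, hn⟩ := houter (i * j) (mul_mem hi hj) hvK (by rwa [D.pr_mul i hi j hj])
    apply hn
    have hc' : Commute (g⁻¹ * U i * g) (g⁻¹ * U j * g) := by
      have := hc.map (MulAut.conj g⁻¹).toMonoidHom
      simpa using this
    intro w hw
    rw [hij, show g⁻¹ * (U i * U j) * g = g⁻¹ * U i * g * (g⁻¹ * U j * g) by group]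
    exact D.two_move ai aj hc' ai2 ain ajn aj2 w hw
  -- the good elements do not commute
  by_cases hT : ∀ a ∈ Tb, ∀ b ∈ Tb, R4.B a b = 0
  · exfalso
    have hTc := R4.isotropic_bound Tb hT
    haveI := Fintype.ofFinite V4
    let KS : Finset V4 := Finset.univ.filter (· ∈ K)
    let TS : Finset V4 := Finset.univ.filter (· ∈ Tb)
    have hKS : KS.card = Nat.card K := by
      rw [show Nat.card K = Nat.card {v : V4 // v ∈ K} from rfl, Nat.card_eq_fintype_card, Fintype.card_subtype]
    have hTS : TS.card = Nat.card Tb := by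
      rw [show Nat.card Tb = Nat.card {v : V4 // v ∈ Tb} from rfl, Nat.card_eq_fintype_card, Fintype.card_subtype]
    obtain ⟨v1, hv1⟩ : (KS \ TS).Nonempty := by
      rw [← Finset.card_pos]
      have := Finset.le_card_sdiff TS KS
      omega
    obtain ⟨hv1K, hv1T⟩ := Finset.mem_sdiff.1 hv1
    simp only [KS, TS, Finset.mem_filter, Finset.mem_univ, true_and] at hv1K hv1T
    let S2 : Finset V4 := KS \ (TS ∪ TS.image (v1 + ·))
    have hS2 : ∀ v ∈ S2, v ∈ K ∧ R4.B v1 (N v) = 1 := by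
      intro v hv
      obtain ⟨hvK, hvn⟩ := Finset.mem_sdiff.1 hv
      simp only [KS, Finset.mem_filter, Finset.mem_univ, true_and] at hvK
      refine ⟨hvK, hpair v1 hv1K hv1T v hvK (fun h => hvn (Finset.mem_union_left _ ?_))
        (fun h => hvn (Finset.mem_union_right _ (Finset.mem_image.2 ⟨v1 + v, ?_, ?_⟩)))⟩
      · simpa [TS] using h
      · simpa [TS] using h
      · rw [← add_assoc, two_self, zero_add]
    have h96 : Nat.card K ≤ S2.card + 32 := by
      have h1 := Finset.le_card_sdiff (TS ∪ TS.image (v1 + ·)) KS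
      have h2 := Finset.card_union_le TS (TS.image (v1 + ·))
      have h3 := Finset.card_image_le (s := TS) (f := (v1 + ·))
      have h4 : S2.card = (KS \ (TS ∪ TS.image (v1 + ·))).card := rfl
      omega
    obtain ⟨s0', hs0⟩ : S2.Nonempty := by rw [← Finset.card_pos]; omega
    have hdis : Disjoint S2 (S2.image (· + s0')) := by
      refine Finset.disjoint_left.2 fun v hv hv' => ?_
      obtain ⟨u, hu, rfl⟩ := Finset.mem_image.1 hv'
      have h := (hS2 _ hv).2
      rw [hNadd, R4.B_add_right, (hS2 u hu).2, (hS2 s0' hs0).2] at h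
      exact absurd h (by decide)
    have hsub : S2 ∪ S2.image (· + s0') ⊆ KS := by
      refine Finset.union_subset Finset.sdiff_subset fun v hv => ?_
      obtain ⟨u, hu, rfl⟩ := Finset.mem_image.1 hv
      simpa [KS] using add_mem (hS2 u hu).1 (hS2 s0' hs0).1
    have h5 := Finset.card_le_card hsub
    rw [Finset.card_union_of_disjoint hdis, Finset.card_image_of_injective _ (add_left_injective s0')] at h5
    omega
  · push Not at hT
    obtain ⟨_, ⟨k, hk, rfl⟩, _, ⟨l, hl, rfl⟩, hB⟩ := hT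
    obtain ⟨hkJ, n1, hn1, rfl⟩ := hk
    obtain ⟨hlJ, n2, hn2, rfl⟩ := hl
    have hkl := (D.comm_cases hkJ hlJ).resolve_left fun e =>
      hB ((D.comm_iff hkJ hlJ).1 (mul_inv_eq_iff_eq_mul.1 (mul_inv_eq_one.1 e)))
    have e : n1 * n2 * n1⁻¹ * n2⁻¹ = g⁻¹ * z * g := by
      rw [← hkl]
      show _ = g⁻¹ * (g * n1 * g⁻¹ * (g * n2 * g⁻¹) * (g * n1 * g⁻¹)⁻¹ * (g * n2 * g⁻¹)⁻¹) * g
      group
    have hcz : Commute (g⁻¹ * z * g) z := commute_back hx.symm
    intro w hw
    have h := D.comm_fix hn1 hn2 hcz (by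
      rw [show g⁻¹ * z * g * (g⁻¹ * z * g) = g⁻¹ * (z * z) * g by group, D.z_sq]; group) e w hw
    have h2 := h.map (MulAut.conj g).toMonoidHom
    simpa [mul_assoc] using h2

/-- A conjugate commuting with the central involution normalises the four-group. -/
theorem main {g : G} (hx : Commute (g * z * g⁻¹) z) : g ∈ D.NW := by
  refine inner_good F hx (fun w hw => ?_) (z_cent F hx)
  have hx' : Commute (g⁻¹ * z * g⁻¹⁻¹) z := by
    rw [inv_inv]
    exact commute_back hx.symm
  have h := (z_cent F hx' w hw).map (MulAut.conj g).toMonoidHom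
  simpa [mul_assoc] using h

end Cz

end CfsgLib.Fi23Cent
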