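import Cfsg.Agent.U62Cent.ExtBuild
import Cfsg.Prelude.Def_TwoFusion

/-!
The first consequences of the hypotheses on the centraliser.
-/

set_option autoImplicit false
set_option maxRecDepth 100000
set_option maxHeartbeats 1000000
set_option linter.style.haveILetI false
set_option linter.unusedSectionVars false
set_option linter.unusedVariables false

namespace CfsgLib.Fi23Cent

open CfsgLib CfsgLib.U62Cent Subgroup
open scoped commutatorElement

theorem two_three {G : Type*} [Group G] {x : G} {k : ℕ} (h2 : x ^ (2 ^ k) = 1) (h3 : x ^ 3 = 1) : x = 1 := by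
  have h := Nat.dvd_gcd (orderOf_dvd_of_pow_eq_one h2) (orderOf_dvd_of_pow_eq_one h3)
  rw [(Nat.Coprime.pow_left k (by norm_num : Nat.Coprime 2 3)).gcd_eq_one, Nat.dvd_one] at h
  exact orderOf_eq_one_iff.1 h

theorem zpow_mod_three {G : Type*} [Group G] {c : G} (h3 : c ^ 3 = 1) (n : ℤ) : ∃ i : ℕ, i < 3 ∧ c ^ n = c ^ i := by
  have h : (c : G) ^ (3 : ℤ) = 1 := by rw [← zpow_natCast] at h3; exact h3
  refine ⟨(n % 3).toNat, by omega, ?_⟩
  rw [← zpow_natCast c, Int.toNat_of_nonneg (Int.emod_nonneg n (by norm_num))]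
  conv_lhs => rw [← Int.mul_ediv_add_emod n 3]
  rw [zpow_add, zpow_mul, h, one_zpow, one_mul]

/-- The facts about the centraliser used later. -/
structure Pre {G : Type*} [Group G] (z : G) (F : Type*) [Field F] [Fintype F] where
  c : G
  c_comm : Commute c z
  c3 : c ^ 3 = 1
  c_ne : c ≠ 1
  z_sq : z * z = 1
  z_ne : z ≠ 1
  J : Subgroup G
  J_comm : ∀ j ∈ J, Commute j z
  z_mem : z ∈ J
  J_norm : ∀ h, Commute h z → ∀ j ∈ J, h * j * h⁻¹ ∈ J
  J_two : IsPGroup 2 J
  J_max : ∀ P : Subgroup G, IsPGroup 2 P → (∀ p ∈ P, Commute p z) →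
    (∀ h, Commute h z → ∀ p ∈ P, h * p * h⁻¹ ∈ P) → P ≤ J
  cJ : ∀ j ∈ J, Commute c j → j = 1 ∨ j = z
  Z : Subgroup G
  Z_le : Z ≤ J
  Z_card : Nat.card Z = 8
  Z_sq : ∀ w ∈ Z, w * w = 1
  Z_cen : ∀ j ∈ J, ∀ w ∈ Z, Commute j w
  cen_Z : ∀ x ∈ J, (∀ j ∈ J, Commute x j) → x ∈ Z
  E : Subgroup G
  E_le : E ≤ J
  E_extra : Cfsg.IsExtraspecial 2 E
  E_card : Nat.card E = 2 ^ 9
  E_Z : ∀ x ∈ E, x ∈ Z → x = 1 ∨ x = z
  J_EZ : ∀ j ∈ J, ∃ a ∈ E, ∃ w ∈ Z, j = a * w
  sq : ∀ j ∈ J, j * j = 1 ∨ j * j = z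
  comm : ∀ a ∈ J, ∀ b ∈ J, a * b * a⁻¹ * b⁻¹ = 1 ∨ a * b * a⁻¹ * b⁻¹ = z
  self : ∀ h, Commute h z → (∀ j ∈ J, Commute h j) → h ∈ J
  θ : centralizer ({z} : Set G) →* MulAut (Cfsg.PSp 2 F)
  θ_surj : Function.Surjective θ
  θ_ker : ∀ h, θ h = 1 ↔ ∃ j ∈ J, ∃ i : ℕ, (h : G) = j * c ^ i
  inv : ∃ t, Commute t z ∧ ∃ j ∈ J, t * c * t⁻¹ = j * c⁻¹

theorem card_mulAut_psp {F : Type*} [Field F] [Fintype F] (hF : Fintype.card F = 3) :
    Nat.card (MulAut (Cfsg.PSp 2 F)) = 51840 ∧ Nat.card (Cfsg.PSp 2 F) = 25920 := by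
  obtain ⟨φ⟩ := nonempty_psp_iso hF
  have hP : Nat.card (Cfsg.PSp 2 F) = 25920 := by rw [← Nat.card_congr φ.toEquiv]; exact card_SU4
  haveI := psp_simple hF
  have hinj : Function.Injective (MulAut.conj : Cfsg.PSp 2 F →* MulAut (Cfsg.PSp 2 F)) := by
    refine (injective_iff_map_eq_one _).2 fun x hx => φ.symm.injective ?_
    rw [map_one]
    have hc : φ.symm x ∈ Subgroup.center U4 := mem_center_iff.2 fun y => φ.injective (by
      have h1 := DFunLike.congr_fun hx (φ y)
      rw [MulAut.conj_apply, MulAut.one_apply, mul_inv_eq_iff_eq_mul] at h1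
      simp [h1])
    rwa [center_SU4, mem_bot] at hc
  refine ⟨?_, hP⟩
  rw [← Subgroup.card_mul_index (Cfsg.Inn (Cfsg.PSp 2 F)), inn_index_two hF]
  rw [show Nat.card (Cfsg.Inn (Cfsg.PSp 2 F)) = Nat.card (Cfsg.PSp 2 F) from
    (Nat.card_congr (MonoidHom.ofInjective hinj).toEquiv).symm, hP]

/-- The first consequences. -/
theorem exists_pre {G : Type*} [Group G] [Finite G] (z : G) (hz : orderOf z = 2)
    {F : Type*} [Field F] [Fintype F] (hF : Fintype.card F = 3)
    (V E : Subgroup ↥(centralizer ({z} : Set G)))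
    (hVE : Cfsg.IsInternalDirectProduct V E (Cfsg.pCore 2 ↥(centralizer ({z} : Set G)))) (hV : Nat.card ↥V = 4)
    (hV2 : ∀ v ∈ V, v ^ 2 = 1)
    (hE : Cfsg.IsExtraspecial 2 ↥E) (hEc : Nat.card ↥E = 2 ^ 9)
    (hCJ : centralizer ((Cfsg.pCore 2 ↥(centralizer ({z} : Set G))) : Set ↥(centralizer ({z} : Set G))) ≤
      Cfsg.pCore 2 ↥(centralizer ({z} : Set G)))
    (zc c : ↥(centralizer ({z} : Set G))) (hzc : (zc : G) = z) (hc : orderOf c = 3)
    [hJc : (Cfsg.pCore 2 ↥(centralizer ({z} : Set G)) ⊔ zpowers c).Normal]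
    (e : (↥(centralizer ({z} : Set G)) ⧸ (Cfsg.pCore 2 ↥(centralizer ({z} : Set G)) ⊔ zpowers c)) ≃*
      MulAut (Cfsg.PSp 2 F))
    [hcz : ((zpowers c ⊔ zpowers zc).subgroupOf
      (centralizer ({c} : Set ↥(centralizer ({z} : Set G))))).Normal]
    (e' : (↥(centralizer ({c} : Set ↥(centralizer ({z} : Set G)))) ⧸ (zpowers c ⊔ zpowers zc).subgroupOf
      (centralizer ({c} : Set ↥(centralizer ({z} : Set G))))) ≃* Cfsg.PSp 2 F) :
    ∃ P : Pre z F, P.J = (Cfsg.pCore 2 ↥(centralizer ({z} : Set G))).map (centralizer ({z} : Set G)).subtype ∧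
      ¬ 11 ∣ Nat.card ↥(centralizer ({z} : Set G)) := by
  classical
  haveI : Fact (Nat.Prime 2) := ⟨Nat.prime_two⟩
  haveI : Fact (Nat.Prime 3) := ⟨Nat.prime_three⟩
  haveI := psp_simple hF
  obtain ⟨hA, hP⟩ := card_mulAut_psp (F := F) hF
  set J0 : Subgroup ↥(centralizer ({z} : Set G)) := Cfsg.pCore 2 ↥(centralizer ({z} : Set G)) with hJ0
  haveI hJn : J0.Normal := Solvable.pCore_normal 2
  have hJp : IsPGroup 2 J0 := Solvable.isPGroup_pCore 2
  obtain ⟨hVle, hEle, hVEc, hVEi, hVEs⟩ := hVE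
  have hc3 : c ^ 3 = 1 := hc ▸ pow_orderOf_eq_one c
  have hcne : c ≠ 1 := fun h => by rw [h, orderOf_one] at hc; omega
  have hzc2 : zc * zc = 1 := Subtype.ext (by
    show (zc : G) * zc = 1
    rw [hzc, ← pow_two, ← hz, pow_orderOf_eq_one])
  have hzcne : zc ≠ 1 := fun h => by
    have h1 : z = 1 := by rw [← hzc, h]; rfl
    rw [h1, orderOf_one] at hz; omega
  have hzcen : ∀ h : ↥(centralizer ({z} : Set G)), Commute h zc := fun h => Subtype.ext (by
    show (h : G) * zc = zc * h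
    rw [hzc]
    exact mem_centralizer_singleton_iff.1 h.2)
  have hzJ : zc ∈ J0 := hCJ (mem_centralizer_iff.2 fun y _ => hzcen y)
  have hpow2 : ∀ j ∈ J0, ∃ k : ℕ, j ^ (2 ^ k) = 1 := fun j hj => by
    obtain ⟨k, hk⟩ := hJp ⟨j, hj⟩
    exact ⟨k, congrArg Subtype.val hk⟩
  -- the part of the radical centralised by the element of order three
  have hcJ : ∀ j ∈ J0, Commute c j → j = 1 ∨ j = zc := by
    intro j hj hcj
    set Kc := centralizer ({c} : Set ↥(centralizer ({z} : Set G)))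
    set N := (zpowers c ⊔ zpowers zc).subgroupOf Kc
    have hjK : j ∈ Kc := mem_centralizer_singleton_iff.2 hcj.eq.symm
    set π := QuotientGroup.mk' N
    have hbot : (J0.subgroupOf Kc).map π = ⊥ := by
      haveI : IsSimpleGroup (↥Kc ⧸ N) := by
        haveI : Nontrivial (↥Kc ⧸ N) := e'.toEquiv.nontrivial
        exact IsSimpleGroup.isSimpleGroup_of_surjective e'.symm.toMonoidHom e'.symm.surjective
      refine ((hJn.subgroupOf Kc).map π (QuotientGroup.mk'_surjective N)).eq_bot_or_eq_top.resolve_right fun h => ?_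
      have h2 : IsPGroup 2 ((J0.subgroupOf Kc).map π) := (hJp.comap_of_injective _ Kc.subtype_injective).map π
      obtain ⟨n, hn⟩ := IsPGroup.iff_card.1 h2
      rw [h, Subgroup.card_top, Nat.card_congr e'.toEquiv, hP] at hn
      have h5 : 5 ∣ 2 ^ n := hn ▸ by norm_num
      exact absurd (Nat.Prime.dvd_of_dvd_pow (by norm_num) h5) (by norm_num)
    have hjN : (⟨j, hjK⟩ : Kc) ∈ N := (QuotientGroup.eq_one_iff _).1
      (mem_bot.1 (hbot ▸ mem_map_of_mem π (show (⟨j, hjK⟩ : Kc) ∈ J0.subgroupOf Kc from hj)))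
    let M : Subgroup ↥(centralizer ({z} : Set G)) :=
      { carrier := {x | ∃ a b : ℤ, x = c ^ a * zc ^ b}
        one_mem' := ⟨0, 0, by simp⟩
        mul_mem' := by
          rintro x y ⟨a, b, rfl⟩ ⟨a', b', rfl⟩
          refine ⟨a + a', b + b', ?_⟩
          rw [zpow_add, zpow_add]
          calc c ^ a * zc ^ b * (c ^ a' * zc ^ b') = c ^ a * (zc ^ b * c ^ a') * zc ^ b' := by group
            _ = c ^ a * (c ^ a' * zc ^ b) * zc ^ b' := by rw [((hzcen (c ^ a')).symm.zpow_left b).eq]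
            _ = _ := by group
        inv_mem' := by
          rintro x ⟨a, b, rfl⟩
          refine ⟨-a, -b, ?_⟩
          rw [_root_.mul_inv_rev, ← zpow_neg, ← zpow_neg, ((hzcen (c ^ (-a))).symm.zpow_left (-b)).eq] }
    have hle : zpowers c ⊔ zpowers zc ≤ M :=
      sup_le (zpowers_le.2 ⟨1, 0, by simp⟩) (zpowers_le.2 ⟨0, 1, by simp⟩)
    obtain ⟨a, b, rfl⟩ := hle (mem_subgroupOf.1 hjN)
    have hbz : zc ^ b ∈ J0 := zpow_mem hzJ b
    have hca : c ^ a ∈ J0 := by
      have := mul_mem hj (inv_mem hbz)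
      rwa [mul_inv_cancel_right] at this
    obtain ⟨k, hk⟩ := hpow2 _ hca
    have hca1 : c ^ a = 1 := two_three hk (by
      rw [← zpow_natCast, ← zpow_mul, mul_comm, zpow_mul, zpow_natCast, hc3, one_zpow])
    rw [hca1, one_mul]
    rcases Int.even_or_odd' b with ⟨i, rfl | rfl⟩
    · left; rw [zpow_mul, zpow_two, hzc2, one_zpow]
    · right; rw [zpow_add, zpow_mul, zpow_two, hzc2, one_zpow, one_mul, zpow_one]
  -- decomposition of the radical
  have hdec : ∀ j ∈ J0, ∃ v ∈ V, ∃ a ∈ E, j = v * a := by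
    let M : Subgroup ↥(centralizer ({z} : Set G)) :=
      { carrier := {x | ∃ v ∈ V, ∃ a ∈ E, x = v * a}
        one_mem' := ⟨1, one_mem _, 1, one_mem _, by simp⟩
        mul_mem' := by
          rintro x y ⟨v, hv, a, ha, rfl⟩ ⟨v', hv', a', ha', rfl⟩
          refine ⟨v * v', mul_mem hv hv', a * a', mul_mem ha ha', ?_⟩
          calc v * a * (v' * a') = v * (a * v') * a' := by group
            _ = v * (v' * a) * a' := by rw [hVEc v' hv' a ha]
            _ = _ := by group
        inv_mem' := by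
          rintro x ⟨v, hv, a, ha, rfl⟩
          exact ⟨v⁻¹, inv_mem hv, a⁻¹, inv_mem ha, by
            rw [_root_.mul_inv_rev, hVEc v⁻¹ (inv_mem hv) a⁻¹ (inv_mem ha)]⟩ }
    intro j hj
    rw [← hVEs] at hj
    exact (sup_le (fun x hx => ⟨x, hx, 1, one_mem _, by simp⟩) (fun x hx => ⟨1, one_mem _, x, hx, by simp⟩) :
      V ⊔ E ≤ M) hj
  have hVsq : ∀ v ∈ V, v * v = 1 := fun v hv => by rw [← pow_two]; exact hV2 v hv
  have hVi : ∀ v ∈ V, v⁻¹ = v := fun v hv => inv_eq_of_mul_eq_one_right (hVsq v hv)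
  have hVV : ∀ v ∈ V, ∀ w ∈ V, Commute v w := fun v hv w hw => by
    have h := hVi _ (mul_mem hv hw)
    rw [_root_.mul_inv_rev, hVi v hv, hVi w hw] at h
    exact h.symm
  have hVc : ∀ v ∈ V, ∀ j ∈ J0, Commute j v := fun v hv j hj => by
    obtain ⟨w, hw, a, ha, rfl⟩ := hdec j hj
    have h1 : Commute a v := (hVEc v hv a ha).symm
    exact (hVV w hw v hv).mul_left h1
  obtain ⟨W8, _, _, ⟨D⟩⟩ := Geo.ExtraOut.exists_data hE
  have hcomm0 : ∀ a ∈ J0, ∀ b ∈ J0, a * b * a⁻¹ * b⁻¹ = 1 ∨ a * b * a⁻¹ * b⁻¹ = ((D.z : E) : ↥(centralizer ({z} : Set G))) := by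
    intro a ha b hb
    obtain ⟨v, hv, a, ha', rfl⟩ := hdec a ha
    obtain ⟨w, hw, b, hb', rfl⟩ := hdec b hb
    have h1 : v * a * (w * b) * (v * a)⁻¹ * (w * b)⁻¹ = a * b * a⁻¹ * b⁻¹ := by
      have e1 := hVc v hv _ (hEle ha')
      have e2 := hVc w hw _ (hEle hb')
      have e3 := hVc v hv _ (hEle hb')
      have e4 := hVc w hw _ (hEle ha')
      have e5 := hVV v hv w hw
      calc v * a * (w * b) * (v * a)⁻¹ * (w * b)⁻¹ = v * (a * w) * b * a⁻¹ * v⁻¹ * b⁻¹ * w⁻¹ := by group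
        _ = v * w * (a * b * a⁻¹) * (v⁻¹ * b⁻¹) * w⁻¹ := by rw [e4.eq]; group
        _ = v * w * (a * b * a⁻¹ * b⁻¹) * (v⁻¹ * w⁻¹) := by rw [(e3.inv_left.inv_right).eq.symm]; group
        _ = a * b * a⁻¹ * b⁻¹ * (v * w) * (v⁻¹ * w⁻¹) := by
          have e6 : Commute (a * b * a⁻¹ * b⁻¹) (v * w) := by
            have hc' : ∀ u, u ∈ V → Commute (a * b * a⁻¹ * b⁻¹) u := fun u hu =>
              hVc u hu _ (mul_mem (mul_mem (mul_mem (hEle ha') (hEle hb')) (inv_mem (hEle ha'))) (inv_mem (hEle hb')))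
            exact (hc' v hv).mul_right (hc' w hw)
          rw [e6.eq]
        _ = _ := by rw [e5.eq]; group
    rw [h1]
    rcases D.center_cases (D.comm_mem ⟨a, ha'⟩ ⟨b, hb'⟩) with h | h
    · left; simpa [commutatorElement_def] using congrArg Subtype.val h
    · right; simpa [commutatorElement_def] using congrArg Subtype.val h
  set z' : ↥(centralizer ({z} : Set G)) := ((D.z : E) : ↥(centralizer ({z} : Set G))) with hz'
  have hz'z : z' = zc := by
    obtain ⟨a, b, hab⟩ : ∃ a b : E, ¬ Commute a b := by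
      by_contra hno
      push Not at hno
      have : Subgroup.center E = ⊤ := eq_top_iff.2 fun x _ => mem_center_iff.2 fun y => hno y x
      have h2 := hE.2
      rw [this, Subgroup.card_top, hEc] at h2
      norm_num at h2
    have hne : (a : ↥(centralizer ({z} : Set G))) * b * (a : ↥(centralizer ({z} : Set G)))⁻¹ * (b : ↥(centralizer ({z} : Set G)))⁻¹ ≠ 1 := fun h =>
      hab (Subtype.ext (mul_inv_eq_iff_eq_mul.1 (mul_inv_eq_one.1 h)))
    have hab' := (hcomm0 _ (hEle a.2) _ (hEle b.2)).resolve_left hne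
    have hz'ne : z' ≠ 1 := hab' ▸ hne
    have hfix : ∀ h : ↥(centralizer ({z} : Set G)), h * z' * h⁻¹ = z' := fun h => by
      rcases hcomm0 _ (hJn.conj_mem _ (hEle a.2) h) _ (hJn.conj_mem _ (hEle b.2) h) with r | r
      · refine absurd ?_ hz'ne
        rw [show h * (a : ↥(centralizer ({z} : Set G))) * h⁻¹ * (h * b * h⁻¹) * (h * a * h⁻¹)⁻¹ * (h * b * h⁻¹)⁻¹ =
          h * ((a : ↥(centralizer ({z} : Set G))) * b * (a : ↥(centralizer ({z} : Set G)))⁻¹ * (b : ↥(centralizer ({z} : Set G)))⁻¹) * h⁻¹ by group, hab', conj_eq_one_iff] at r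
        exact r
      · rwa [show h * (a : ↥(centralizer ({z} : Set G))) * h⁻¹ * (h * b * h⁻¹) * (h * a * h⁻¹)⁻¹ * (h * b * h⁻¹)⁻¹ =
          h * ((a : ↥(centralizer ({z} : Set G))) * b * (a : ↥(centralizer ({z} : Set G)))⁻¹ * (b : ↥(centralizer ({z} : Set G)))⁻¹) * h⁻¹ by group, hab'] at r
    exact (hcJ z' (hEle (D.z : E).2) (mul_inv_eq_iff_eq_mul.1 (hfix c))).resolve_left hz'ne
  have hsq0 : ∀ j ∈ J0, j * j = 1 ∨ j * j = zc := by
    intro j hj
    obtain ⟨v, hv, a, ha, rfl⟩ := hdec j hj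
    have h1 : v * a * (v * a) = a * a := by
      rw [show v * a * (v * a) = v * (a * v) * a by group, (hVc v hv a (hEle ha)).eq, ← mul_assoc v v a,
        hVsq v hv, one_mul]
    rw [h1]
    rcases D.center_cases (D.sq_mem ⟨a, ha⟩) with h | h
    · left; simpa [pow_two] using congrArg Subtype.val h
    · right; rw [← hz'z]; simpa [pow_two] using congrArg Subtype.val h
  have hzV : zc ∉ V := fun h => by
    have h2 : zc ∈ V ⊓ E := ⟨h, hz'z ▸ (D.z : E).2⟩
    rw [hVEi] at h2
    exact hzcne (mem_bot.1 h2)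
  let Z0 : Subgroup ↥(centralizer ({z} : Set G)) :=
    { carrier := {x | x ∈ V ∨ x * zc ∈ V}
      one_mem' := Or.inl (one_mem V)
      mul_mem' := by
        rintro x y (hx | hx) (hy | hy)
        · exact Or.inl (mul_mem hx hy)
        · exact Or.inr (by rw [mul_assoc]; exact mul_mem hx hy)
        · exact Or.inr (by
            have := mul_mem hx hy
            rwa [mul_assoc, ← (hzcen y).eq, ← mul_assoc] at this)
        · exact Or.inl (by
            have := mul_mem hx hy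
            rwa [show x * zc * (y * zc) = x * (zc * y) * zc by group, ← (hzcen y).eq,
              show x * (y * zc) * zc = x * y * (zc * zc) by group, hzc2, mul_one] at this)
      inv_mem' := by
        rintro x (hx | hx)
        · exact Or.inl (inv_mem hx)
        · refine Or.inr ?_
          have := inv_mem hx
          rwa [_root_.mul_inv_rev, inv_eq_of_mul_eq_one_right hzc2, ← (hzcen x⁻¹).eq] at this }
  have hZ0J : ∀ x ∈ Z0, x ∈ J0 := by
    rintro x (hx | hx)
    · exact hVle hx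
    · have := mul_mem (hVle hx) hzJ
      rwa [mul_assoc, hzc2, mul_one] at this
  have hZ0c : ∀ j ∈ J0, ∀ x ∈ Z0, Commute j x := by
    rintro j hj x (hx | hx)
    · exact hVc x hx j hj
    · have := (hVc _ hx j hj).mul_right (hzcen j)
      rwa [mul_assoc, hzc2, mul_one] at this
  have hZ0sq : ∀ x ∈ Z0, x * x = 1 := by
    rintro x (hx | hx)
    · exact hVsq x hx
    · have := hVsq _ hx
      rwa [show x * zc * (x * zc) = x * (zc * x) * zc by group, ← (hzcen x).eq,
        show x * (x * zc) * zc = x * x * (zc * zc) by group, hzc2, mul_one] at this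
  have hZ0card : Nat.card Z0 = 8 := by
    let f : V × Bool → Z0 := fun p => if p.2 then ⟨(p.1 : ↥(centralizer ({z} : Set G))) * zc, Or.inr (by
      rw [mul_assoc, hzc2, mul_one]; exact p.1.2)⟩ else ⟨p.1, Or.inl p.1.2⟩
    have hf : Function.Bijective f := by
      constructor
      · rintro ⟨v, b⟩ ⟨w, b'⟩ h
        cases b <;> cases b' <;> simp only [f, Bool.false_eq_true, if_false, if_true] at h <;>
          have h' := congrArg Subtype.val h <;> simp only at h'
        · rw [Subtype.ext h']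
        · exact absurd (mul_mem (inv_mem w.2) v.2) (by rw [h', inv_mul_cancel_left]; exact hzV)
        · exact absurd (mul_mem (inv_mem v.2) w.2) (by rw [← h', inv_mul_cancel_left]; exact hzV)
        · rw [Subtype.ext (mul_right_cancel h')]
      · rintro ⟨x, hx | hx⟩
        · exact ⟨(⟨x, hx⟩, false), rfl⟩
        · exact ⟨(⟨x * zc, hx⟩, true), Subtype.ext (by
            show x * zc * zc = x
            rw [mul_assoc, hzc2, mul_one])⟩
    rw [← Nat.card_eq_of_bijective f hf, Nat.card_prod, hV, Nat.card_eq_fintype_card (α := Bool), Fintype.card_bool]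
  have hEZ : ∀ x ∈ E, x ∈ Z0 → x = 1 ∨ x = zc := by
    rintro x hx (h | h)
    · left
      have h2 : x ∈ V ⊓ E := ⟨h, hx⟩
      rw [hVEi] at h2
      exact mem_bot.1 h2
    · right
      have h2 : x * zc ∈ V ⊓ E := ⟨h, mul_mem hx (hz'z ▸ (D.z : E).2)⟩
      rw [hVEi] at h2
      rw [eq_inv_of_mul_eq_one_left (mem_bot.1 h2), inv_eq_of_mul_eq_one_right hzc2]
  have hcenZ : ∀ x ∈ J0, (∀ j ∈ J0, Commute x j) → x ∈ Z0 := by
    intro x hx hall
    obtain ⟨v, hv, a, ha, rfl⟩ := hdec x hx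
    have hac : (⟨a, ha⟩ : E) ∈ Subgroup.center E := mem_center_iff.2 fun b => Subtype.ext (by
      have h1 := (hall b (hEle b.2))
      have h2 := (hVc v hv b (hEle b.2))
      have h3 : v * (a * b) = v * (b * a) := by
        rw [← mul_assoc, h1.eq, ← mul_assoc, h2.eq, mul_assoc]
      exact (mul_left_cancel h3).symm)
    rcases D.center_cases hac with h | h
    · left
      rw [show a = 1 from congrArg Subtype.val h, mul_one]
      exact hv
    · right
      rw [show a = z' from congrArg Subtype.val h, hz'z, mul_assoc, hzc2, mul_one]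
      exact hv
  -- the action on the quotient
  let θ : ↥(centralizer ({z} : Set G)) →* MulAut (Cfsg.PSp 2 F) := e.toMonoidHom.comp (QuotientGroup.mk' (J0 ⊔ zpowers c))
  have hθs : Function.Surjective θ := e.surjective.comp (QuotientGroup.mk'_surjective _)
  have hθk : ∀ h, θ h = 1 ↔ ∃ j ∈ J0, ∃ i : ℕ, h = j * c ^ i := by
    intro h
    have h1 : θ h = 1 ↔ h ∈ J0 ⊔ zpowers c := by
      show e (QuotientGroup.mk' _ h) = 1 ↔ _
      rw [EmbeddingLike.map_eq_one_iff]
      exact QuotientGroup.eq_one_iff h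
    rw [h1]
    constructor
    · intro hh
      let M : Subgroup ↥(centralizer ({z} : Set G)) :=
        { carrier := {x | ∃ j ∈ J0, ∃ i : ℤ, x = j * c ^ i}
          one_mem' := ⟨1, one_mem _, 0, by simp⟩
          mul_mem' := by
            rintro x y ⟨j, hj, i, rfl⟩ ⟨k, hk, l, rfl⟩
            exact ⟨j * (c ^ i * k * (c ^ i)⁻¹), mul_mem hj (hJn.conj_mem k hk _), i + l, by rw [zpow_add]; group⟩
          inv_mem' := by
            rintro x ⟨j, hj, i, rfl⟩
            exact ⟨(c ^ i)⁻¹ * j⁻¹ * (c ^ i)⁻¹⁻¹, hJn.conj_mem _ (inv_mem hj) _, -i, by rw [zpow_neg]; group⟩ }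
      obtain ⟨j, hj, n, rfl⟩ := (sup_le (fun x hx => ⟨x, hx, 0, by simp⟩)
        (zpowers_le.2 ⟨1, one_mem _, 1, by simp⟩) : J0 ⊔ zpowers c ≤ M) hh
      obtain ⟨i, -, hi⟩ := zpow_mod_three hc3 n
      exact ⟨j, hj, i, by rw [hi]⟩
    · rintro ⟨j, hj, i, rfl⟩
      exact mul_mem (mem_sup_left hj) (mem_sup_right (pow_mem (mem_zpowers c) i))
  -- inversion of the element of order three
  have hpm : ∀ h : ↥(centralizer ({z} : Set G)), ∃ j ∈ J0, h * c * h⁻¹ = j * c ∨ h * c * h⁻¹ = j * c⁻¹ := by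
    intro h
    have h1 : θ (h * c * h⁻¹) = 1 := by
      rw [map_mul, map_mul, (hθk c).2 ⟨1, one_mem _, 1, by simp⟩, mul_one, map_inv, mul_inv_cancel]
    obtain ⟨j, hj, i, e1⟩ := (hθk _).1 h1
    obtain ⟨i', hi', e2⟩ := zpow_mod_three hc3 (i : ℤ)
    rw [zpow_natCast] at e2
    rw [e2] at e1
    refine ⟨j, hj, ?_⟩
    interval_cases i'
    · exfalso
      rw [pow_zero, mul_one] at e1
      obtain ⟨k, hk⟩ := hpow2 j hj
      have h3 : (h * c * h⁻¹) ^ 3 = 1 := by
        rw [conj_pow, hc3]; group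
      exact hcne (conj_eq_one_iff.1 (e1.trans (two_three hk (e1 ▸ h3))))
    · left; rwa [pow_one] at e1
    · right
      rw [e1, show c⁻¹ = c ^ 2 from inv_eq_of_mul_eq_one_right (by rw [← pow_succ']; exact hc3)]
  have hinv : ∃ t : ↥(centralizer ({z} : Set G)), ∃ j ∈ J0, t * c * t⁻¹ = j * c⁻¹ := by
    by_contra hno
    push Not at hno
    set Kc := centralizer ({c} : Set ↥(centralizer ({z} : Set G)))
    set B := J0 ⊔ zpowers c with hB
    have hcB : c ∈ B := mem_sup_right (mem_zpowers c)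
    have hidx3 : ¬ 3 ∣ ((zpowers c).subgroupOf B).index := by
      intro h3
      have hcov : ∀ x : B, ∃ j : J0, QuotientGroup.mk (⟨j, mem_sup_left j.2⟩ : B) =
          (QuotientGroup.mk x : B ⧸ (zpowers c).subgroupOf B) := by
        intro x
        obtain ⟨j, hj, i, e1⟩ := (hθk x).1 (by
          show e (QuotientGroup.mk' _ (x : ↥(centralizer ({z} : Set G)))) = 1
          rw [EmbeddingLike.map_eq_one_iff]
          exact (QuotientGroup.eq_one_iff _).2 x.2)
        refine ⟨⟨j, hj⟩, QuotientGroup.eq.2 (mem_subgroupOf.2 ?_)⟩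
        push_cast
        rw [e1, inv_mul_cancel_left]
        exact pow_mem (mem_zpowers c) i
      let f : J0 → B ⧸ (zpowers c).subgroupOf B := fun j => QuotientGroup.mk ⟨j, mem_sup_left j.2⟩
      have hf : Function.Bijective f := by
        refine ⟨fun a b hab => ?_, fun q => ?_⟩
        · have h1 : (a : ↥(centralizer ({z} : Set G)))⁻¹ * b ∈ zpowers c := by
            have := mem_subgroupOf.1 (QuotientGroup.eq.1 hab)
            simpa using this
          obtain ⟨n, hn⟩ := mem_zpowers_iff.1 h1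
          obtain ⟨k, hk⟩ := hpow2 _ (mul_mem (inv_mem a.2) b.2)
          have h2 : (a : ↥(centralizer ({z} : Set G)))⁻¹ * b = 1 := two_three hk (by
            rw [← hn, ← zpow_natCast, ← zpow_mul, mul_comm, zpow_mul, zpow_natCast, hc3, one_zpow])
          exact Subtype.ext (inv_mul_eq_one.1 h2)
        · obtain ⟨x, rfl⟩ := QuotientGroup.mk_surjective q
          exact hcov x
      rw [Subgroup.index_eq_card, ← Nat.card_eq_of_bijective f hf] at h3
      obtain ⟨n, hn⟩ := IsPGroup.iff_card.1 hJp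
      rw [hn] at h3
      exact absurd (Nat.Prime.dvd_of_dvd_pow (by norm_num) h3) (by norm_num)
    have hC3 : IsPGroup 3 ((zpowers c).subgroupOf B) :=
      (IsPGroup.of_card (n := 1) (by rw [Nat.card_zpowers, hc, pow_one]) : IsPGroup 3 (zpowers c)).comap_of_injective _
        B.subtype_injective
    have hsur : ∀ h : ↥(centralizer ({z} : Set G)), ∃ u ∈ B, Commute (u⁻¹ * h) c := by
      intro h
      obtain ⟨j, hj, r | r⟩ := hpm h
      swap
      · exact absurd r (hno h j hj)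
      set d := h * c * h⁻¹
      have hdB : d ∈ B := r ▸ mul_mem (mem_sup_left hj) hcB
      have hd3 : IsPGroup 3 ((zpowers d).subgroupOf B) := by
        refine (IsPGroup.of_card (n := 1) ?_ : IsPGroup 3 (zpowers d)).comap_of_injective _ B.subtype_injective
        rw [Nat.card_zpowers, pow_one]
        exact orderOf_eq_prime (by rw [conj_pow, hc3]; group) fun e1 => hcne (conj_eq_one_iff.1 e1)
      obtain ⟨Q, hQ⟩ := hd3.exists_le_sylow
      obtain ⟨u, hu⟩ := MulAction.exists_smul_eq B (hC3.toSylow hidx3) Q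
      have hdQ : (⟨d, hdB⟩ : B) ∈ (Q : Subgroup B) := hQ (mem_subgroupOf.2 (mem_zpowers d))
      rw [← hu, Sylow.coe_subgroup_smul] at hdQ
      obtain ⟨y, hy, e1⟩ := hdQ
      obtain ⟨i, hi⟩ := mem_zpowers_iff.1 (mem_subgroupOf.1 hy)
      obtain ⟨i', hi', e2⟩ := zpow_mod_three hc3 i
      have e1' : (u : ↥(centralizer ({z} : Set G))) * c ^ i' * (u : ↥(centralizer ({z} : Set G)))⁻¹ = d := by
        rw [← e2, hi]; exact congrArg Subtype.val e1
      refine ⟨u, u.2, mul_inv_eq_iff_eq_mul.1 ?_⟩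
      rw [show (u : ↥(centralizer ({z} : Set G)))⁻¹ * h * c * ((u : ↥(centralizer ({z} : Set G)))⁻¹ * h)⁻¹ = (u : ↥(centralizer ({z} : Set G)))⁻¹ * d * u by simp only [d]; group, ← e1']
      suffices hi1 : i' = 1 by rw [hi1, pow_one]; group
      obtain ⟨ju, hju, iu, eu⟩ := (hθk u).1 (by
          show e (QuotientGroup.mk' _ (u : ↥(centralizer ({z} : Set G)))) = 1
          rw [EmbeddingLike.map_eq_one_iff]
          exact (QuotientGroup.eq_one_iff _).2 u.2)
      have hJmem : c ^ i' * c⁻¹ ∈ J0 := by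
        have h4 : ju * c ^ i' * ju⁻¹ = j * c := by
          rw [← r, ← e1', eu]
          calc ju * c ^ i' * ju⁻¹ = ju * (c ^ i' * c ^ iu) * (c ^ iu)⁻¹ * ju⁻¹ := by group
            _ = ju * (c ^ iu * c ^ i') * (c ^ iu)⁻¹ * ju⁻¹ := by rw [(Commute.pow_pow_self c iu i').eq]
            _ = _ := by group
        have h5 : c ^ i' * c⁻¹ = ju⁻¹ * j * (c * ju * c⁻¹) := by
          rw [show c ^ i' = ju⁻¹ * (ju * c ^ i' * ju⁻¹) * ju by group, h4]; group
        rw [h5]
        exact mul_mem (mul_mem (inv_mem hju) hj) (hJn.conj_mem ju hju c)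
      obtain ⟨k, hk⟩ := hpow2 _ hJmem
      have h6 : c ^ i' * c⁻¹ = 1 := two_three hk (by
        rw [((Commute.refl c).pow_left i').inv_right.mul_pow, inv_pow, hc3, inv_one, mul_one, ← pow_mul, mul_comm,
          pow_mul, hc3, one_pow])
      have h7 : c ^ i' = c ^ 1 := by rw [pow_one]; exact mul_inv_eq_one.1 h6
      rw [pow_inj_mod, hc] at h7
      omega
    have hKmap : (Kc.map θ) = ⊤ := eq_top_iff.2 fun a _ => by
      obtain ⟨h, rfl⟩ := hθs a
      obtain ⟨u, hu, hc'⟩ := hsur h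
      refine ⟨u⁻¹ * h, mem_centralizer_singleton_iff.2 hc'.eq, ?_⟩
      have : θ u = 1 := by
        show e (QuotientGroup.mk' _ u) = 1
        rw [EmbeddingLike.map_eq_one_iff]
        exact (QuotientGroup.eq_one_iff _).2 hu
      rw [map_mul, map_inv, this, inv_one, one_mul]
    set N := (zpowers c ⊔ zpowers zc).subgroupOf Kc
    let θK : ↥Kc →* MulAut (Cfsg.PSp 2 F) := θ.comp Kc.subtype
    have hNk : N ≤ θK.ker := by
      intro x hx
      refine MonoidHom.mem_ker.2 ((hθk _).2 ?_)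
      have h1 : (x : ↥(centralizer ({z} : Set G))) ∈ B := (sup_le le_sup_right (zpowers_le.2 (mem_sup_left hzJ)) :
        zpowers c ⊔ zpowers zc ≤ B) (mem_subgroupOf.1 hx)
      exact (hθk _).1 (by
        show e (QuotientGroup.mk' _ (x : ↥(centralizer ({z} : Set G)))) = 1
        rw [EmbeddingLike.map_eq_one_iff]
        exact (QuotientGroup.eq_one_iff _).2 h1)
    have hsurK : Function.Surjective (QuotientGroup.lift N θK hNk) := fun a => by
      obtain ⟨k, hk, rfl⟩ := (show a ∈ Kc.map θ from hKmap ▸ mem_top a)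
      exact ⟨QuotientGroup.mk ⟨k, hk⟩, rfl⟩
    have := Nat.card_le_card_of_surjective _ hsurK
    rw [hA, Nat.card_congr e'.toEquiv, hP] at this
    omega
  -- order
  have h11 : ¬ 11 ∣ Nat.card ↥(centralizer ({z} : Set G)) := by
    intro h
    have h1 := Subgroup.card_eq_card_quotient_mul_card_subgroup (J0 ⊔ zpowers c)
    rw [Nat.card_congr e.toEquiv, hA] at h1
    rw [h1] at h
    rcases (Nat.Prime.dvd_mul (by norm_num)).1 h with h | h
    · norm_num at h
    obtain ⟨x, hx⟩ := exists_prime_orderOf_dvd_card' (G := ↥(J0 ⊔ zpowers c)) (p := 11) (hp := ⟨by norm_num⟩) h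
    obtain ⟨j, hj, i, e1⟩ := (hθk x).1 (by
      show e (QuotientGroup.mk' _ (x : ↥(centralizer ({z} : Set G)))) = 1
      rw [EmbeddingLike.map_eq_one_iff]
      exact (QuotientGroup.eq_one_iff _).2 x.2)
    have hord : orderOf ((x : ↥(centralizer ({z} : Set G)))) = 11 := by rw [Subgroup.orderOf_coe]; exact hx
    have hxJ : ((x : ↥(centralizer ({z} : Set G)))) ^ 3 ∈ J0 := by
      rw [← QuotientGroup.eq_one_iff (N := J0), QuotientGroup.mk_pow, e1, QuotientGroup.mk_mul,
        (QuotientGroup.eq_one_iff j).2 hj, one_mul, ← QuotientGroup.mk_pow, ← pow_mul, mul_comm, pow_mul, hc3, one_pow,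
        QuotientGroup.mk_one]
    obtain ⟨k, hk⟩ := hpow2 _ hxJ
    rw [← pow_mul] at hk
    have h2 := orderOf_dvd_of_pow_eq_one hk
    rw [hord] at h2
    rcases (Nat.Prime.dvd_mul (by norm_num)).1 h2 with h2 | h2
    · norm_num at h2
    · exact absurd (Nat.Prime.dvd_of_dvd_pow (by norm_num) h2) (by norm_num)
  -- transport to the group
  set ι := (centralizer ({z} : Set G)).subtype
  have hι : Function.Injective ι := (centralizer ({z} : Set G)).subtype_injective
  have lift : ∀ h : G, Commute h z → ∃ h0 : ↥(centralizer ({z} : Set G)), (h0 : G) = h := fun h hh =>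
    ⟨⟨h, mem_centralizer_singleton_iff.2 hh.eq⟩, rfl⟩
  refine ⟨{
    c := c
    c_comm := mem_centralizer_singleton_iff.1 c.2
    c3 := by rw [← SubgroupClass.coe_pow, hc3]; rfl
    c_ne := fun h => hcne (Subtype.ext h)
    z_sq := by rw [← pow_two, ← hz, pow_orderOf_eq_one]
    z_ne := fun h => by rw [h, orderOf_one] at hz; omega
    J := J0.map ι
    J_comm := by rintro _ ⟨j, -, rfl⟩; exact mem_centralizer_singleton_iff.1 j.2
    z_mem := ⟨zc, hzJ, hzc⟩
    J_norm := by
      rintro h hh _ ⟨j, hj, rfl⟩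
      obtain ⟨h0, rfl⟩ := lift h hh
      exact ⟨h0 * j * h0⁻¹, hJn.conj_mem j hj h0, rfl⟩
    J_two := hJp.map ι
    J_max := fun P hP2 hPz hPn p hp => by
      obtain ⟨p0, rfl⟩ := lift p (hPz p hp)
      refine mem_map_of_mem ι ?_
      exact Solvable.le_pCore 2 (N := P.subgroupOf (centralizer ({z} : Set G))) ⟨fun x hx g => hPn g (mem_centralizer_singleton_iff.1 g.2) x hx⟩
        (hP2.comap_of_injective _ hι) hp
    cJ := by
      rintro _ ⟨j, hj, rfl⟩ hcj
      rcases hcJ j hj (Subtype.ext hcj) with h | h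
      · left; rw [h]; rfl
      · right; rw [h]; exact hzc
    Z := Z0.map ι
    Z_le := map_mono hZ0J
    Z_card := by rw [Subgroup.card_map_of_injective hι, hZ0card]
    Z_sq := by
      rintro _ ⟨w, hw, rfl⟩
      rw [← map_mul, hZ0sq w hw, map_one]
    Z_cen := by
      rintro _ ⟨j, hj, rfl⟩ _ ⟨w, hw, rfl⟩
      exact (hZ0c j hj w hw).map ι
    cen_Z := by
      rintro _ ⟨x, hx, rfl⟩ hall
      exact mem_map_of_mem ι (hcenZ x hx fun j hj => Subtype.ext (hall _ (mem_map_of_mem ι hj)))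
    E := E.map ι
    E_le := map_mono hEle
    E_extra := LargeExtra.isExtraspecial_equiv (E.equivMapOfInjective ι hι) hE
    E_card := by rw [Subgroup.card_map_of_injective hι, hEc]
    E_Z := by
      rintro _ ⟨x, hx, rfl⟩ ⟨y, hy, e1⟩
      rcases hEZ x hx (hι e1 ▸ hy) with h | h
      · left; rw [h]; rfl
      · right; rw [h]; exact hzc
    J_EZ := by
      rintro _ ⟨j, hj, rfl⟩
      obtain ⟨v, hv, a, ha, rfl⟩ := hdec j hj
      exact ⟨a, mem_map_of_mem ι ha, v, mem_map_of_mem ι (show v ∈ Z0 from Or.inl hv),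
        by rw [map_mul, ← ((hVc v hv a (hEle ha)).map ι).eq]; rfl⟩
    sq := by
      rintro _ ⟨j, hj, rfl⟩
      rcases hsq0 j hj with h | h
      · left; rw [← map_mul, h, map_one]
      · right; rw [← map_mul, h]; exact hzc
    comm := by
      rintro _ ⟨a, ha, rfl⟩ _ ⟨b, hb, rfl⟩
      rcases hcomm0 a ha b hb with h | h
      · left; rw [← map_inv, ← map_inv, ← map_mul, ← map_mul, ← map_mul, h, map_one]
      · right; rw [← map_inv, ← map_inv, ← map_mul, ← map_mul, ← map_mul, h, hz'z]; exact hzc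
    self := fun h hh hall => by
      obtain ⟨h0, rfl⟩ := lift h hh
      exact mem_map_of_mem ι (hCJ (mem_centralizer_iff.2 fun j hj =>
        Subtype.ext (hall _ (mem_map_of_mem ι hj)).eq.symm))
    θ := θ
    θ_surj := hθs
    θ_ker := fun h => by
      rw [hθk h]
      constructor
      · rintro ⟨j, hj, i, rfl⟩
        exact ⟨_, mem_map_of_mem ι hj, i, rfl⟩
      · rintro ⟨_, ⟨j, hj, rfl⟩, i, e1⟩
        exact ⟨j, hj, i, Subtype.ext e1⟩
    inv := by
      obtain ⟨t, j, hj, e1⟩ := hinv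
      exact ⟨t, mem_centralizer_singleton_iff.1 t.2, _, mem_map_of_mem ι hj, congrArg Subtype.val e1⟩ }, rfl, h11⟩

end CfsgLib.Fi23Cent
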