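import Cfsg.Agent.Fi23Cent.Build
import Cfsg.Agent.Fi23Cent.Finish

/-!
The centraliser of an involution of the centre of the radical modulo that involution.
-/

set_option autoImplicit false
set_option maxRecDepth 100000
set_option maxHeartbeats 1000000
set_option linter.style.haveILetI false
set_option linter.unusedSectionVars false
set_option linter.unusedVariables false

namespace CfsgLib.Fi23Cent

open CfsgLib CfsgLib.U62Cent Subgroup
open scoped commutatorElement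

attribute [local instance] central_normal

/-- The centraliser modulo the element. -/
abbrev Qt {G : Type*} [Group G] (e : G) : Type _ :=
  ↥(centralizer ({e} : Set G)) ⧸ (zpowers e).subgroupOf (centralizer ({e} : Set G))

variable {G : Type*} [Group G] [Finite G] {z : G} {F : Type*} [Field F] [Fintype F] (P : Pre z F) (D : Cz z)

theorem W_le_Z (hJ : D.J = P.J) {w : G} (hw : w ∈ D.W) : w ∈ P.Z :=
  P.cen_Z w (hJ ▸ D.W_le hw) fun j hj => (D.W_cen j (hJ ▸ hj) w hw).symm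

theorem W_cases' (D : Cz z) {a b w : G} (ha : a ∈ D.W) (ha1 : a ≠ 1) (hb : b ∈ D.W) (hb1 : b ≠ 1) (hab : a ≠ b)
    (hw : w ∈ D.W) : w = 1 ∨ w = a ∨ w = b ∨ w = a * b := D.W_cases ha ha1 hb hb1 hab hw

/-- The data on the quotient. -/
structure QFacts (e : G) (a0 : G) where
  /-- The image of the central involution. -/
  zq : Qt e
  zC : z ∈ centralizer ({e} : Set G)
  zq_def : zq = QuotientGroup.mk ⟨z, zC⟩
  zq_ord : orderOf zq = 2
  /-- The covering of the centraliser of the image. -/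
  κ : ↥(Cz.Kc z a0) →* ↥(centralizer ({zq} : Set (Qt e)))
  κ_surj : Function.Surjective κ
  KC : ∀ g ∈ Cz.Kc z a0, g ∈ centralizer ({e} : Set G)
  κ_val : ∀ g : Cz.Kc z a0, (κ g : Qt e) = QuotientGroup.mk ⟨g, KC g g.2⟩
  κ_one : ∀ g : Cz.Kc z a0, κ g = 1 ↔ ((g : G) = 1 ∨ (g : G) = e)

theorem exists_qfacts {a0 : G} (ha : a0 ∈ D.W) (ha1 : a0 ≠ 1) {e : G} (he : e = a0 ∨ e = a0 * z) :
    Nonempty (QFacts (z := z) e a0) ∧ InZ D.W z e ∧ e ≠ 1 ∧ e ≠ z ∧ e * e = 1 := by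
  have heZ : InZ D.W z e := by
    rcases he with rfl | rfl
    · exact Or.inl ha
    · exact Or.inr (by rwa [mul_assoc, D.z_sq, mul_one])
  have he1 : e ≠ 1 := by
    rcases he with rfl | rfl
    · exact ha1
    · exact fun h => D.z_notW (by rw [eq_inv_of_mul_eq_one_left h, D.z_inv] at ha; exact ha)
  have hez : e ≠ z := by
    rcases he with rfl | rfl
    · exact fun h => D.z_notW (h ▸ ha)
    · exact fun h => ha1 (mul_eq_right.1 h)
  have he2 : e * e = 1 := D.inZ_sq heZ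
  refine ⟨?_, heZ, he1, hez, he2⟩
  set C := centralizer ({e} : Set G)
  have hzC : z ∈ C := mem_centralizer_singleton_iff.2 (D.inZ_comm heZ D.z_mem).eq
  have hKC : ∀ g ∈ Cz.Kc z a0, g ∈ C := fun g hg => mem_centralizer_singleton_iff.2 (by
    obtain ⟨h1, h2⟩ := Cz.mem_Kc.1 hg
    rcases he with rfl | rfl
    · exact h2.eq
    · exact (h2.mul_right h1).eq)
  have hpow : ∀ x : G, x ∈ zpowers e → x = 1 ∨ x = e := fun x hx => by
    obtain ⟨i, rfl⟩ := mem_zpowers_iff.1 hx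
    rcases Int.even_or_odd' i with ⟨k, rfl | rfl⟩
    · left; rw [zpow_mul, zpow_two, he2, one_zpow]
    · right; rw [zpow_add, zpow_mul, zpow_two, he2, one_zpow, one_mul, zpow_one]
  let π : ↥C →* Qt e := QuotientGroup.mk' _
  have hπ1 : ∀ x : C, π x = 1 ↔ ((x : G) = 1 ∨ (x : G) = e) := fun x => by
    refine (QuotientGroup.eq_one_iff x).trans ?_
    rw [Subgroup.mem_subgroupOf]
    exact ⟨hpow _, fun h => h.elim (fun r => r ▸ one_mem _) fun r => by rw [r]; exact mem_zpowers e⟩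
  have hord : orderOf (π ⟨z, hzC⟩) = 2 := orderOf_eq_prime
    (by rw [pow_two, ← map_mul, hπ1]; exact Or.inl D.z_sq)
    (fun h => ((hπ1 _).1 h).elim D.z_ne fun r => hez r.symm)
  let f : ↥(Cz.Kc z a0) →* Qt e := π.comp (Subgroup.inclusion hKC)
  let κ : ↥(Cz.Kc z a0) →* ↥(centralizer ({π ⟨z, hzC⟩} : Set (Qt e))) := f.codRestrict _ fun g =>
    mem_centralizer_singleton_iff.2 (by
      show π _ * π _ = π _ * π _
      rw [← map_mul, ← map_mul]
      exact congrArg π (Subtype.ext (Cz.mem_Kc.1 g.2).1.eq))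
  refine ⟨{ zq := π ⟨z, hzC⟩, zC := hzC, zq_def := rfl, zq_ord := hord, κ := κ, κ_surj := ?_, KC := hKC,
            κ_val := fun g => rfl, κ_one := fun g => ?_ }⟩
  · rintro ⟨q, hq⟩
    obtain ⟨g, rfl⟩ := QuotientGroup.mk'_surjective _ q
    have h1 : π (g * ⟨z, hzC⟩ * g⁻¹ * (⟨z, hzC⟩ : C)⁻¹) = 1 := by
      have h2 : π g * π ⟨z, hzC⟩ = π ⟨z, hzC⟩ * π g := mem_centralizer_singleton_iff.1 hq
      rw [map_mul, map_mul, map_mul, map_inv, map_inv, h2]
      group
    have hgz : Commute (g : G) z := by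
      rcases (hπ1 _).1 h1 with r | r <;> push_cast at r
      · exact mul_inv_eq_iff_eq_mul.1 (mul_inv_eq_one.1 r)
      · exfalso
        rw [mul_inv_eq_iff_eq_mul] at r
        refine D.not_Az' (e := e * z) ?_ ?_ (g : G)⁻¹ ?_
        · rcases heZ with h | h
          · exact Or.inr (by rwa [mul_assoc, D.z_sq, mul_one])
          · exact Or.inl h
        · exact fun h => he1 (mul_eq_right.1 h)
        · rw [inv_inv, ← r]; group
    have hga : Commute (g : G) a0 := by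
      have hge : Commute (g : G) e := mem_centralizer_singleton_iff.1 g.2
      rcases he with rfl | rfl
      · exact hge
      · have := hge.mul_right hgz
        rwa [mul_assoc, D.z_sq, mul_one] at this
    exact ⟨⟨g, Cz.mem_Kc.2 ⟨hgz, hga⟩⟩, Subtype.ext rfl⟩
  · constructor
    · intro h; exact (hπ1 _).1 (congrArg Subtype.val h)
    · intro h; exact Subtype.ext ((hπ1 ⟨g, hKC g g.2⟩).2 h)

/-- The hypotheses on the quotient. -/
theorem quot_hyp (hF : Fintype.card F = 3) (hJ : D.J = P.J) {a0 : G} (ha : a0 ∈ D.W) (ha1 : a0 ≠ 1) {e : G}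
    (he : e = a0 ∨ e = a0 * z) (Q : QFacts (z := z) e a0) :
    let CQ := centralizer ({Q.zq} : Set (Qt e))
    Cfsg.pCore 2 ↥CQ = ((P.J).subgroupOf (Cz.Kc z a0)).map Q.κ ∧
      (∃ A E : Subgroup ↥CQ, Cfsg.IsInternalDirectProduct A E (Cfsg.pCore 2 ↥CQ) ∧ Nat.card A = 2 ∧
        Cfsg.IsExtraspecial 2 E ∧ Nat.card E = 2 ^ 9) ∧
      (∀ zc : ↥CQ, (zc : Qt e) = Q.zq →
        ⁅Cfsg.pCore 2 ↥CQ, Cfsg.pCore 2 ↥CQ⁆ = zpowers zc) ∧
      centralizer ((Cfsg.pCore 2 ↥CQ) : Set ↥CQ) ≤ Cfsg.pCore 2 ↥CQ ∧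
      ∀ [(Cfsg.pCore 2 ↥CQ).Normal], Nonempty ((↥CQ ⧸ Cfsg.pCore 2 ↥CQ) ≃* MulAut (Cfsg.PSp 2 F)) := by
  classical
  intro CQ
  haveI : Fact (Nat.Prime 2) := ⟨Nat.prime_two⟩
  obtain ⟨-, heI, he1, hez, he2⟩ := exists_qfacts (D := D) ha ha1 he
  set K := Cz.Kc z a0
  have haZ : a0 ∈ P.Z := W_le_Z P D hJ ha
  have heZ : e ∈ P.Z := by
    rcases he with rfl | rfl
    · exact haZ
    · exact mul_mem haZ P.z_Z
  have hJK : P.J ≤ K := fun j hj => Cz.mem_Kc.2 ⟨P.J_comm j hj, D.W_cen j (hJ ▸ hj) a0 ha⟩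
  have heK : e ∈ K := hJK (P.Z_le heZ)
  have hker : ∀ g : K, Q.κ g = 1 → (g : G) ∈ P.J := fun g h => by
    rcases (Q.κ_one g).1 h with r | r <;> rw [r]
    exacts [one_mem _, P.Z_le heZ]
  have hmem : ∀ g : K, Q.κ g ∈ (P.J.subgroupOf K).map Q.κ → (g : G) ∈ P.J := fun g hg => by
    obtain ⟨j, hj, e'⟩ := hg
    have h1 := hker (j⁻¹ * g) (by rw [map_mul, map_inv, e', inv_mul_cancel])
    push_cast at h1
    have := mul_mem (show (j : G) ∈ P.J from hj) h1
    rwa [mul_inv_cancel_left] at this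
  -- the two-core
  haveI hJKn : (P.J.subgroupOf K).Normal := ⟨fun j hj g => P.J_norm g (Cz.mem_Kc.1 g.2).1 j hj⟩
  have hcore : Cfsg.pCore 2 ↥CQ = (P.J.subgroupOf K).map Q.κ := by
    refine le_antisymm ?_ (Solvable.le_pCore 2 (hJKn.map _ Q.κ_surj)
      ((P.J_two.comap_of_injective _ K.subtype_injective).map _))
    intro q hq
    obtain ⟨g, rfl⟩ := Q.κ_surj q
    refine mem_map_of_mem _ (show (g : G) ∈ P.J from ?_)
    set S : Subgroup K := (Cfsg.pCore 2 ↥CQ).comap Q.κ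
    have hS : IsPGroup 2 S := by
      intro x
      obtain ⟨n, hn⟩ := Solvable.isPGroup_pCore 2 (G := ↥CQ) ⟨_, x.2⟩
      have h1 : Q.κ ((x : K) ^ (2 ^ n)) = 1 := by rw [map_pow]; exact congrArg Subtype.val hn
      refine ⟨n + 1, Subtype.ext (Subtype.ext ?_)⟩
      rw [pow_succ, pow_mul]
      push_cast
      rcases (Q.κ_one _).1 h1 with r | r <;> push_cast at r <;> rw [r]
      · simp
      · rw [pow_two]; exact he2
    haveI hSn : S.Normal := (Solvable.pCore_normal 2).comap _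
    have h2 := D.two_core ha ha1 (S.map K.subtype) (hS.map _) (Subgroup.map_subtype_le _) (by
      rintro h hh _ ⟨p, hp, rfl⟩
      exact ⟨⟨h, hh⟩ * p * ⟨h, hh⟩⁻¹, hSn.conj_mem p hp _, rfl⟩)
    exact hJ ▸ h2 (mem_map_of_mem K.subtype (show g ∈ S from hq))
  -- a second involution of the four-group
  obtain ⟨b, hb, hb1, hba⟩ := D.exists_other ha ha1
  have hbZ : b ∈ P.Z := W_le_Z P D hJ hb
  have hbe : b ≠ e := by
    rcases he with rfl | rfl
    · exact hba
    · exact fun h => D.z_notW (by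
        have := mul_mem (inv_mem ha) (h ▸ hb)
        rwa [inv_mul_cancel_left] at this)
  let bK : K := ⟨b, hJK (P.Z_le hbZ)⟩
  have hb0 : Q.κ bK ≠ 1 := fun h => ((Q.κ_one _).1 h).elim hb1 hbe
  have hb2 : Q.κ bK * Q.κ bK = 1 := by rw [← map_mul, Q.κ_one]; exact Or.inl (D.W_sq b hb)
  have hzE : z ∈ P.E := by
    obtain ⟨W8, _, _, ⟨Dd⟩⟩ := Geo.ExtraOut.exists_data P.E_extra
    exact Eq.subst (motive := fun t => t ∈ P.E) (P.Dz_eq Dd) Dd.z.2
  let AE : Subgroup ↥CQ := (P.E.subgroupOf K).map Q.κ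
  have hinjE : Function.Injective (Q.κ.comp (Subgroup.inclusion (P.E_le.trans hJK))) := by
    refine (injective_iff_map_eq_one _).2 fun x hx => Subtype.ext ?_
    rcases (Q.κ_one _).1 hx with r | r
    · exact r
    · have r' : (x : G) = e := r
      rcases P.E_Z _ x.2 (r' ▸ heZ) with q | q
      · exact q
      · exact absurd (r'.symm.trans q) hez
  have hAEc : AE = (Q.κ.comp (Subgroup.inclusion (P.E_le.trans hJK))).range := by
    ext q
    constructor
    · rintro ⟨x, hx, rfl⟩; exact ⟨⟨x, hx⟩, rfl⟩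
    · rintro ⟨x, rfl⟩; exact mem_map_of_mem _ (show ((Subgroup.inclusion (P.E_le.trans hJK) x : K) : G) ∈ P.E from x.2)
  have hzp : ∀ q ∈ zpowers (Q.κ bK), q = 1 ∨ q = Q.κ bK := fun q hq => by
    obtain ⟨i, rfl⟩ := mem_zpowers_iff.1 hq
    rcases Int.even_or_odd' i with ⟨k, rfl | rfl⟩
    · left; rw [zpow_mul, zpow_two, hb2, one_zpow]
    · right; rw [zpow_add, zpow_mul, zpow_two, hb2, one_zpow, one_mul, zpow_one]
  refine ⟨hcore, ⟨zpowers (Q.κ bK), AE, ⟨?_, ?_, ?_, ?_, ?_⟩, ?_, ?_, ?_⟩, ?_, ?_, ?_⟩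
  · rw [hcore]; exact zpowers_le.2 (mem_map_of_mem _ (show (bK : G) ∈ P.J from P.Z_le hbZ))
  · rw [hcore]; exact map_mono fun x hx => P.E_le hx
  · rintro q hq _ ⟨x, hx, rfl⟩
    rcases hzp q hq with rfl | rfl
    · rw [one_mul, mul_one]
    · rw [← map_mul, ← map_mul]
      exact congrArg Q.κ (Subtype.ext (P.Z_cen _ (P.E_le hx) b hbZ).eq.symm)
  · rw [eq_bot_iff]
    rintro q ⟨hq, x, hx, hxq⟩
    rcases hzp q hq with r | r
    · rw [r]; exact one_mem _
    exfalso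
    have h1 : Q.κ (x⁻¹ * bK) = 1 := by rw [map_mul, map_inv, hxq, r, inv_mul_cancel]
    have hb' : ∀ w : G, w ∈ P.Z → (x : G) * w = b → False := by
      intro w hw hxw
      have hxZ : (x : G) ∈ P.Z := by
        have := mul_mem (hxw.symm ▸ hbZ : (x : G) * w ∈ P.Z) (inv_mem hw)
        rwa [mul_inv_cancel_right] at this
      rcases (Q.κ_one _).1 h1 with q1 | q1
      · have q2 : (x : G) = b := inv_mul_eq_one.1 q1
        rcases P.E_Z _ (show (x : G) ∈ P.E from hx) hxZ with q | q <;> rw [q] at q2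
        · exact hb1 q2.symm
        · exact D.z_notW (q2 ▸ hb)
      · have q2 : b = (x : G) * e := inv_mul_eq_iff_eq_mul.1 q1
        rcases P.E_Z _ (show (x : G) ∈ P.E from hx) hxZ with q | q <;> rw [q] at q2
        · exact hbe (by rw [q2, one_mul])
        · have q3 : b * a0 ∈ D.W := mul_mem hb ha
          rcases he with rfl | rfl
          · rw [q2, mul_assoc, he2, mul_one] at q3
            exact D.z_notW q3
          · refine hba ?_
            rw [q2, ← mul_assoc, ← (D.W_comm ha).eq, mul_assoc, D.z_sq, mul_one]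
    rcases (Q.κ_one _).1 h1 with q1 | q1
    · exact hb' 1 (one_mem _) (by rw [mul_one]; exact inv_mul_eq_one.1 q1)
    · exact hb' e heZ (inv_mul_eq_iff_eq_mul.1 q1).symm
  · rw [hcore]
    refine le_antisymm (sup_le (zpowers_le.2 (mem_map_of_mem _ (show (bK : G) ∈ P.J from P.Z_le hbZ)))
      (map_mono fun x hx => P.E_le hx)) ?_
    rintro _ ⟨⟨j, hjK⟩, hj, rfl⟩
    obtain ⟨a, hae, w, hw, rfl⟩ := P.J_EZ j hj
    have hwK : w ∈ K := hJK (P.Z_le hw)
    have key : ∀ v : G, ∀ hv : v ∈ K, v ∈ D.W → Q.κ ⟨v, hv⟩ ∈ zpowers (Q.κ bK) ⊔ AE := by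
      intro v hv hvW
      have hzz : Q.κ ⟨z, hJK P.z_mem⟩ ∈ AE := mem_map_of_mem _ (show ((⟨z, hJK P.z_mem⟩ : K) : G) ∈ P.E from hzE)
      have ha0 : Q.κ ⟨a0, hJK (P.Z_le haZ)⟩ ∈ AE := by
        rcases he with rfl | rfl
        · rw [show Q.κ ⟨e, hJK (P.Z_le haZ)⟩ = 1 from (Q.κ_one _).2 (Or.inr rfl)]; exact one_mem _
        · have e1 : Q.κ ⟨a0 * z, heK⟩ = 1 := (Q.κ_one _).2 (Or.inr rfl)
          have e2 : Q.κ ⟨a0, hJK (P.Z_le haZ)⟩ = Q.κ ⟨a0 * z, heK⟩ * Q.κ ⟨z, hJK P.z_mem⟩ := by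
            rw [← map_mul]
            exact congrArg Q.κ (Subtype.ext (by simp [mul_assoc, P.z_sq]))
          rw [e2, e1, one_mul]
          exact hzz
      rcases D.W_cases ha ha1 hb hb1 hba.symm hvW with r | r | r | r <;> subst r
      · rw [show Q.κ ⟨1, hv⟩ = 1 from map_one Q.κ]; exact one_mem _
      · exact mem_sup_right ha0
      · exact mem_sup_left (mem_zpowers _)
      · rw [show Q.κ ⟨a0 * b, hv⟩ = Q.κ ⟨a0, hJK (P.Z_le haZ)⟩ * Q.κ bK from map_mul Q.κ ⟨a0, hJK (P.Z_le haZ)⟩ bK]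
        exact mul_mem (mem_sup_right ha0) (mem_sup_left (mem_zpowers _))
    rw [show Q.κ ⟨a * w, hjK⟩ = Q.κ ⟨a, hJK (P.E_le hae)⟩ * Q.κ ⟨w, hwK⟩ from
      map_mul Q.κ ⟨a, hJK (P.E_le hae)⟩ ⟨w, hwK⟩]
    refine mul_mem (mem_sup_right (mem_map_of_mem _ (show ((⟨a, hJK (P.E_le hae)⟩ : K) : G) ∈ P.E from hae))) ?_
    rcases (show InZ D.W z w from (D.pr_zero w (hJ ▸ P.Z_le hw)).1 (by
        refine R4.nondeg _ fun v => ?_
        obtain ⟨x, hx, rfl⟩ := D.pr_surj v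
        exact (D.comm_iff (hJ ▸ P.Z_le hw) hx).1 (P.Z_cen x (hJ ▸ hx) w hw).symm)) with r | r
    · exact key w hwK r
    · have hwz : w * z ∈ K := mul_mem hwK (hJK P.z_mem)
      have e2 : Q.κ ⟨w, hwK⟩ = Q.κ ⟨w * z, hwz⟩ * Q.κ ⟨z, hJK P.z_mem⟩ := by
        rw [← map_mul]
        exact congrArg Q.κ (Subtype.ext (by simp [mul_assoc, P.z_sq]))
      rw [e2]
      exact mul_mem (key _ hwz r)
        (mem_sup_right (mem_map_of_mem _ (show ((⟨z, hJK P.z_mem⟩ : K) : G) ∈ P.E from hzE)))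
  · rw [Nat.card_zpowers]
    exact orderOf_eq_prime (by rw [pow_two]; exact hb2) hb0
  · rw [hAEc]
    exact LargeExtra.isExtraspecial_equiv (MonoidHom.ofInjective hinjE) P.E_extra
  · rw [hAEc, ← Nat.card_congr (MonoidHom.ofInjective hinjE).toEquiv, P.E_card]
  · intro zc hzc
    have hz' : zc = Q.κ ⟨z, hJK P.z_mem⟩ := Subtype.ext (hzc.trans (Q.zq_def.trans (Q.κ_val ⟨z, hJK P.z_mem⟩).symm))
    rw [hcore]
    refine le_antisymm ?_ ?_
    · rw [commutator_le]
      rintro _ ⟨x, hx, rfl⟩ _ ⟨y, hy, rfl⟩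
      rw [← map_commutatorElement]
      rcases P.comm _ hx _ hy with r | r
      · rw [show ⁅x, y⁆ = 1 from Subtype.ext (by simpa [commutatorElement_def] using r), map_one]; exact one_mem _
      · rw [show ⁅x, y⁆ = ⟨z, hJK P.z_mem⟩ from Subtype.ext (by simpa [commutatorElement_def] using r), ← hz']
        exact mem_zpowers _
    · rw [zpowers_le, hz']
      obtain ⟨i, hi, ei⟩ := D.pr_surj p0
      obtain ⟨j, hj, hj0⟩ : ∃ j ∈ D.J, ¬ Commute i j := by
        by_contra hno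
        push Not at hno
        refine LS_p0.2.2 (ei ▸ R4.nondeg _ fun v => ?_)
        obtain ⟨j, hj, rfl⟩ := D.pr_surj v
        exact (D.comm_iff hi hj).1 (hno j hj)
      have hc := (D.comm_cases hi hj).resolve_left fun h => hj0 (mul_inv_eq_iff_eq_mul.1 (mul_inv_eq_one.1 h))
      rw [hJ] at hi hj
      rw [show (⟨z, hJK P.z_mem⟩ : K) = ⁅(⟨i, hJK hi⟩ : K), ⟨j, hJK hj⟩⁆ from
        Subtype.ext (by simp [commutatorElement_def, hc]), map_commutatorElement]
      exact commutator_mem_commutator (mem_map_of_mem _ hi) (mem_map_of_mem _ hj)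
  · intro q hq
    obtain ⟨g, rfl⟩ := Q.κ_surj q
    rw [hcore] at hq ⊢
    refine mem_map_of_mem _ (show (g : G) ∈ P.J from ?_)
    have hgz := (Cz.mem_Kc.1 g.2).1
    rw [← hJ, ← D.act_J _ hgz]
    refine LinearEquiv.ext fun v => ?_
    obtain ⟨j, hj, rfl⟩ := D.pr_surj v
    show D.act g (D.pr j) = D.pr j
    have hjK : j ∈ K := hJK (hJ ▸ hj)
    have h1 : Q.κ (g * ⟨j, hjK⟩ * g⁻¹ * (⟨j, hjK⟩ : K)⁻¹) = 1 := by
      have h2 := mem_centralizer_iff.1 hq _ (mem_map_of_mem Q.κ (show (⟨j, hjK⟩ : K) ∈ P.J.subgroupOf K from Subgroup.mem_subgroupOf.2 (hJ ▸ hj)))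
      rw [map_mul, map_mul, map_mul, map_inv, map_inv, ← h2]
      group
    have h3 : InZ D.W z ((g : G) * j * (g : G)⁻¹ * j⁻¹) := by
      rcases (Q.κ_one _).1 h1 with r | r <;> push_cast at r <;> rw [r]
      · exact Or.inl (one_mem _)
      · exact heI
    have h4 := (D.pr_zero _ (mul_mem (D.conj_mem hgz hj) (inv_mem hj))).2 h3
    rw [D.pr_mul _ (D.conj_mem hgz hj) _ (inv_mem hj), D.pr_inv hj, D.pr_act g hgz j hj] at h4
    exact eq_of_sum_zero h4
  · intro _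
    haveI := psp_simple hF
    have hi := conj_psp_inj hF
    let θK : ↥K →* MulAut (Cfsg.PSp 2 F) := P.θ.comp (Subgroup.inclusion (inf_le_left : K ≤ centralizer ({z} : Set G)))
    have hafix : ∀ i : ℕ, Commute (P.c ^ i) a0 → P.c ^ i = 1 := fun i h => by
      have bad : Commute P.c a0 → False := fun hc => by
        rcases P.cJ a0 (P.Z_le haZ) hc with q | q
        exacts [ha1 q, D.z_notW (q ▸ ha)]
      rcases P.c_pow_cases i with r | r | r
      · exact r
      · exact absurd (r ▸ h) bad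
      · rw [r] at h; exact absurd (show Commute P.c a0 by simpa using h.inv_left) bad
    have hk : ∀ k : K, θK k = 1 ↔ (k : G) ∈ P.J := fun k => by
      constructor
      · intro h
        obtain ⟨j, hj, i, e1⟩ := (P.θ_ker _).1 h
        have e2 : (k : G) = j * P.c ^ i := e1
        have h2 := ((P.Z_cen j hj a0 haZ).inv_left).mul_left (e2 ▸ (Cz.mem_Kc.1 k.2).2)
        rw [inv_mul_cancel_left] at h2
        rw [e2, hafix i h2, mul_one]
        exact hj
      · intro h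
        exact (P.θ_ker _).2 ⟨(k : G), h, 0, by rw [pow_zero, mul_one]; rfl⟩
    have hinn : ∀ p, MulAut.conj p ∈ θK.range := fun p => by
      obtain ⟨g, hg, e1⟩ := (P.th_range hF (MulAut.conj p)).2 ⟨p, rfl⟩
      have hgz : Commute (g : G) z := mem_centralizer_singleton_iff.1 g.2
      refine ⟨⟨g, Cz.mem_Kc.2 ⟨hgz, P.inner_Z hgz hg haZ⟩⟩, ?_⟩
      rw [← e1]; rfl
    have hsur : Function.Surjective θK := by
      have hab1 : a0 * b ≠ 1 := fun h => hba (by rw [eq_inv_of_mul_eq_one_right h, D.W_inv ha])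
      obtain ⟨t, ht, hta, htb⟩ := D.full a0 ha ha1 b hb hb1 hba.symm a0 ha ha1 (a0 * b) (mul_mem ha hb) hab1
        (fun h => hb1 (mul_eq_left.1 h.symm))
      let T : K := ⟨t, Cz.mem_Kc.2 ⟨ht, mul_inv_eq_iff_eq_mul.1 hta⟩⟩
      have hT : θK T ∉ Cfsg.Inn (Cfsg.PSp 2 F) := by
        rintro ⟨p, hp⟩
        obtain ⟨g, hg, e1⟩ := (P.th_range hF (MulAut.conj p)).2 ⟨p, rfl⟩
        have hgz : Commute (g : G) z := mem_centralizer_singleton_iff.1 g.2
        let g' : K := ⟨g, Cz.mem_Kc.2 ⟨hgz, P.inner_Z hgz hg haZ⟩⟩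
        have h1 := (hk (g'⁻¹ * T)).1 (by
          rw [map_mul, map_inv, show θK g' = MulAut.conj p from e1, ← hp, inv_mul_cancel])
        have h2 : (g : G)⁻¹ * t ∈ P.J := h1
        have h3 := (P.inner_Z hgz hg hbZ).mul_left (P.Z_cen _ h2 b hbZ)
        rw [mul_inv_cancel_left] at h3
        rw [h3.eq, mul_inv_cancel_right] at htb
        exact ha1 (mul_eq_right.1 htb.symm)
      intro α
      by_cases hα : α ∈ Cfsg.Inn (Cfsg.PSp 2 F)
      · obtain ⟨p, rfl⟩ := hα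
        exact hinn p
      · obtain ⟨p, hp⟩ := (Subgroup.mul_mem_iff_of_index_two (inn_index_two hF) (a := α) (b := (θK T)⁻¹)).2
          (iff_of_false hα (by rwa [inv_mem_iff]))
        obtain ⟨g, hg⟩ := hinn p
        exact ⟨g * T, by rw [map_mul, hg, hp, inv_mul_cancel_right]⟩
    let ψ : ↥K →* ↥CQ ⧸ Cfsg.pCore 2 ↥CQ := (QuotientGroup.mk' _).comp Q.κ
    have hψ : ψ.ker = θK.ker := by
      ext k
      rw [MonoidHom.mem_ker, MonoidHom.mem_ker, hk]
      refine (QuotientGroup.eq_one_iff (Q.κ k)).trans ?_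
      rw [hcore]
      exact ⟨hmem k, fun h => mem_map_of_mem _ h⟩
    exact ⟨((QuotientGroup.quotientKerEquivOfSurjective ψ
      ((QuotientGroup.mk'_surjective _).comp Q.κ_surj)).symm.trans (QuotientGroup.quotientMulEquivOfEq hψ)).trans
      (QuotientGroup.quotientKerEquivOfSurjective θK hsur)⟩

end CfsgLib.Fi23Cent
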