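import Cfsg.Agent.Fi23Cent.Lin

/-!
The centraliser of an involution whose radical has centre of order eight, in coordinates.
-/

set_option autoImplicit false
set_option maxRecDepth 100000
set_option maxHeartbeats 1000000
set_option linter.style.haveILetI false
set_option linter.unusedSectionVars false

namespace CfsgLib.Fi23Cent

open CfsgLib CfsgLib.U62Cent Subgroup

/-- The elements of the centre of the radical. -/
def InZ {G : Type*} [Group G] (W : Subgroup G) (z a : G) : Prop := a ∈ W ∨ a * z ∈ W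

/-- An involution centraliser in coordinates. -/
structure Cz {G : Type*} [Group G] (z : G) where
  z_sq : z * z = 1
  z_ne : z ≠ 1
  /-- The radical. -/
  J : Subgroup G
  J_comm : ∀ j ∈ J, Commute j z
  z_mem : z ∈ J
  /-- The normal four-group. -/
  W : Subgroup G
  W_le : W ≤ J
  W_card : Nat.card W = 4
  W_sq : ∀ w ∈ W, w * w = 1
  z_notW : z ∉ W
  W_cen : ∀ j ∈ J, ∀ w ∈ W, Commute j w
  W_norm : ∀ h, Commute h z → ∀ w ∈ W, h * w * h⁻¹ ∈ W
  full : ∀ a ∈ W, a ≠ 1 → ∀ b ∈ W, b ≠ 1 → a ≠ b → ∀ a' ∈ W, a' ≠ 1 → ∀ b' ∈ W, b' ≠ 1 → a' ≠ b' →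
    ∃ h, Commute h z ∧ h * a * h⁻¹ = a' ∧ h * b * h⁻¹ = b'
  /-- The action on the radical modulo its centre. -/
  act : G → (V4 ≃ₗ[ZMod 2] V4)
  act_mul : ∀ a b : G, Commute a z → Commute b z → act (a * b) = act a * act b
  act_J : ∀ a, Commute a z → (act a = 1 ↔ a ∈ J)
  act_inner : ∀ a, Commute a z → ((∀ w ∈ W, Commute a w) ↔ ∃ u, act a = R4.r u)
  act_invol : ∀ a, Commute a z → act a * act a = 1 → (∃ u, act a = R4.r u) ∨ Semi (act a)
  act_surj : ∀ u, ∃ a, Commute a z ∧ act a = R4.r u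
  /-- The projection to the radical modulo its centre. -/
  pr : G → V4
  pr_mul : ∀ a ∈ J, ∀ b ∈ J, pr (a * b) = pr a + pr b
  pr_zero : ∀ a ∈ J, (pr a = 0 ↔ InZ W z a)
  pr_surj : ∀ v, ∃ a ∈ J, pr a = v
  sq : ∀ a ∈ J, a * a = if R4.q (pr a) = 0 then 1 else z
  comm : ∀ a ∈ J, ∀ b ∈ J, a * b = if R4.B (pr a) (pr b) = 0 then b * a else b * a * z
  pr_act : ∀ a, Commute a z → ∀ b ∈ J, pr (a * b * a⁻¹) = act a (pr b)

namespace Cz

variable {G : Type*} [Group G] {z : G} (D : Cz z)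

include D

theorem z_inv : z⁻¹ = z := inv_eq_of_mul_eq_one_right D.z_sq

theorem act_one : D.act 1 = 1 := (D.act_J 1 (Commute.one_left z)).2 (one_mem _)

theorem act_inv {a : G} (ha : Commute a z) : D.act a⁻¹ = (D.act a)⁻¹ :=
  eq_inv_of_mul_eq_one_left (by rw [← D.act_mul _ _ ha.inv_left ha, inv_mul_cancel, D.act_one])

theorem act_conj {g a : G} (hg : Commute g z) (ha : Commute a z) :
    D.act (g * a * g⁻¹) = D.act g * D.act a * (D.act g)⁻¹ := by
  rw [D.act_mul _ _ (hg.mul_left ha) hg.inv_left, D.act_mul _ _ hg ha, D.act_inv hg]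

theorem act_of_J {j : G} (hj : j ∈ D.J) : D.act j = 1 := (D.act_J j (D.J_comm j hj)).2 hj

theorem act_invol' {a : G} (ha : Commute a z) (h : a * a = 1) : D.act a * D.act a = 1 := by
  rw [← D.act_mul _ _ ha ha, h, D.act_one]

theorem W_comm {w : G} (hw : w ∈ D.W) : Commute w z := D.J_comm w (D.W_le hw)

theorem W_inv {w : G} (hw : w ∈ D.W) : w⁻¹ = w := inv_eq_of_mul_eq_one_right (D.W_sq w hw)

theorem W_comm_W {v w : G} (hv : v ∈ D.W) (hw : w ∈ D.W) : Commute v w := D.W_cen v (D.W_le hv) w hw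

theorem inZ_mem {a : G} (h : InZ D.W z a) : a ∈ D.J := by
  rcases h with h | h
  · exact D.W_le h
  · have := mul_mem (D.W_le h) D.z_mem
    rwa [mul_assoc, D.z_sq, mul_one] at this

theorem inZ_comm {a j : G} (h : InZ D.W z a) (hj : j ∈ D.J) : Commute j a := by
  rcases h with h | h
  · exact D.W_cen j hj a h
  · have := (D.W_cen j hj _ h).mul_right (D.J_comm j hj)
    rwa [mul_assoc, D.z_sq, mul_one] at this

theorem inZ_sq {a : G} (h : InZ D.W z a) : a * a = 1 := by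
  rcases h with h | h
  · exact D.W_sq a h
  · have := D.W_sq _ h
    rwa [show a * z * (a * z) = a * (z * a) * z by group, ← (D.J_comm a (D.inZ_mem (Or.inr h))).eq,
      ← mul_assoc, mul_assoc, D.z_sq, mul_one] at this

theorem inZ_z : InZ D.W z z := Or.inr (by rw [D.z_sq]; exact one_mem _)

theorem inner_comm {a b : G} (ha : Commute a z) (hW : ∀ w ∈ D.W, Commute a w) (h : InZ D.W z b) :
    Commute a b := by
  rcases h with h | h
  · exact hW b h
  · have := (hW _ h).mul_right ha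
    rwa [mul_assoc, D.z_sq, mul_one] at this

theorem pr_one : D.pr 1 = 0 := (D.pr_zero 1 (one_mem _)).2 (Or.inl (one_mem _))

theorem pr_z : D.pr z = 0 := (D.pr_zero z D.z_mem).2 D.inZ_z

theorem pr_inv {a : G} (ha : a ∈ D.J) : D.pr a⁻¹ = D.pr a := by
  have h := D.pr_mul _ (inv_mem ha) _ ha
  rw [inv_mul_cancel, D.pr_one] at h
  exact eq_of_sum_zero h.symm

theorem inZ_of_pr {a b : G} (ha : a ∈ D.J) (hb : b ∈ D.J) (h : D.pr a = D.pr b) : InZ D.W z (a⁻¹ * b) :=
  (D.pr_zero _ (mul_mem (inv_mem ha) hb)).1 (by rw [D.pr_mul _ (inv_mem ha) _ hb, D.pr_inv ha, h, two_self])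

theorem conj_mem {g a : G} (hg : Commute g z) (ha : a ∈ D.J) : g * a * g⁻¹ ∈ D.J := by
  have hc : Commute (g * a * g⁻¹) z := (hg.mul_left (D.J_comm a ha)).mul_left hg.inv_left
  rw [← D.act_J _ hc, D.act_conj hg (D.J_comm a ha), D.act_of_J ha]
  group

theorem comm_iff {a b : G} (ha : a ∈ D.J) (hb : b ∈ D.J) : Commute a b ↔ R4.B (D.pr a) (D.pr b) = 0 := by
  constructor
  · intro h
    by_contra h0
    have e := D.comm a ha b hb
    rw [if_neg h0, h.eq] at e
    exact D.z_ne (mul_eq_left.1 e.symm)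
  · intro h
    have e := D.comm a ha b hb
    rwa [if_pos h] at e

theorem comm_z {a b : G} (ha : a ∈ D.J) (hb : b ∈ D.J) (h : R4.B (D.pr a) (D.pr b) ≠ 0) :
    a * b * a⁻¹ = b * z := by
  rw [D.comm a ha b hb, if_neg h, mul_assoc b a z, (D.J_comm a ha).eq]
  group

theorem comm_cases {a b : G} (ha : a ∈ D.J) (hb : b ∈ D.J) : a * b * a⁻¹ * b⁻¹ = 1 ∨ a * b * a⁻¹ * b⁻¹ = z := by
  by_cases h : R4.B (D.pr a) (D.pr b) = 0
  · left
    rw [((D.comm_iff ha hb).2 h).eq]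
    group
  · right
    rw [D.comm_z ha hb h, mul_assoc b z, ← (D.J_comm _ (inv_mem hb)).eq]
    group

theorem sq_cases {a : G} (ha : a ∈ D.J) : a * a = 1 ∨ a * a = z := by
  rw [D.sq a ha]
  split_ifs
  · exact Or.inl rfl
  · exact Or.inr rfl

theorem invol_iff {a : G} (ha : a ∈ D.J) : a * a = 1 ↔ R4.q (D.pr a) = 0 := by
  constructor
  · intro h
    by_contra h0
    have e := D.sq a ha
    rw [if_neg h0, h] at e
    exact D.z_ne e.symm
  · intro h
    have e := D.sq a ha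
    rwa [if_pos h] at e

theorem act_q {g : G} (hg : Commute g z) (v : V4) : R4.q (D.act g v) = R4.q v := by
  obtain ⟨j, hj, rfl⟩ := D.pr_surj v
  rw [← D.pr_act g hg j hj]
  have h1 := D.invol_iff hj
  have h2 := D.invol_iff (D.conj_mem hg hj)
  have h3 : g * j * g⁻¹ * (g * j * g⁻¹) = 1 ↔ j * j = 1 := by
    rw [show g * j * g⁻¹ * (g * j * g⁻¹) = g * (j * j) * g⁻¹ by group, conj_eq_one_iff]
  exact (by decide : ∀ a b : ZMod 2, (a = 0 ↔ b = 0) → a = b) _ _ (h2.symm.trans (h3.trans h1))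

theorem pr_fix {g j : G} (hg : Commute g z) (hj : j ∈ D.J) (h : Commute g j) :
    D.act g (D.pr j) = D.pr j := by
  rw [← D.pr_act g hg j hj, h.eq, mul_inv_cancel_right]

theorem fix_comm {g j : G} (hg : Commute g z) (hj : j ∈ D.J) (h : D.act g (D.pr j) = D.pr j) :
    InZ D.W z (g * j * g⁻¹ * j⁻¹) :=
  (D.pr_zero _ (mul_mem (D.conj_mem hg hj) (inv_mem hj))).1
    (by rw [D.pr_mul _ (D.conj_mem hg hj) _ (inv_mem hj), D.pr_inv hj, D.pr_act g hg j hj, h, two_self])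

/-- The images of the part of the radical commuting with an element. -/
def prC (s : G) : AddSubgroup V4 where
  carrier := {v | ∃ j ∈ D.J, Commute j s ∧ D.pr j = v}
  zero_mem' := ⟨1, one_mem _, Commute.one_left s, D.pr_one⟩
  add_mem' := by
    rintro _ _ ⟨i, hi, hi', rfl⟩ ⟨j, hj, hj', rfl⟩
    exact ⟨i * j, mul_mem hi hj, hi'.mul_left hj', D.pr_mul i hi j hj⟩
  neg_mem' := fun {v} hv => by rwa [neg_eq_of_add_eq_zero_left (two_self v)]

theorem prC_le_fix {s : G} (hs : Commute s z) : D.prC s ≤ fixd (D.act s) := by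
  rintro _ ⟨j, hj, hc, rfl⟩
  exact D.pr_fix hs hj hc.symm

/-- An element of the radical outside its centre commutes with a hyperplane. -/
theorem prC_of_J {s : G} (hs : s ∈ D.J) : ∀ v, v ∈ D.prC s ↔ R4.B v (D.pr s) = 0 := fun v => by
  constructor
  · rintro ⟨j, hj, hc, rfl⟩
    exact (D.comm_iff hj hs).1 hc
  · intro h
    obtain ⟨j, hj, rfl⟩ := D.pr_surj v
    exact ⟨j, hj, (D.comm_iff hj hs).2 h, rfl⟩

theorem card_prC_J {s : G} (hs : s ∈ D.J) : 128 ≤ Nat.card (D.prC s) := by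
  classical
  by_cases h : ∀ v, R4.B v (D.pr s) = 0
  · rw [show D.prC s = ⊤ from eq_top_iff.2 fun v _ => (D.prC_of_J hs v).2 (h v), AddSubgroup.card_top, card_V4]
    norm_num
  push Not at h
  obtain ⟨t, ht⟩ := h
  let f : V4 → D.prC s × ZMod 2 := fun v =>
    (⟨v + R4.B v (D.pr s) • t, (D.prC_of_J hs _).2 (by
      rw [R4.B_add_left, R4.B_comm (R4.B v (D.pr s) • t), R4.B_smul_right, R4.B_comm (D.pr s) t, zmod2_ne _ ht,
        mul_one]
      exact (by decide : ∀ a : ZMod 2, a + a = 0) _)⟩, R4.B v (D.pr s))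
  have hf : Function.Injective f := fun a b e => by
    obtain ⟨e1, e2⟩ := Prod.ext_iff.1 e
    have e1' := congrArg Subtype.val e1
    simp only [f] at e1' e2
    rw [e2] at e1'
    exact add_right_cancel e1'
  have h1 := Nat.card_le_card_of_injective f hf
  rw [Nat.card_prod, Nat.card_zmod, card_V4] at h1
  omega

/-- The fixed vectors whose commutators lie in the central involution. -/
def ctrS {s : G} (hs : Commute s z) (hW : ∀ w ∈ D.W, Commute s w) : AddSubgroup V4 where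
  carrier := {v | ∀ j ∈ D.J, D.pr j = v → s * j * s⁻¹ * j⁻¹ = 1 ∨ s * j * s⁻¹ * j⁻¹ = z}
  zero_mem' := fun j hj h => Or.inl (by
    rw [(D.inner_comm hs hW ((D.pr_zero j hj).1 h)).eq]; group)
  add_mem' := by
    intro a b ha hb j hj h
    obtain ⟨i, hi, hia⟩ := D.pr_surj a
    have hb' := hb (i⁻¹ * j) (mul_mem (inv_mem hi) hj) (by
      rw [D.pr_mul _ (inv_mem hi) _ hj, D.pr_inv hi, h, hia, ← add_assoc, two_self, zero_add])
    have ha' := ha i hi hia
    have hcz : i * z * i⁻¹ = z := by rw [(D.J_comm i hi).eq, mul_inv_cancel_right]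
    have key : s * j * s⁻¹ * j⁻¹ =
        s * i * s⁻¹ * i⁻¹ * (i * (s * (i⁻¹ * j) * s⁻¹ * (i⁻¹ * j)⁻¹) * i⁻¹) := by group
    rw [key]
    rcases ha' with e | e <;> rcases hb' with e' | e' <;> rw [e, e'] <;>
      simp [hcz, D.z_sq]
  neg_mem' := fun {v} hv => by rwa [neg_eq_of_add_eq_zero_left (two_self v)]

theorem mem_ctrS {s : G} (hs : Commute s z) (hW : ∀ w ∈ D.W, Commute s w) {v : V4} :
    v ∈ D.ctrS hs hW ↔ ∀ j ∈ D.J, D.pr j = v → s * j * s⁻¹ * j⁻¹ = 1 ∨ s * j * s⁻¹ * j⁻¹ = z := Iff.rfl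

/-- At most half of those vectors are lost. -/
theorem ctrS_le {s : G} (hs : Commute s z) (hW : ∀ w ∈ D.W, Commute s w) :
    Nat.card (D.ctrS hs hW) ≤ 2 * Nat.card (D.prC s) := by
  classical
  by_cases hall : D.ctrS hs hW ≤ D.prC s
  · have := AddSubgroup.card_le_of_le hall
    omega
  obtain ⟨v0, hv0, hv0n⟩ := SetLike.not_le_iff_exists.1 hall
  have key : ∀ v ∈ D.ctrS hs hW, v ∉ D.prC s → v + v0 ∈ D.prC s := by
    intro v hv hvn
    obtain ⟨i, hi, rfl⟩ := D.pr_surj v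
    obtain ⟨j, hj, rfl⟩ := D.pr_surj v0
    have out : ∀ k ∈ D.J, D.pr k ∈ D.ctrS hs hW → D.pr k ∉ D.prC s → s * k * s⁻¹ * k⁻¹ = z := fun k hk hk' hn =>
      (hk' k hk rfl).resolve_left fun e => hn ⟨k, hk, (mul_inv_eq_iff_eq_mul.1 (mul_inv_eq_one.1 e)).symm, rfl⟩
    refine ⟨i * j, mul_mem hi hj, (mul_inv_eq_iff_eq_mul.1 (mul_inv_eq_one.1 ?_)).symm, D.pr_mul i hi j hj⟩
    calc s * (i * j) * s⁻¹ * (i * j)⁻¹ = s * i * s⁻¹ * i⁻¹ * (i * (s * j * s⁻¹ * j⁻¹) * i⁻¹) := by group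
      _ = 1 := by
        rw [out i hi hv hvn, out j hj hv0 hv0n, (D.J_comm i hi).eq, mul_inv_cancel_right, D.z_sq]
  let f : D.ctrS hs hW → D.prC s × Bool := fun v =>
    if h : (v : V4) ∈ D.prC s then (⟨v, h⟩, true) else (⟨v + v0, key v v.2 h⟩, false)
  have hf : Function.Injective f := by
    intro a b e
    simp only [f] at e
    split_ifs at e with h1 h2 h2
    · exact Subtype.ext (congrArg (fun p : D.prC s × Bool => (p.1 : V4)) e)
    · exact absurd (congrArg Prod.snd e) (by simp)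
    · exact absurd (congrArg Prod.snd e) (by simp)
    · exact Subtype.ext (add_right_cancel (congrArg (fun p : D.prC s × Bool => (p.1 : V4)) e))
  have h1 := Nat.card_le_card_of_injective f hf
  rw [Nat.card_prod, Nat.card_eq_fintype_card (α := Bool), Fintype.card_bool] at h1
  omega

/-- Displacements of fixed vectors by elements commuting with the image. -/
theorem disp_ctrS {s h : G} (hs : Commute s z) (hW : ∀ w ∈ D.W, Commute s w) (hh : Commute h z)
    (hhW : ∀ w ∈ D.W, Commute h w) (hc : D.act h * D.act s = D.act s * D.act h) {v : V4}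
    (hv : D.act s v = v) : D.act h v + v ∈ D.ctrS hs hW := by
  intro k hk hkv
  obtain ⟨j, hj, rfl⟩ := D.pr_surj v
  have hjj : h * j * h⁻¹ * j ∈ D.J := mul_mem (D.conj_mem hh hj) hj
  have hζ : InZ D.W z ((h * j * h⁻¹ * j)⁻¹ * k) := D.inZ_of_pr hjj hk (by
    rw [hkv, D.pr_mul _ (D.conj_mem hh hj) _ hj, D.pr_act h hh j hj])
  generalize hζe : (h * j * h⁻¹ * j)⁻¹ * k = ζ at hζ
  have hk' : k = h * j * h⁻¹ * j * ζ := by rw [← hζe]; group
  have hsζ := D.inner_comm hs hW hζ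
  have hi : h⁻¹ * s⁻¹ * h * s ∈ D.J := by
    have hc1 : Commute (h⁻¹ * s⁻¹ * h * s) z := ((hh.inv_left.mul_left hs.inv_left).mul_left hh).mul_left hs
    rw [← D.act_J _ hc1, D.act_mul _ _ ((hh.inv_left.mul_left hs.inv_left).mul_left hh) hs,
      D.act_mul _ _ (hh.inv_left.mul_left hs.inv_left) hh, D.act_mul _ _ hh.inv_left hs.inv_left, D.act_inv hh,
      D.act_inv hs, mul_assoc, hc]
    group
  have hδ : InZ D.W z (s * j * s⁻¹ * j⁻¹) := D.fix_comm hs hj hv
  generalize hδe : s * j * s⁻¹ * j⁻¹ = δ at hδ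
  have hδ2 : δ * δ = 1 := D.inZ_sq hδ
  have hhδ := D.inner_comm hh hhW hδ
  have hsj : s * j * s⁻¹ = δ * j := by rw [← hδe]; group
  have hδj : Commute j δ := D.inZ_comm hδ hj
  generalize hie : h⁻¹ * s⁻¹ * h * s = i at hi
  have e2 : s * (h * j * h⁻¹) * s⁻¹ = h * ((s * i⁻¹) * j * (s * i⁻¹)⁻¹) * h⁻¹ := by rw [← hie]; group
  have e3 : ∀ ε : G, i⁻¹ * j * i = ε * j → Commute ε s → Commute ε h →
      s * (h * j * h⁻¹) * s⁻¹ = ε * δ * (h * j * h⁻¹) := by
    intro ε he hes heh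
    rw [e2, show s * i⁻¹ * j * (s * i⁻¹)⁻¹ = s * (i⁻¹ * j * i) * s⁻¹ by group, he,
      show s * (ε * j) * s⁻¹ = s * ε * s⁻¹ * (s * j * s⁻¹) by group, hes.eq.symm, mul_inv_cancel_right, hsj,
      show h * (ε * (δ * j)) * h⁻¹ = h * ε * h⁻¹ * (h * δ * h⁻¹) * (h * j * h⁻¹) by group, heh.eq.symm,
      hhδ.eq, mul_inv_cancel_right, mul_inv_cancel_right]
  have e4 : ∀ ε : G, i⁻¹ * j * i = ε * j → Commute ε s → Commute ε h →
      s * k * s⁻¹ * k⁻¹ = ε := by
    intro ε he hes heh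
    have hhj : h * j * h⁻¹ ∈ D.J := D.conj_mem hh hj
    have hδc : Commute (h * j * h⁻¹) δ := D.inZ_comm hδ hhj
    rw [hk', show s * (h * j * h⁻¹ * j * ζ) * s⁻¹ = s * (h * j * h⁻¹) * s⁻¹ * (s * j * s⁻¹) * (s * ζ * s⁻¹) by
      group, e3 ε he hes heh, hsj, hsζ.eq, mul_inv_cancel_right]
    generalize h * j * h⁻¹ = p at hδc ⊢
    calc ε * δ * p * (δ * j) * ζ * (p * j * ζ)⁻¹ = ε * δ * (p * δ) * p⁻¹ := by group
      _ = ε * (δ * δ) := by rw [hδc.eq]; group
      _ = ε := by rw [hδ2, mul_one]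
  rcases D.comm_cases (inv_mem hi) hj with e | e
  · left
    refine e4 1 ?_ (Commute.one_left s) (Commute.one_left h)
    rw [← e]; group
  · right
    refine e4 z ?_ hs.symm hh.symm
    rw [← e]; group

end Cz

end CfsgLib.Fi23Cent
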